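import Mathlib
import Cfsg.Agent.Math.Kit2

/-!
More glue lemmas: rational elements of prime order, counting involutions.
-/

set_option autoImplicit false
set_option linter.style.haveILetI false
set_option linter.unusedSectionVars false

namespace Cfsg.Agent.Math

open Subgroup Cfsg.Agent.Small Cfsg.Agent.Grp Cfsg.Agent.Grp.SelfCent Cfsg.Agent.Char
open Cfsg.Agent.Char.SelfC Cfsg.Agent.Char.Euclid Cfsg.Agent.Block Cfsg.Agent.Small.Sieve
open scoped ComplexConjugate

theorem ms_four {α : Type*} (R : Multiset α) (a b c d : α)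
    (h : ∀ r ∈ R, r = a ∨ r = b ∨ r = c ∨ r = d) : ∃ i j k l, R = Multiset.replicate i a +
      Multiset.replicate j b + Multiset.replicate k c + Multiset.replicate l d := by
  induction R using Multiset.induction_on with
  | empty => exact ⟨0, 0, 0, 0, rfl⟩
  | cons r R ih =>
    obtain ⟨i, j, k, l, rfl⟩ := ih fun s hs => h s (Multiset.mem_cons_of_mem hs)
    rcases h r (Multiset.mem_cons_self _ _) with rfl | rfl | rfl | rfl
    · exact ⟨i + 1, j, k, l, by simp [Multiset.replicate_succ]⟩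
    · exact ⟨i, j + 1, k, l, by simp [Multiset.replicate_succ]⟩
    · exact ⟨i, j, k + 1, l, by simp [Multiset.replicate_succ]⟩
    · exact ⟨i, j, k, l + 1, by simp [Multiset.replicate_succ]⟩

variable {G : Type*} [Group G] [Finite G] {p : ℕ} [hp : Fact p.Prime] {x : G}

local notation "𝐏" => zpowers x
local notation "𝐂" => centralizer (Singleton.singleton x : Set G)
local notation "𝐍" => normalizer ((zpowers x : Subgroup G) : Set G)

theorem sum_rows_mul {t : G} (ht : IsRat t) (h1 : t ≠ 1) :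
    ((rows t).map fun r => (r.1 : ℤ) * r.2).sum = 0 := by
  rw [rows, Multiset.map_map, ← sum_iv_one_mul ht h1]
  exact Finset.sum_congr rfl fun χ _ => by simp [row, iv_one]

theorem ncard_isConj (a : G) : {b | IsConj a b}.ncard = (centralizer ({a} : Set G)).index := by
  haveI := Fintype.ofFinite G
  have h := card_centralizer_mul_card_isConj a
  rw [← (centralizer ({a} : Set G)).card_mul_index, Nat.cast_mul,
    mul_right_inj' (card_ne_zero _), Nat.cast_inj] at h
  exact h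

theorem sq_of_isConj {a b : G} (ha : a * a = 1) (h : IsConj a b) : b * b = 1 := by
  obtain ⟨c, rfl⟩ := isConj_iff.1 h
  rw [conj_mul, ha]; simp

theorem le_card_sqrt {s t : G} (hs : s * s = 1) (hs1 : s ≠ 1) (ht : t * t = 1) (ht1 : t ≠ 1)
    (h : (centralizer ({s} : Set G)).index ≠ (centralizer ({t} : Set G)).index) :
    1 + (centralizer ({s} : Set G)).index + (centralizer ({t} : Set G)).index ≤
      Nat.card {u : G // u * u = 1} := by
  rw [← ncard_isConj, ← ncard_isConj] at h ⊢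
  rw [← Set.ncard_singleton (1 : G), ← Set.ncard_union_eq, ← Set.ncard_union_eq]
  · refine Set.ncard_le_ncard (t := {u : G | u * u = 1}) ?_
    rintro u ((rfl | h) | h)
    exacts [mul_one 1, sq_of_isConj hs h, sq_of_isConj ht h]
  · rw [Set.disjoint_left]
    rintro u (rfl | h1) h2
    · exact ht1 (isConj_one_left.1 h2)
    · refine h (congrArg _ (Set.ext fun b => ⟨fun h3 => h2.trans (h1.symm.trans h3),
        fun h3 => h1.trans (h2.symm.trans h3)⟩))
  · rw [Set.disjoint_left]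
    rintro u rfl h2
    exact hs1 (isConj_one_left.1 h2)

theorem fs_count [Fintype G] (Y : Finset (IrrCharacter G)) (hY : ∀ θ ∈ Y, fsInd θ.1 = 0) :
    Nat.card {u : G // u * u = 1} + ∑ θ ∈ Y, dg θ ≤ ∑ χ : IrrCharacter G, dg χ ∧
      ∀ χ ∉ Y, fsInd χ.1 ≠ 1 →
        Nat.card {u : G // u * u = 1} + ∑ θ ∈ Y, dg θ < ∑ χ : IrrCharacter G, dg χ := by
  classical
  have h1 : ∀ χ : IrrCharacter G, ∃ n : ℤ, fsInd χ.1 = n ∧ n ≤ 1 := fun χ => by
    rcases fsInd_trichotomy χ.2 with h | h | h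
    exacts [⟨0, by simpa using h, by norm_num⟩, ⟨1, by simpa using h, le_rfl⟩,
      ⟨-1, by simpa using h, by norm_num⟩]
  choose ν h2 h3 using h1
  have h4 : (Nat.card {u : G // u * u = 1} : ℤ) = ∑ χ ∈ Yᶜ, ν χ * dg χ := by
    apply Int.cast_injective (α := ℂ)
    rw [Int.cast_natCast, card_sqrt_eq_sum, ← Finset.sum_add_sum_compl Y,
      Finset.sum_eq_zero fun θ hθ => by rw [hY θ hθ, zero_mul], zero_add, Int.cast_sum]
    exact Finset.sum_congr rfl fun χ _ => by rw [h2, ← dg_cast]; simp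
  have h5 : ∀ χ ∈ Yᶜ, ν χ * dg χ ≤ dg χ := fun χ _ => by
    nlinarith [h3 χ, Nat.cast_nonneg (α := ℤ) (dg χ)]
  rw [← Finset.sum_add_sum_compl Y, add_comm (∑ θ ∈ Y, dg θ)]
  refine ⟨Nat.add_le_add_right ?_ _, fun χ h6 h7 => Nat.add_lt_add_right ?_ _⟩ <;> zify <;> rw [h4]
  · exact Finset.sum_le_sum h5
  · refine Finset.sum_lt_sum h5 ⟨χ, Finset.mem_compl.2 h6, ?_⟩
    have h8 : ν χ ≠ 1 := fun h => h7 (by rw [h2, h, Int.cast_one])
    have h9 : (0 : ℤ) < dg χ := by exact_mod_cast dg_pos χ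
    nlinarith [show ν χ ≤ 0 by have := h3 χ; omega]

theorem sum_dg (t : G) : ∑ χ : IrrCharacter G, dg χ = ((rows t).map (·.1)).sum := by
  rw [rows, Multiset.map_map]; rfl

theorem iv_zero {y : G} (hy : orderOf y = p) (hN : ¬ p ^ 2 ∣ Nat.card G) {χ : IrrCharacter G}
    (h : p ∣ dg χ) : iv χ y = 0 :=
  iv_eq (by
    rw [χ.2.eq_zero_of_pow_dvd (n := 1) hp.out (dg_cast χ).symm hN (by rwa [pow_one])
      (hy ▸ dvd_rfl), Int.cast_zero])

namespace BD

variable (D : BD p x)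

theorem isConj_of_mem (he : D.e + 1 = p) {z : G} (hz : z ∈ 𝐏) (h1 : z ≠ 1) : IsConj x z := by
  letI : MulAction 𝐍 G := MulAction.compHom G (MulAut.conj.comp (𝐍).subtype)
  have h2 : MulAction.stabilizer 𝐍 x = (𝐂).subgroupOf 𝐍 := by
    ext n
    rw [mem_subgroupOf, mem_centralizer_singleton_iff, ← mul_inv_eq_iff_eq_mul]
    rfl
  have h3 := MulAction.index_stabilizer 𝐍 x
  rw [h2] at h3
  have h4 : MulAction.orbit 𝐍 x = (𝐏 : Set G) \ {1} := by
    refine Set.eq_of_subset_of_ncard_le ?_ ?_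
    · rintro _ ⟨n, rfl⟩
      refine ⟨(mem_normalizer_zpowers_iff x n).1 n.2, fun h => ne_one D.ox ?_⟩
      exact conj_eq_one_iff.1 h
    · rw [← h3, Set.ncard_sdiff_singleton_of_mem (one_mem _), ← Nat.card_coe_set_eq]
      change Nat.card 𝐏 - 1 ≤ (𝐂).relIndex 𝐍
      rw [card_zp D.ox, D.he]; omega
  obtain ⟨n, hn⟩ : z ∈ MulAction.orbit 𝐍 x := h4 ▸ ⟨hz, h1⟩
  exact isConj_iff.2 ⟨n, hn⟩

theorem isRat (he : D.e + 1 = p) : IsRat x :=
  isRat_of_orderOf fun m _ h => D.isConj_of_mem he (npow_mem_zpowers x m) fun h1 => by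
    rw [← orderOf_dvd_iff_pow_eq_one] at h1
    exact ne_one D.ox (orderOf_eq_one_iff.1 (h.symm.eq_one_of_dvd h1))

theorem rws_self (he : D.e + 1 = p) (t : G) :
    D.rws x = (D.rws t).map fun r => (r.1, wt p D.e r.1) := by
  have h1 : D.Y.card = 1 := by
    rw [D.cardY_eq, show p - 1 = D.e by omega]; exact Nat.div_self D.e_pos
  rw [rws, rws, Multiset.map_map]
  refine Multiset.map_congr rfl fun χ hχ => Prod.ext rfl (iv_eq ?_)
  change _ = ((wt p D.e (dg χ) : ℤ) : ℂ)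
  rcases D.mem_blk.1 hχ with h | h
  · rw [D.wt_X h, h1, D.valX' h (mem_zpowers x) (ne_one D.ox)]; simp
  · have h2 : 2 < p := lt_of_le_of_ne hp.out.two_le D.odd.symm
    obtain ⟨a, ha⟩ := Finset.card_eq_one.1 h1
    have h3 := D.sumY' (mem_zpowers x) (ne_one D.ox)
    rw [D.dg_Y h, D.wt_Y (by omega)]
    rw [ha, Finset.mem_singleton] at h
    rw [ha, Finset.sum_singleton, ← h] at h3
    simpa using h3

theorem exists_w {l : List ℤ} (hl : ↑l = degs D.toB0Data) (t : G) :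
    ∃ w : List (ℤ × ℤ), ↑w = D.prs t ∧ w.map (·.1) = l := by
  obtain ⟨W, hW⟩ := Quotient.exists_rep (D.prs t)
  replace hW : (W : Multiset (ℤ × ℤ)) = D.prs t := hW
  obtain ⟨w, h1, h2, -⟩ := exists_sorted (fun _ => 0) l W
    (Multiset.coe_eq_coe.1 (by rw [D.map_fst hW, hl]))
  exact ⟨w, (Multiset.coe_eq_coe.2 h1).trans hW, h2⟩

theorem even_of_isConj (h : IsConj x x⁻¹) : 2 ∣ D.e := by
  obtain ⟨u, h⟩ := isConj_iff.1 h
  have h1 : u ∈ 𝐍 := (mem_normalizer_zpowers_iff x u).2 (h ▸ inv_mem (mem_zpowers x))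
  haveI : ((𝐂).subgroupOf 𝐍).Normal := by
    rw [← centralizer_zpowers]; infer_instance
  have h3 : orderOf (QuotientGroup.mk ⟨u, h1⟩ : 𝐍 ⧸ (𝐂).subgroupOf 𝐍) = 2 := by
    refine orderOf_eq_prime ?_ fun h4 => ?_
    · rw [← QuotientGroup.mk_pow, QuotientGroup.eq_one_iff, mem_subgroupOf,
        mem_centralizer_singleton_iff, ← mul_inv_eq_iff_eq_mul]
      change u ^ 2 * x * (u ^ 2)⁻¹ = x
      calc u ^ 2 * x * (u ^ 2)⁻¹ = u * (u * x * u⁻¹) * u⁻¹ := by rw [sq]; group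
        _ = x := by rw [h, ← conj_inv, h, inv_inv]
    · have h5 : u * x = x * u := mem_centralizer_singleton_iff.1
        (mem_subgroupOf.1 ((QuotientGroup.eq_one_iff _).1 h4))
      rw [h5, mul_inv_cancel_right, eq_inv_iff_mul_eq_one] at h
      exact not_dvd_orderOf h hp.out D.odd (D.ox ▸ dvd_rfl)
  rw [← D.he, ← h3]
  exact orderOf_dvd_natCard _

theorem fsInd_Y [Fintype G] (hc : D.c = 1) (he : ¬ 2 ∣ D.e) (hY : D.Y.card = 2)
    {θ : IrrCharacter G} (hθ : θ ∈ D.Y) : fsInd θ.1 = 0 := by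
  classical
  refine fsInd_eq_zero_of_not_real θ.2 fun h => he (D.even_of_isConj
    ((isConj_iff_irr _ _).2 fun χ => ?_))
  rw [χ.2.map_inv, eq_comm, Complex.conj_eq_iff_im]
  by_cases h1 : χ ∈ D.X
  · rw [D.valX' h1 (mem_zpowers x) (ne_one D.ox)]; simp
  by_cases h2 : χ ∈ D.Y
  · by_cases h3 : χ = θ
    · exact h3 ▸ h x
    have h4 := congrArg Complex.im (D.sumY' (mem_zpowers x) (ne_one D.ox))
    rw [← Finset.eq_of_subset_of_card_le (s := {χ, θ}) (t := D.Y) (by
      simp [Finset.insert_subset_iff, h2, hθ]) (by rw [hY, Finset.card_pair h3]),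
      Finset.sum_pair h3] at h4
    simpa [h x] using h4
  · rw [D.out (D.cent_of_c hc) χ h1 h2 x (D.ox ▸ dvd_rfl)]; simp

end BD

end Cfsg.Agent.Math
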