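import Cfsg.Agent.DegG.Six
import Cfsg.Agent.Char.DegreeP
import Cfsg.Agent.FGS.SchurBasic
import Cfsg.Agent.S0188
import Cfsg.Agent.S0228

/-!
Reduction of a group with a Sylow subgroup of prime order to a simple section.
-/

set_option autoImplicit false
set_option linter.style.haveILetI false
set_option linter.unusedSectionVars false

namespace Cfsg.Agent.Math.DegR

open Subgroup Cfsg.Agent.Char Cfsg.Agent.DegG

variable {G : Type*} [Group G] [Finite G]

theorem card_sylow_of_central {p : ℕ} [Fact p.Prime] {T : Type*} [Group T] [Finite T] {f : G →* T}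
    (hf : Function.Surjective f) (hk : f.ker ≤ center G) :
    Nat.card (Sylow p T) = Nat.card (Sylow p G) := by
  refine (Nat.card_congr (Equiv.ofBijective (fun P : Sylow p G => P.mapSurjective hf)
    ⟨fun P Q h => ?_, Sylow.mapSurjective_surjective hf p⟩)).symm
  have h1 : (P : Subgroup G) ⊔ f.ker = (Q : Subgroup G) ⊔ f.ker := by
    rw [← comap_map_eq, ← comap_map_eq]
    exact congrArg (fun R : Sylow p T => (R : Subgroup T).comap f) h
  have h2 : ∀ R : Sylow p G, (R : Subgroup G) ⊔ f.ker ≤ normalizer ((R : Subgroup G) : Set G) :=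
    fun R => sup_le le_normalizer (hk.trans (center_le_normalizer _))
  have h3 : (Q : Subgroup G) ≤ normalizer ((P : Subgroup G) : Set G) :=
    (le_sup_left.trans h1.ge).trans (h2 P)
  exact Sylow.ext (Q.is_maximal' (IsPGroup.to_sup_of_normal_left' P.2 Q.2 h3) le_sup_right ▸
    (P.is_maximal' (IsPGroup.to_sup_of_normal_left' P.2 Q.2 h3) le_sup_left).symm)

theorem card_sylow_of_normal {p : ℕ} [Fact p.Prime] (L : Subgroup G) [L.Normal] (P : Sylow p G)
    (h : (P : Subgroup G) ≤ L) : Nat.card (Sylow p L) = Nat.card (Sylow p G) := by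
  have h1 : ∀ Q : Sylow p G, (Q : Subgroup G) ≤ L := fun Q => by
    obtain ⟨g, rfl⟩ := MulAction.exists_smul_eq G P Q
    rintro _ ⟨y, hy, rfl⟩
    exact (inferInstance : L.Normal).conj_mem _ (h hy) g
  refine (Nat.card_congr (Equiv.ofBijective (fun Q : Sylow p G => Q.subtype (h1 Q))
    ⟨fun _ _ => Sylow.subtype_injective, fun R => ?_⟩)).symm
  obtain ⟨Q, hQ⟩ := (R.2.map L.subtype).exists_le_sylow
  refine ⟨Q, Sylow.ext (R.is_maximal' (Q.subtype (h1 Q)).2 ?_)⟩
  exact map_le_iff_le_comap.1 hQ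

/-- the simple section attached to a non-normal Sylow subgroup of prime order -/
theorem red {p m : ℕ} [Fact p.Prime] (hG : Nat.card G = p * m) (hm : ¬ p ∣ m)
    (hq : ∀ d ∈ Nat.divisors m, IsPrimePow d → d % p ≠ 1) (hP : Nat.card (Sylow p G) ≠ 1) :
    ∃ (L : Subgroup G) (_ : L.Normal) (T : Type) (_ : Group T) (_ : Finite T) (f : L →* T),
      IsSimpleGroup T ∧ ¬ IsMulCommutative T ∧ IsStemExtension f ∧ p ∣ Nat.card T ∧
      Nat.card T * (Nat.card f.ker * L.index) = Nat.card G ∧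
      Nat.card (Sylow p T) = Nat.card (Sylow p G) ∧
      ∀ d ∈ charDegrees G, ∃ e a, d = e * a ∧ e ∣ L.index ∧ a ∈ charDegrees L ∧
        a ^ 2 ≤ Nat.card T := by
  obtain ⟨P⟩ : Nonempty (Sylow p G) := inferInstance
  obtain ⟨N, T, _, _, f, h⟩ := exists_top hG hm P
  have hm0 : m ≠ 0 := fun h => hm (h ▸ dvd_zero p)
  have h1 := h.not_comm hG (fun h2 => hP (by
    rw [P.card_eq_index_normalizer, index_eq_one]; exact normalizer_eq_top_iff.2 h2)) fun d hd h1 h2 => hq d hd h2 h1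
  haveI := h.normal
  have h2 := le_centralizer_of_coprime N h.ndvd P (le_normalizer_of_coprime N h.ndvd P
    fun d hd => hq d (Nat.mem_divisors.2 ⟨hd.trans (h.card_N_dvd hG), hm0⟩))
  have h3 : f.ker ≤ center _ := fun x hx => mem_center_iff.2 fun g =>
    Subtype.ext (h2 g.2 _ ((h.ker x).1 hx)).symm
  have h4 : Nat.card T = f.ker.index := by
    rw [index_ker, MonoidHom.range_eq_top.2 h.surj, card_top]
  refine ⟨_, inferInstance, T, _, inferInstance, f, h.simple, h1,
    ⟨h.surj, h3, h.perfect hG hm h1 ▸ le_top⟩, h.dvd, ?_, ?_, fun d hd => ?_⟩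
  · rw [← mul_assoc, h4, index_mul_card, card_mul_index]
  · rw [card_sylow_of_central h.surj h3, card_sylow_of_normal _ P le_normalClosure]
  · obtain ⟨χ, rfl⟩ := hd
    haveI := Fintype.ofFinite G
    haveI := Fintype.ofFinite (normalClosure ((P : Subgroup G) : Set G))
    obtain ⟨θ, hθ, h5⟩ := exists_irr_inner_restrict_ne_zero
      (normalClosure ((P : Subgroup G) : Set G)) χ.2
    obtain ⟨e, he, h6⟩ := exists_deg_eq_mul_dvd_index _ hθ χ.2 h5
    refine ⟨e, _, charDegree_eq_of_one_eq ?_, h6, ⟨⟨θ, hθ⟩, rfl⟩,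
      (charDegree_sq_le_index_center ⟨θ, hθ⟩).trans ?_⟩
    · rw [he, Nat.cast_mul, coe_charDegree_irr ⟨θ, hθ⟩]
    · exact h4 ▸ index_antitone h3

theorem sylow_ne_one {p m : ℕ} [Fact p.Prime] (hp : p ∈ degreePrimes G)
    (hG : Nat.card G = p * m) (hm : ¬ p ∣ m) : Nat.card (Sylow p G) ≠ 1 := fun h => by
  obtain ⟨P⟩ : Nonempty (Sylow p G) := inferInstance
  rw [P.card_eq_index_normalizer, index_eq_one] at h
  exact not_normal_of_mem hp hG hm P (normalizer_eq_top_iff.1 h)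

theorem simple_of_card {L : Subgroup G} {T : Type*} [Group T] [IsSimpleGroup T] {f : L →* T}
    (hf : Function.Surjective f) (h : Nat.card T * (Nat.card f.ker * L.index) = Nat.card G)
    (hc : Nat.card T = Nat.card G) : IsSimpleGroup G := by
  rw [hc, Nat.mul_eq_left Nat.card_pos.ne', mul_eq_one, card_eq_one, index_eq_one] at h
  exact ((topEquiv.symm.trans (MulEquiv.subgroupCongr h.2.symm)).trans
    (MulEquiv.ofBijective f ⟨(MonoidHom.ker_eq_bot_iff f).1 h.1, hf⟩)).isSimpleGroup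

/-- a complete normal subgroup is a direct factor -/
theorem prod_of_out (L : Subgroup G) [hL : L.Normal] (hZ : center L = ⊥)
    (h : Nat.card (Out L) = 1) : Nonempty (G ≃* centralizer (L : Set G) × L) := by
  have : Subsingleton (Out L) := (Nat.card_eq_one_iff_unique.1 h).1
  let φ : centralizer (L : Set G) × L →* G := (centralizer (L : Set G)).subtype.noncommCoprod
    L.subtype fun a b => (a.2 b b.2).symm
  refine ⟨(MulEquiv.ofBijective φ ⟨(injective_iff_map_eq_one φ).2 fun x hx => ?_, fun g => ?_⟩).symm⟩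
  · have h1 : (x.1 : G) * x.2 = 1 := hx
    have h2 : x.2 ∈ center L := mem_center_iff.2 fun y => Subtype.ext (by
      change y.1 * x.2 = x.2 * y.1
      rw [eq_inv_of_mul_eq_one_right h1]
      exact inv_mem x.1.2 y y.2)
    rw [hZ, mem_bot] at h2
    rw [h2, OneMemClass.coe_one, mul_one] at h1
    exact Prod.ext (Subtype.ext h1) h2
  · obtain ⟨x, hx⟩ : (MulAut.conjNormal g : MulAut L) ∈ Inn L :=
      (QuotientGroup.eq_one_iff (N := Inn L) _).1 (Subsingleton.elim _ _)
    refine ⟨(⟨g * (x : G)⁻¹, fun y hy => ?_⟩, x), inv_mul_cancel_right g x⟩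
    have h1 : (x : G) * (g⁻¹ * y * g⁻¹⁻¹) * (x : G)⁻¹ = g * (g⁻¹ * y * g⁻¹⁻¹) * g⁻¹ := by
      simpa using congrArg Subtype.val (DFunLike.congr_fun hx ⟨_, hL.conj_mem y hy g⁻¹⟩)
    calc y * (g * (x : G)⁻¹) = g * (x : G)⁻¹ * (x * (g⁻¹ * y * g⁻¹⁻¹) * (x : G)⁻¹) := by group
      _ = _ := by rw [h1]; group

omit [Finite G] in
theorem card_out_congr {H : Type*} [Group H] (e : G ≃* H) : Nat.card (Out G) = Nat.card (Out H) :=
  Nat.card_congr (QuotientGroup.congr _ _ (MulAut.congr e) (by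
    ext a
    constructor
    · rintro ⟨_, ⟨g, rfl⟩, rfl⟩
      exact ⟨e g, by ext x; simp [MulAut.congr]⟩
    · rintro ⟨g, rfl⟩
      exact ⟨_, ⟨e.symm g, rfl⟩, by ext x; simp [MulAut.congr]⟩) : Out G ≃* Out H).toEquiv

theorem degs_prod {A B : Type*} [Group A] [Group B] [Finite A] [Finite B] {d : ℕ}
    (h : d ∈ charDegrees (A × B)) : ∃ a ∈ charDegrees A, ∃ b ∈ charDegrees B, d = a * b := by
  obtain ⟨χ, rfl⟩ := h
  obtain ⟨φ, ψ, h1, h2, h3⟩ := (S0188.result _).1 χ.2
  refine ⟨_, ⟨⟨φ, h1⟩, rfl⟩, _, ⟨⟨ψ, h2⟩, rfl⟩, charDegree_eq_of_one_eq ?_⟩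
  rw [h3, Nat.cast_mul, coe_charDegree_irr ⟨φ, h1⟩, coe_charDegree_irr ⟨ψ, h2⟩]
  rfl

theorem alt4_of_deg (hG : Nat.card G = 12) {d : ℕ} (hd : d ∈ charDegrees G) (h3 : 3 ∣ d) :
    Nonempty (G ≃* alternatingGroup (Fin 4)) := by
  refine S0228.result hG fun z h1 h2 => ?_
  obtain ⟨χ, rfl⟩ := hd
  have h4 := charDegree_sq_le_index_center χ
  have h5 := (center G).card_mul_index
  have h6 := Nat.le_of_dvd Nat.card_pos (h1 ▸ orderOf_dvd_natCard _ h2)
  have h7 := Nat.le_of_dvd (charDegree_pos_of_isIrr χ.2) h3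
  rw [hG] at h5
  nlinarith

end Cfsg.Agent.Math.DegR
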