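import Mathlib
import Cfsg.Agent.Math.Srch2

/-!
A search for the values of the characters of a block, pruned by four additive conditions.
-/

set_option autoImplicit false

namespace Cfsg.Agent.Math

/-- the contributions of a value -/
structure Op where
  s : ℕ
  u : ℕ
  v : ℕ
  x : ℕ
  y : ℕ
  a : ℤ

/-- ranges and moduli for the remaining entries -/
structure Sf where
  h1 : ℕ
  g1 : ℕ
  h2 : ℕ
  g2 : ℕ
  g3 : ℕ
  g4 : ℕ

structure En where
  same : Bool
  d : ℤ
  f : Sf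
  o : List Op

noncomputable def lp (R : ℕ) (b : ℕ → ℕ → ℕ → ℕ → ℕ → ℤ → List Op → Bool) (l : List Op) : Bool :=
  List.rec true (fun op t ih => Op.rec (fun s u v x y a =>
    Bool.rec true (Bool.rec false ih (b s u v x y a (op :: t))) (Nat.ble s R)) op) l

theorem lp_sound {R : ℕ} {b : ℕ → ℕ → ℕ → ℕ → ℕ → ℤ → List Op → Bool} {o : Op} {t : List Op}
    (h0 : o.s ≤ R) : ∀ l : List Op, lp R b l = true → l.Pairwise (·.s ≤ ·.s) → o :: t <:+ l →
      b o.s o.u o.v o.x o.y o.a (o :: t) = true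
  | [], _, _, h => by simp at h
  | ⟨s, u, v, x, y, a⟩ :: l, h, h1, h2 => by
    rw [List.pairwise_cons] at h1
    have h3 : s ≤ R := by
      rcases List.mem_cons.1 (h2.subset List.mem_cons_self) with h | h
      · rwa [h] at h0
      · exact (h1.1 o h).trans h0
    change (Bool.rec true (Bool.rec false (lp R b l) (b s u v x y a (⟨s, u, v, x, y, a⟩ :: l)))
      (Nat.ble s R) : Bool) = true at h
    rw [Nat.ble_eq_true_of_le h3] at h
    cases h4 : b s u v x y a (⟨s, u, v, x, y, a⟩ :: l)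
    · rw [h4] at h; exact absurd h Bool.false_ne_true
    rw [h4] at h
    rcases List.suffix_cons_iff.1 h2 with h5 | h5
    · obtain ⟨rfl, rfl⟩ := List.cons.inj h5
      exact h4
    · exact lp_sound h0 l h h1.2 h5

noncomputable def go3 (F : List (ℤ × ℤ) → ℕ → ℕ → ℕ → Bool) (l : List En) :
    List (ℤ × ℤ) → ℕ → ℕ → ℕ → ℕ → ℕ → List Op → Bool :=
  List.rec (fun acc R0 R1 R2 _ _ _ => F acc R0 R1 R2)
    (fun e _ ih acc R0 R1 R2 S3 S4 pr => En.rec (fun same d f o => Sf.rec (fun h1 g1 h2 g2 g3 g4 =>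
      lp R0 (fun s u v x y a t =>
        Bool.rec true (Bool.rec true (Bool.rec true (Bool.rec true (Bool.rec true (Bool.rec true
          (Bool.rec true (Bool.rec true
            (ih ((d, a) :: acc) (Nat.sub R0 s) (Nat.sub R1 u) (Nat.sub R2 v) (Nat.add S3 x)
              (Nat.add S4 y) t)
            (Nat.beq (Nat.mod (Nat.add S4 y) g4) 0))
            (Nat.beq (Nat.mod (Nat.add S3 x) g3) 0))
            (Nat.beq (Nat.mod (Nat.sub R2 v) g2) 0))
            (Nat.ble (Nat.sub R2 v) h2))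
            (Nat.ble v R2))
            (Nat.beq (Nat.mod (Nat.sub R1 u) g1) 0))
            (Nat.ble (Nat.sub R1 u) h1))
            (Nat.ble u R1)) (Bool.rec o pr same)) f) e) l

def Sf.Ok (f : Sf) (R1 R2 S3 S4 : ℕ) : Prop :=
  R1 ≤ f.h1 ∧ f.g1 ∣ R1 ∧ R2 ≤ f.h2 ∧ f.g2 ∣ R2 ∧ f.g3 ∣ S3 ∧ f.g4 ∣ S4

theorem beq_mod {a g : ℕ} (h : g ∣ a) : Nat.beq (Nat.mod a g) 0 = true :=
  Nat.beq_eq ▸ Nat.mod_eq_zero_of_dvd h

theorem go3_cons {F : List (ℤ × ℤ) → ℕ → ℕ → ℕ → Bool} {e : En} {l : List En}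
    {acc : List (ℤ × ℤ)} {R0 R1 R2 S3 S4 : ℕ} {pr t : List Op} {o : Op}
    (h : go3 F (e :: l) acc (o.s + R0) (o.u + R1) (o.v + R2) S3 S4 pr = true)
    (h1 : (bif e.same then pr else e.o).Pairwise (·.s ≤ ·.s))
    (h2 : o :: t <:+ bif e.same then pr else e.o) (hf : e.f.Ok R1 R2 (S3 + o.x) (S4 + o.y)) :
    go3 F l ((e.d, o.a) :: acc) R0 R1 R2 (S3 + o.x) (S4 + o.y) (o :: t) = true := by
  obtain ⟨same, d, ⟨k1, g1, k2, g2, g3, g4⟩, O⟩ := e
  obtain ⟨a1, a2, a3, a4, a5, a6⟩ := hf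
  unfold go3 at h
  dsimp only at h
  have h3 := lp_sound (t := t) (Nat.le_add_right o.s R0) _ h (by cases same <;> exact h1)
    (by cases same <;> exact h2)
  dsimp only at a1 a2 a3 a4 a5 a6
  have e1 : ∀ a b, Nat.sub (a + b) a = b := fun a b => Nat.add_sub_cancel_left a b
  simp only [e1, Nat.ble_eq_true_of_le (Nat.le_add_right _ _), Nat.ble_eq_true_of_le a1, Nat.ble_eq_true_of_le a3, beq_mod a2,
    beq_mod a4, Nat.add_eq, beq_mod a5, beq_mod a6] at h3
  exact h3

def mx (f : Op → ℕ) (l : List Op) : ℕ := l.foldr (fun o m => max (f o) m) 0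

def gc (f : Op → ℕ) (l : List Op) (g : ℕ) : ℕ := l.foldr (fun o m => Nat.gcd (f o) m) g

theorem le_mx (f : Op → ℕ) {o : Op} : ∀ {l : List Op}, o ∈ l → f o ≤ mx f l
  | _ :: _, h => by
    rcases List.mem_cons.1 h with rfl | h
    · exact le_max_left _ _
    · exact (le_mx f h).trans (le_max_right _ _)

theorem gc_dvd' (f : Op → ℕ) (g : ℕ) : ∀ l : List Op, gc f l g ∣ g
  | [] => dvd_rfl
  | _ :: l => (Nat.gcd_dvd_right _ _).trans (gc_dvd' f g l)

theorem gc_dvd (f : Op → ℕ) (g : ℕ) {o : Op} : ∀ {l : List Op}, o ∈ l → gc f l g ∣ f o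
  | _ :: _, h => by
    rcases List.mem_cons.1 h with rfl | h
    · exact Nat.gcd_dvd_left _ _
    · exact (Nat.gcd_dvd_right _ _).trans (gc_dvd f g h)

noncomputable def nxt (l : List Op) (f : Sf) : Sf :=
  force (mx Op.u l + f.h1) fun h1 => force (gc Op.u l f.g1) fun g1 =>
  force (mx Op.v l + f.h2) fun h2 => force (gc Op.v l f.g2) fun g2 =>
  force (gc Op.x l f.g3) fun g3 => force (gc Op.y l f.g4) fun g4 => ⟨h1, g1, h2, g2, g3, g4⟩

theorem nxt_ok {l : List Op} {f : Sf} {o : Op} (h : o ∈ l) {R1 R2 S3 S4 : ℕ}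
    (hf : f.Ok R1 R2 (S3 + o.x) (S4 + o.y)) : (nxt l f).Ok (o.u + R1) (o.v + R2) S3 S4 := by
  obtain ⟨a1, a2, a3, a4, a5, a6⟩ := hf
  simp only [nxt, force_eq]
  exact ⟨add_le_add (le_mx _ h) a1, dvd_add (gc_dvd _ _ h) ((gc_dvd' _ _ _).trans a2),
    add_le_add (le_mx _ h) a3, dvd_add (gc_dvd _ _ h) ((gc_dvd' _ _ _).trans a4),
    (Nat.dvd_add_left (gc_dvd _ _ h)).1 ((gc_dvd' _ _ _).trans a5),
    (Nat.dvd_add_left (gc_dvd _ _ h)).1 ((gc_dvd' _ _ _).trans a6)⟩

noncomputable def ens (T : ℤ → List Op) (f : Sf) : List ℤ → ℤ → List En × Sf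
  | [], _ => ([], f)
  | v :: l, pv => (⟨v == pv, v, (ens T f l v).2, T v⟩ :: (ens T f l v).1, nxt (T v) (ens T f l v).2)

def sm {α : Type} (f : α → ℕ) (l : List α) : ℕ := (l.map f).sum

theorem sm_cons {α : Type} (f : α → ℕ) (a : α) (l : List α) : sm f (a :: l) = f a + sm f l := rfl

theorem ens_ok {T : ℤ → List Op} {f : Sf} {φ : ℤ × ℤ → Op} {R1 R2 : ℕ} :
    ∀ (w : List (ℤ × ℤ)) (pv : ℤ) (S3 S4 : ℕ), (∀ r ∈ w, φ r ∈ T r.1) →
    f.Ok R1 R2 (S3 + sm (fun r => (φ r).x) w) (S4 + sm (fun r => (φ r).y) w) →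
    (ens T f (w.map (·.1)) pv).2.Ok (sm (fun r => (φ r).u) w + R1) (sm (fun r => (φ r).v) w + R2)
      S3 S4
  | [], _, _, _, _, h => by simpa [sm, ens] using h
  | r :: w, pv, S3, S4, h1, h2 => by
    simp only [sm_cons, ← add_assoc] at h2
    simp only [sm_cons, add_assoc]
    exact nxt_ok (h1 r List.mem_cons_self)
      (ens_ok w r.1 _ _ (fun s hs => h1 s (List.mem_cons_of_mem _ hs)) h2)

theorem go3_sound {F : List (ℤ × ℤ) → ℕ → ℕ → ℕ → Bool} {T : ℤ → List Op} {f : Sf}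
    {φ : ℤ × ℤ → Op} {τ : ℤ × ℤ → List Op} {R0 R1 R2 : ℕ}
    (hT : ∀ v, (T v).Pairwise (·.s ≤ ·.s)) :
    ∀ (w acc : List (ℤ × ℤ)) (pv : ℤ) (S3 S4 : ℕ) (pr : List Op),
    go3 F (ens T f (w.map (·.1)) pv).1 acc (sm (fun r => (φ r).s) w + R0)
      (sm (fun r => (φ r).u) w + R1) (sm (fun r => (φ r).v) w + R2) S3 S4 pr = true →
    (∀ r ∈ w, φ r :: τ r <:+ T r.1 ∧ (φ r).a = r.2) →
    f.Ok R1 R2 (S3 + sm (fun r => (φ r).x) w) (S4 + sm (fun r => (φ r).y) w) →
    w.Pairwise (fun r r' => r.1 = r'.1 → φ r' :: τ r' <:+ φ r :: τ r) →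
    (∀ r ∈ w, r.1 = pv → φ r :: τ r <:+ pr) → pr.Pairwise (·.s ≤ ·.s) →
    F (w.reverse ++ acc) R0 R1 R2 = true
  | [], acc, pv, S3, S4, pr, h0, _, _, _, _, _ => by
    simp only [sm, List.map_nil, List.sum_nil, zero_add] at h0
    exact h0
  | r :: w, acc, pv, S3, S4, pr, h0, h1, h2, h3, h4, h5 => by
    have h6 : ∀ s ∈ w, _ := fun s hs => h1 s (List.mem_cons_of_mem _ hs)
    obtain ⟨h7, h8⟩ := h1 r List.mem_cons_self
    simp only [sm_cons, ← add_assoc] at h2
    simp only [sm_cons, add_assoc, List.map_cons, ens] at h0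
    rw [List.pairwise_cons] at h3
    have h9 := go3_sound hT w _ r.1 _ _ _ (go3_cons (t := τ r) h0 (by
        cases (r.1 == pv); exacts [hT _, h5]) (by
        cases h : (r.1 == pv); exacts [h7, h4 r List.mem_cons_self (by simpa using h)])
      (ens_ok w r.1 _ _ (fun s hs => (h6 s hs).1.subset List.mem_cons_self) h2)) h6 h2 h3.2
      (fun s hs h => h3.1 s hs h.symm) ((hT _).sublist h7.sublist)
    simpa [h8] using h9

/-- multiplicity -/
def mu (p m : ℕ) (v : ℤ) : ℕ := bif v % p == 1 then 1 else m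

/-- a term of a power sum of central character values -/
def pw (h j : ℕ) (r : ℤ × ℤ) : ℤ := r.1 * (h * r.2 / r.1.natAbs) ^ j

/-- the contributions of a row -/
def raw (N h c p m : ℕ) (r : ℤ × ℤ) : Op :=
  ⟨mu p m r.1 * (r.2.natAbs * r.2.natAbs), ((65536 : ℕ) + bif decide (0 < r.1) then r.2 else -r.2).toNat,
    bif decide (0 < r.1) then N * N + r.2.natAbs * r.2.natAbs * (N / r.1.natAbs)
      else N * N - r.2.natAbs * r.2.natAbs * (N / r.1.natAbs),
    (c * pw h 3 r % N).toNat, (c * pw h 4 r % N).toNat, r.2⟩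

noncomputable def mapF {α : Type} (f : α → Op) (l : List α) : List Op :=
  List.rec [] (fun a _ ih => Op.rec (fun s u v x y b => force s fun s => force u fun u =>
    force v fun v => force x fun x => force y fun y => ⟨s, u, v, x, y, b⟩ :: ih) (f a)) l

theorem mapF_eq {α : Type} (f : α → Op) : ∀ l : List α, mapF f l = l.map f
  | [] => rfl
  | a :: l => by
    rw [List.map_cons, ← mapF_eq f l]
    change (Op.rec (fun s u v x y b => force s fun s => force u fun u =>
      force v fun v => force x fun x => force y fun y => ⟨s, u, v, x, y, b⟩ :: mapF f l) (f a) :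
        List Op) = _
    cases f a
    simp only [force_eq]

def mn (f : Op → ℕ) : List Op → ℕ
  | [] => 0
  | [o] => f o
  | o :: l => min (f o) (mn f l)

theorem mn_le (f : Op → ℕ) {o : Op} : ∀ {l : List Op}, o ∈ l → mn f l ≤ f o
  | [_], h => by rw [List.mem_singleton.1 h]; rfl
  | a :: b :: l, h => by
    rcases List.mem_cons.1 h with rfl | h
    · exact min_le_left _ _
    · exact (min_le_right _ _).trans (mn_le f h)

/-- the minima -/
noncomputable def nc (l : List Op) : Op :=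
  force (mn Op.s l) fun s => force (mn Op.u l) fun u => force (mn Op.v l) fun v =>
    force (mn Op.x l) fun x => force (mn Op.y l) fun y => ⟨s, u, v, x, y, 0⟩

def Op.sub (o m : Op) : Op := ⟨o.s - m.s, o.u - m.u, o.v - m.v, o.x - m.x, o.y - m.y, o.a⟩

noncomputable def nrm (l : List Op) : List Op := mapF (·.sub (nc l)) l

theorem sub_nc {l : List Op} {o : Op} (h : o ∈ l) : o.s = (nc l).s + (o.sub (nc l)).s ∧
    o.u = (nc l).u + (o.sub (nc l)).u ∧ o.v = (nc l).v + (o.sub (nc l)).v ∧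
    o.x = (nc l).x + (o.sub (nc l)).x ∧ o.y = (nc l).y + (o.sub (nc l)).y := by
  simp only [nc, force_eq, Op.sub]
  exact ⟨(Nat.add_sub_cancel' (mn_le _ h)).symm, (Nat.add_sub_cancel' (mn_le _ h)).symm,
    (Nat.add_sub_cancel' (mn_le _ h)).symm, (Nat.add_sub_cancel' (mn_le _ h)).symm,
    (Nat.add_sub_cancel' (mn_le _ h)).symm⟩

def cb (b : Bool) (a : ℤ) (l : List ℤ) : List ℤ := bif b then a :: l else l

theorem mem_cb {b : Bool} {a c : ℤ} {l : List ℤ} : c ∈ cb b a l ↔ (b = true ∧ c = a) ∨ c ∈ l := by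
  cases b <;> simp [cb]

theorem pairwise_cb {R : ℤ → ℤ → Prop} {b : Bool} {a : ℤ} {l : List ℤ} (h : ∀ c ∈ l, R a c)
    (h' : l.Pairwise R) : (cb b a l).Pairwise R := by
  cases b
  exacts [h', List.pairwise_cons.2 ⟨h, h'⟩]

/-- the admissible values, by increasing absolute value -/
noncomputable def vals (ok : ℤ → Bool) (d M s J : ℕ) : ℕ → List ℤ :=
  Nat.rec (fun _ => []) (fun _ ih j => force j fun j =>
    cb (Nat.beq (Nat.mod (Nat.sub d j) M) 0 && ok (Int.ofNat j)) (Int.ofNat j)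
      (cb (Nat.beq (Nat.mod (Nat.add d j) M) 0 && (Nat.ble 1 j && ok (-Int.ofNat j))) (-Int.ofNat j)
        (ih (Nat.add j s)))) J

theorem vals_succ (ok : ℤ → Bool) (d M s J j : ℕ) : vals ok d M s (J + 1) j =
    cb (Nat.beq ((d - j) % M) 0 && ok j) j
      (cb (Nat.beq ((d + j) % M) 0 && (Nat.ble 1 j && ok (-j))) (-j) (vals ok d M s J (j + s))) := by
  unfold vals
  dsimp only
  rw [force_eq]
  rfl

theorem vals_sorted (ok : ℤ → Bool) (d M s : ℕ) : ∀ J j, (∀ a ∈ vals ok d M s J j, j ≤ a.natAbs) ∧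
    (vals ok d M s J j).Pairwise (·.natAbs ≤ ·.natAbs)
  | 0, _ => ⟨fun _ h => absurd h List.not_mem_nil, List.Pairwise.nil⟩
  | J + 1, j => by
    obtain ⟨h1, h2⟩ := vals_sorted ok d M s J (j + s)
    rw [vals_succ]
    have h3 : ∀ b, ∀ a ∈ cb b (-j) (vals ok d M s J (j + s)), j ≤ a.natAbs := fun b a ha => by
      rcases mem_cb.1 ha with h | h
      · simp [h.2]
      · have := h1 a h; omega
    refine ⟨fun a ha => ?_, pairwise_cb (by simpa using h3 _) (pairwise_cb (fun c hc => ?_) h2)⟩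
    · rcases mem_cb.1 ha with h | h
      · simp [h.2]
      · exact h3 _ a h
    · have := h1 c hc; omega

theorem mem_vals {ok : ℤ → Bool} {d M s : ℕ} {a : ℤ} (h1 : a.natAbs < d) (h2 : (M : ℤ) ∣ d - a)
    (h3 : ok a = true) : ∀ J j i, i < J → a.natAbs = j + s * i → a ∈ vals ok d M s J j
  | J + 1, j, i + 1, h4, h5 => by
    rw [vals_succ]
    exact mem_cb.2 (Or.inr (mem_cb.2 (Or.inr (mem_vals h1 h2 h3 J _ i (by omega)
      (by rw [h5]; ring)))))
  | J + 1, j, 0, _, h5 => by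
    obtain rfl : a.natAbs = j := h5
    rw [vals_succ]
    by_cases h4 : 0 ≤ a
    · have h6 : (a.natAbs : ℤ) = a := by omega
      refine mem_cb.2 (Or.inl ⟨?_, h6.symm⟩)
      rw [h6, h3, Bool.and_true]
      exact beq_mod (Int.natCast_dvd_natCast.1 (by rwa [Nat.cast_sub h1.le, h6]))
    · have h6 : -(a.natAbs : ℤ) = a := by omega
      refine mem_cb.2 (Or.inr (mem_cb.2 (Or.inl ⟨?_, h6.symm⟩)))
      rw [h6, h3, Nat.ble_eq_true_of_le (by omega), Bool.and_true, Bool.and_true]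
      exact beq_mod (Int.natCast_dvd_natCast.1 (by rwa [Nat.cast_add, ← sub_neg_eq_add, h6]))

noncomputable def tab (N h c p m : ℕ) (Md : ℕ → ℕ) (ok : ℕ → ℤ → Bool) (v : ℤ) : List Op :=
  force v.natAbs fun d => force (Md d) fun M => force (d / Nat.gcd d h) fun s =>
    mapF (fun a => raw N h c p m (v, a))
      (vals (ok d) d M s (min (Nat.gcd d h) (isq (N / h) 16 65536 / s + 1)) 0)

/-- admissible rows -/
structure Adm (h : ℕ) (Md : ℕ → ℕ) (ok : ℕ → ℤ → Bool) (r : ℤ × ℤ) : Prop where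
  lt : r.2.natAbs < r.1.natAbs
  dvd : r.1.natAbs ∣ h * r.2.natAbs
  md : (Md r.1.natAbs : ℤ) ∣ r.1.natAbs - r.2
  ok : ok r.1.natAbs r.2 = true

theorem mem_tab {N h c p m : ℕ} {Md : ℕ → ℕ} {ok : ℕ → ℤ → Bool} {r : ℤ × ℤ} (h1 : Adm h Md ok r)
    (h2 : r.2.natAbs ≤ isq (N / h) 16 65536) : raw N h c p m r ∈ tab N h c p m Md ok r.1 := by
  obtain ⟨v, a⟩ := r
  obtain ⟨h3, h4, h7, h8⟩ := h1
  simp only [tab, force_eq, mapF_eq] at *
  refine List.mem_map_of_mem (f := fun a => raw N h c p m (v, a)) ?_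
  generalize v.natAbs = d at *
  have hd : 0 < d := by omega
  have hg : 0 < Nat.gcd d h := Nat.gcd_pos_of_pos_left _ hd
  have h5 : d / Nat.gcd d h ∣ a.natAbs := by
    have h6 : d / Nat.gcd d h * Nat.gcd d h ∣ h / Nat.gcd d h * a.natAbs * Nat.gcd d h := by
      rwa [Nat.div_mul_cancel (Nat.gcd_dvd_left _ _), mul_right_comm,
        Nat.div_mul_cancel (Nat.gcd_dvd_right _ _)]
    exact (Nat.coprime_div_gcd_div_gcd hg).dvd_of_dvd_mul_left
      (Nat.dvd_of_mul_dvd_mul_right hg h6)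
  obtain ⟨j, hj⟩ := h5
  have hs : 0 < d / Nat.gcd d h := Nat.div_pos (Nat.le_of_dvd hd (Nat.gcd_dvd_left _ _)) hg
  refine mem_vals h3 h7 h8 _ 0 j (lt_min ?_ ?_) (by rw [zero_add, hj])
  · by_contra h6
    have := Nat.mul_le_mul_left (d / Nat.gcd d h) (not_lt.1 h6)
    rw [Nat.div_mul_cancel (Nat.gcd_dvd_left _ _)] at this
    omega
  · rw [Nat.lt_succ_iff, Nat.le_div_iff_mul_le hs, mul_comm]; omega

theorem nrm_tab_sorted (N h c p m : ℕ) (Md : ℕ → ℕ) (ok : ℕ → ℤ → Bool) (v : ℤ) :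
    (nrm (tab N h c p m Md ok v)).Pairwise (·.s ≤ ·.s) := by
  rw [nrm, mapF_eq, List.pairwise_map]
  generalize nc _ = K
  simp only [tab, force_eq, mapF_eq, List.pairwise_map]
  exact (vals_sorted _ _ _ _ _ _).2.imp fun h =>
    Nat.sub_le_sub_right (Nat.mul_le_mul_left _ (Nat.mul_le_mul h h)) _

noncomputable def leaf3 (Z N W M μ nd : ℕ) (pos : Bool) (m : Op) (d : ℤ) (F : List (ℤ × ℤ) → Bool)
    (acc : List (ℤ × ℤ)) (R0 R1 R2 : ℕ) : Bool :=
  (fun A => Bool.rec true
    ((fun P Q => Bool.rec true (Bool.rec true (Bool.rec true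
        (F ((d, bif pos then ((R1 + m.u : ℕ) : ℤ) - Z else Z - ((R1 + m.u : ℕ) : ℤ)) :: acc))
        (Nat.beq (Nat.mod (Nat.sub P Q) M) 0)) (Nat.ble (Nat.sub P Q) W)) (Nat.ble Q P))
      (Nat.add (Nat.add R2 m.v) (Bool.rec (Nat.mul A nd) 0 pos))
      (Nat.add (Nat.mul N N) (Bool.rec 0 (Nat.mul A nd) pos)))
    (Nat.ble (Nat.mul μ A) (Nat.add R0 m.s)))
  (Nat.pow (Nat.add (Nat.sub (Nat.add R1 m.u) Z) (Nat.sub Z (Nat.add R1 m.u))) 2)

theorem leaf3_sound {Z N W M μ nd R R0 R1 R2 : ℕ} {pos : Bool} {K : Op}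
    {F : List (ℤ × ℤ) → Bool} {acc : List (ℤ × ℤ)} {v a : ℤ}
    (h0 : leaf3 Z N W M μ nd pos K v F acc R0 R1 R2 = true) (h1 : a.natAbs ≤ Z)
    (h2 : a.natAbs * a.natAbs * nd ≤ N * N) (h3 : μ * (a.natAbs * a.natAbs) ≤ R0 + K.s)
    (h4 : R1 + K.u = (Z + bif pos then a else -a).toNat)
    (h5 : R2 + K.v = (bif pos then N * N + a.natAbs * a.natAbs * nd
      else N * N - a.natAbs * a.natAbs * nd) + R) (h6 : R ≤ W) (h7 : M ∣ R) :
    F ((v, a) :: acc) = true := by
  have e1 : Nat.pow ((Z + bif pos then a else -a).toNat - Z +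
      (Z - (Z + bif pos then a else -a).toNat)) 2 = a.natAbs * a.natAbs := by
    rw [show (Z + bif pos then a else -a).toNat - Z +
      (Z - (Z + bif pos then a else -a).toNat) = a.natAbs by
        cases pos <;> simp only [cond_true, cond_false] <;> omega, ← sq]
    rfl
  simp only [leaf3, Nat.add_eq, Nat.mul_eq, Nat.sub_eq, h4, h5] at h0
  rw [e1, Nat.ble_eq_true_of_le h3] at h0
  cases pos
  · simp only [cond_false] at h0
    rw [show N * N - a.natAbs * a.natAbs * nd + R + a.natAbs * a.natAbs * nd = N * N + 0 + R by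
      omega, Nat.add_sub_cancel_left, Nat.ble_eq_true_of_le (Nat.le_add_right _ _),
      Nat.ble_eq_true_of_le h6, beq_mod h7, show (Z : ℤ) - ((Z + -a).toNat : ℕ) = a by omega] at h0
    exact h0
  · simp only [cond_true] at h0
    rw [add_zero, Nat.add_sub_cancel_left, Nat.ble_eq_true_of_le (Nat.le_add_right _ _),
      Nat.ble_eq_true_of_le h6, beq_mod h7, show (((Z + a).toNat : ℕ) : ℤ) - Z = a by omega] at h0
    exact h0

noncomputable def vs3c (N h c p m C U W M : ℕ) (T : ℤ → List Op) (fx : List (ℤ × ℤ))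
    (F : List (ℤ × ℤ) → Bool) (d : ℤ) (l : List ℤ) : Bool :=
  (fun (K : List Op) (n : ℕ) =>
    Nat.blt C (sm Op.s K) || Nat.blt (65536 * n) (1 + sm Op.u K) ||
    Nat.blt (U + N * N * n) (N + sm Op.v K) ||
    force (C - sm Op.s K) fun R0 => force (65536 * n - (1 + sm Op.u K)) fun R1 =>
    force (U + N * N * n - (N + sm Op.v K)) fun R2 => force (c * h ^ 3 + sm Op.x K) fun S3 =>
    force (c * h ^ 4 + sm Op.y K) fun S4 =>
    go3 (leaf3 65536 N W M (mu p m d) (N / d.natAbs) (decide (0 < d)) (nc (T d)) d F)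
      (ens (fun v => nrm (T v)) (nxt (nrm (T d)) ⟨0, 0, W, M, N, N⟩) l 0).1 fx R0 R1 R2 S3 S4 [])
  (fx.map (raw N h c p m) ++ (d :: l).map fun v => nc (T v)) (fx.length + l.length + 1)

noncomputable def srt (T : ℤ → List Op) (l : List ℤ) : List ℤ :=
  l.insertionSort fun a b => (T b).length * 65536 + b.natAbs ≤ (T a).length * 65536 + a.natAbs

/-- search through all values at an element with `h` conjugates; the rows in `fx` are known -/
noncomputable def vs3 (N h c p m base U W M : ℕ) (Md : ℕ → ℕ) (ok : ℕ → ℤ → Bool)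
    (fx : List (ℤ × ℤ)) (F : List (ℤ × ℤ) → Bool) (l : List ℤ) : Bool :=
  (l.any fun v => (tab N h c p m Md ok v).isEmpty) || List.rec false (fun d l _ =>
    vs3c N h c p m (N / h - (1 + base)) U W M (tab N h c p m Md ok) fx F d l.reverse)
    (srt (tab N h c p m Md ok) (l.diff (fx.map (·.1))))

/-- the linear relation -/
def lin (w : List (ℤ × ℤ)) : ℤ := 1 + (w.map fun r => r.1.sign * r.2).sum

/-- the quadratic form -/
def qx (N : ℕ) (w : List (ℤ × ℤ)) : ℤ :=
  N + (w.map fun r => r.1.sign * r.2 * r.2 * ((N / r.1.natAbs : ℕ) : ℤ)).sum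

/-- the power sums -/
def ps (h j : ℕ) (w : List (ℤ × ℤ)) : ℤ := h ^ j + (w.map (pw h j)).sum

theorem sm_perm {α : Type} (f : α → ℕ) {l l' : List α} (h : l.Perm l') : sm f l = sm f l' :=
  (h.map f).sum_eq

theorem sm_append {α : Type} (f : α → ℕ) (l l' : List α) : sm f (l ++ l') = sm f l + sm f l' := by
  simp [sm]

theorem sm_map {α β : Type} (f : β → ℕ) (g : α → β) (l : List α) :
    sm f (l.map g) = sm (fun a => f (g a)) l := by simp [sm, Function.comp_def]

theorem sm_add {α : Type} {f g k : α → ℕ} : ∀ l : List α, (∀ a ∈ l, f a = g a + k a) →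
    sm f l = sm g l + sm k l
  | [], _ => rfl
  | a :: l, h => by
    rw [sm_cons, sm_cons, sm_cons, h a List.mem_cons_self,
      sm_add l fun b hb => h b (List.mem_cons_of_mem _ hb)]
    ring

theorem sm_cast {α : Type} {f : α → ℕ} {g : α → ℤ} {K : ℤ} : ∀ l : List α,
    (∀ a ∈ l, (f a : ℤ) = K + g a) → (sm f l : ℤ) = K * l.length + (l.map g).sum
  | [], _ => by simp [sm]
  | a :: l, h => by
    rw [sm_cons, Nat.cast_add, h a List.mem_cons_self,
      sm_cast l fun b hb => h b (List.mem_cons_of_mem _ hb)]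
    simp; ring

theorem sm_dvd {N c h j : ℕ} (hN : 0 < N) (w : List (ℤ × ℤ)) (h0 : (N : ℤ) ∣ c * ps h j w) :
    N ∣ c * h ^ j + sm (fun r => (c * pw h j r % N).toNat) w := by
  have : ∀ w : List (ℤ × ℤ), (N : ℤ) ∣ c * (w.map (pw h j)).sum -
      sm (fun r => (c * pw h j r % N).toNat) w := fun w => by
    induction w with
    | nil => simp [sm]
    | cons r w ih =>
      rw [sm_cons, List.map_cons, List.sum_cons, Nat.cast_add,
        Int.toNat_of_nonneg (Int.emod_nonneg _ (by omega))]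
      exact (dvd_add ih (Int.dvd_self_sub_emod (x := c * pw h j r))).trans (dvd_of_eq (by ring))
  rw [← Int.natCast_dvd_natCast]
  refine (dvd_sub h0 (this w)).trans (dvd_of_eq ?_)
  rw [ps]; push_cast; ring

theorem vs3_sound {N h c p m base U Wd M R : ℕ} {Md : ℕ → ℕ} {ok : ℕ → ℤ → Bool}
    {fx : List (ℤ × ℤ)} {F : List (ℤ × ℤ) → Bool} {l : List ℤ}
    (hs : vs3 N h c p m base U Wd M Md ok fx F l = true) (hN : N ≤ 65536 * 65536) (hN0 : 0 < N)
    (hm : 0 < m) {W : List (ℤ × ℤ)} (hW : ((W.map (·.1) : List ℤ) : Multiset ℤ) = l)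
    (hfx : (fx : Multiset (ℤ × ℤ)) ≤ W) (h1 : ∀ r ∈ W, Adm h Md ok r)
    (h2 : 1 + base + sm (fun r => mu p m r.1 * (r.2.natAbs * r.2.natAbs)) W ≤ N / h)
    (h3 : lin W = 0) (h4 : qx N W + R = U) (h5 : R ≤ Wd) (h6 : M ∣ R)
    (h7 : (N : ℤ) ∣ c * ps h 3 W) (h8 : (N : ℤ) ∣ c * ps h 4 W) :
    ∃ w : List (ℤ × ℤ), w.Perm W ∧ F w = true := by
  set T := tab N h c p m Md ok
  have b1 : ∀ r ∈ W, r.2.natAbs * r.2.natAbs ≤ N / h := fun r hr => by
    have := List.single_le_sum (l := W.map fun r => mu p m r.1 * (r.2.natAbs * r.2.natAbs))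
      (fun _ _ => Nat.zero_le _) _ (List.mem_map_of_mem hr)
    have h9 := Nat.le_mul_of_pos_left (r.2.natAbs * r.2.natAbs)
      (show 0 < mu p m r.1 by rw [mu]; cases (r.1 % p == 1); exacts [hm, one_pos])
    rw [sm] at h2
    omega
  have b0 := (Nat.div_le_self N h).trans hN
  have b2 : ∀ r ∈ W, raw N h c p m r ∈ T r.1 := fun r hr => mem_tab (h1 r hr)
    (Nat.mul_self_le_mul_self_iff.1 ((b1 r hr).trans (le_isq _ _ b0)))
  have b3 : ∀ r ∈ W, r.2.natAbs ≤ 65536 := fun r hr =>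
    Nat.mul_self_le_mul_self_iff.1 ((b1 r hr).trans b0)
  have b4 : ∀ r ∈ W, r.2.natAbs * r.2.natAbs * (N / r.1.natAbs) ≤ N * N := fun r hr =>
    Nat.mul_le_mul ((b1 r hr).trans (Nat.div_le_self _ _)) (Nat.div_le_self _ _)
  have b5 : ∀ r ∈ W, r.1 ≠ 0 := fun r hr h => by simpa [h] using (h1 r hr).lt
  have b6 : ∀ r ∈ W, r.1.sign = bif decide (0 < r.1) then 1 else -1 := fun r hr => by
    have := b5 r hr
    by_cases h : 0 < r.1
    · simp [h, Int.sign_eq_one_of_pos h]
    · simp [h, Int.sign_eq_neg_one_of_neg (show r.1 < 0 by omega)]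
  have c1 := sm_cast (f := fun r => (raw N h c p m r).u) (g := fun r => r.1.sign * r.2)
    (K := 65536) W fun r hr => by
      have := b3 r hr
      rw [b6 r hr, raw]
      cases decide (0 < r.1) <;> simp only [cond_true, cond_false] <;> omega
  have c2 := sm_cast (f := fun r => (raw N h c p m r).v)
    (g := fun r => r.1.sign * r.2 * r.2 * ((N / r.1.natAbs : ℕ) : ℤ)) (K := N * N) W
    fun r hr => by
      have := b4 r hr
      rw [b6 r hr, raw]
      cases decide (0 < r.1) <;> simp only [cond_true, cond_false, Nat.cast_sub this,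
        Nat.cast_add, Nat.cast_mul, Int.natAbs_mul_self'] <;> ring
  have c3 : N ∣ c * h ^ 3 + sm (fun r => (raw N h c p m r).x) W := sm_dvd hN0 W h7
  have c4 : N ∣ c * h ^ 4 + sm (fun r => (raw N h c p m r).y) W := sm_dvd hN0 W h8
  change 1 + base + sm (fun r => (raw N h c p m r).s) W ≤ _ at h2
  rw [lin] at h3
  rw [qx] at h4
  rw [vs3, Bool.or_eq_true, List.any_eq_true] at hs
  replace hs := hs.resolve_left fun ⟨v, hv, h⟩ => by
    obtain ⟨r, hr, rfl⟩ := List.mem_map.1 ((Multiset.coe_eq_coe.1 hW).symm.subset hv)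
    exact List.ne_nil_of_mem (b2 r hr) (List.isEmpty_iff.1 h)
  obtain ⟨W', hW'⟩ : ∃ W' : List (ℤ × ℤ), W.Perm (fx ++ W') := by
    obtain ⟨u, hu⟩ := Multiset.le_iff_exists_add.1 hfx
    induction u using Quotient.inductionOn with
    | h u => exact ⟨u, Multiset.coe_eq_coe.1 hu⟩
  have d1 : (W'.map (·.1)).Perm (srt T (l.diff (fx.map (·.1)))) := by
    refine List.Perm.trans ?_ (List.perm_insertionSort _ _).symm
    rw [← Multiset.coe_eq_coe, ← Multiset.coe_sub, ← hW, Multiset.coe_eq_coe.2 (hW'.map _),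
      List.map_append, ← Multiset.coe_add, add_tsub_cancel_left]
  generalize srt T _ = L at hs d1
  rcases L with _ | ⟨d, L⟩
  · exact absurd hs Bool.false_ne_true
  have d2 : ∀ r : ℤ × ℤ, ∃ t, r ∈ W → (raw N h c p m r).sub (nc (T r.1)) :: t <:+ nrm (T r.1) :=
    fun r => by
      by_cases hr : r ∈ W
      · obtain ⟨s, t, h⟩ := List.append_of_mem
          (List.mem_map_of_mem (f := (·.sub (nc (T r.1)))) (b2 r hr))
        exact ⟨t, fun _ => ⟨s, by rw [nrm, mapF_eq, h]⟩⟩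
      · exact ⟨[], fun h => absurd h hr⟩
  choose τ hτ using d2
  obtain ⟨r, hr, rfl⟩ := List.mem_map.1 (d1.symm.subset List.mem_cons_self)
  obtain ⟨w, d3, d4, d5⟩ := exists_sorted (fun r => (nrm (T r.1)).length - (τ r).length) L.reverse
    (W'.erase r) (by
      have := ((List.perm_cons_erase hr).map (·.1)).symm.trans d1
      rw [List.map_cons] at this
      exact this.cons_inv.trans (List.reverse_perm _).symm)
  have d6 : W.Perm (fx ++ r :: w) :=
    hW'.trans (((List.perm_cons_erase hr).trans (d3.symm.cons r)).append_left fx)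
  have d7 : ∀ s ∈ r :: w, s ∈ W := fun s hs => d6.symm.subset (List.mem_append_right _ hs)
  have d8 : ∀ s ∈ w, s ∈ W := fun s hs => d7 s (List.mem_cons_of_mem _ hs)
  have d9 : ∀ f : Op → ℕ, (∀ s ∈ r :: w, f (raw N h c p m s) = f (nc (T s.1)) +
      f ((raw N h c p m s).sub (nc (T s.1)))) → sm (fun s => f (raw N h c p m s)) W =
      sm f (fx.map (raw N h c p m) ++ (r.1 :: w.map (·.1)).map fun v => nc (T v)) +
      (sm (fun s => f ((raw N h c p m s).sub (nc (T s.1)))) w +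
        f ((raw N h c p m r).sub (nc (T r.1)))) := fun f hf => by
    rw [sm_perm _ d6, sm_append, sm_append, sm_add _ hf]
    simp only [sm_map, sm_cons]
    ring
  have e0 := d9 Op.s fun s hs => (sub_nc (b2 s (d7 s hs))).1
  have e1 := d9 Op.u fun s hs => (sub_nc (b2 s (d7 s hs))).2.1
  have e2 := d9 Op.v fun s hs => (sub_nc (b2 s (d7 s hs))).2.2.1
  have e3 := d9 Op.x fun s hs => (sub_nc (b2 s (d7 s hs))).2.2.2.1
  have e4 := d9 Op.y fun s hs => (sub_nc (b2 s (d7 s hs))).2.2.2.2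
  have e5 : fx.length + (w.map (·.1)).length + 1 = W.length := by
    rw [d6.length_eq]; simp [add_assoc]
  have e6 := sub_nc (b2 r (d7 r List.mem_cons_self))
  change vs3c N h c p m _ U Wd M T fx F r.1 L.reverse = true at hs
  rw [← d4] at hs
  simp only [vs3c, force_eq, Bool.or_eq_true, Nat.blt_eq, e5] at hs
  generalize fx.map (raw N h c p m) ++ (r.1 :: w.map (·.1)).map (fun v => nc (T v)) = K at *
  have f1 : 65536 * W.length = 1 + sm (fun r => (raw N h c p m r).u) W := by omega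
  have f2 : U + N * N * W.length = N + sm (fun r => (raw N h c p m r).v) W + R := by
    zify; rw [c2, ← h4]; ring
  replace hs := hs.resolve_left (by omega)
  rw [show N / h - (1 + base) - sm Op.s K = sm (fun s => ((raw N h c p m s).sub (nc (T s.1))).s) w +
      (N / h - (1 + base) - sm Op.s K - sm (fun s => ((raw N h c p m s).sub (nc (T s.1))).s) w) by
      omega, show 65536 * W.length - (1 + sm Op.u K) =
      sm (fun s => ((raw N h c p m s).sub (nc (T s.1))).u) w +
        (((raw N h c p m r).sub (nc (T r.1))).u + 0) by omega,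
    show U + N * N * W.length - (N + sm Op.v K) =
      sm (fun s => ((raw N h c p m s).sub (nc (T s.1))).v) w +
        (((raw N h c p m r).sub (nc (T r.1))).v + R) by omega] at hs
  have f3 := go3_sound (τ := τ) (nrm_tab_sorted N h c p m Md ok) w fx 0 _ _ [] hs
    (fun s hs => ⟨hτ s (d8 s hs), rfl⟩)
    (nxt_ok ((hτ r (d7 r List.mem_cons_self)).subset List.mem_cons_self)
      ⟨le_rfl, dvd_rfl, h5, h6, by simpa only [e3, add_assoc] using c3,
        by simpa only [e4, add_assoc] using c4⟩)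
    (d5.imp_of_mem fun {a b} ha hb h9 h10 => by
      have i1 := hτ a (d8 a ha)
      have i2 := hτ b (d8 b hb)
      have i3 := h9 h10
      have i4 := i1.length_le
      have i5 := i2.length_le
      rw [h10] at i1 i3 i4 ⊢
      refine List.suffix_of_suffix_length_le i2 i1 ?_
      simp only [List.length_cons] at i4 i5 ⊢
      omega)
    (fun s hs h => absurd h (b5 s (d8 s hs))) List.Pairwise.nil
  refine ⟨r :: (w.reverse ++ fx), ?_, leaf3_sound f3
    (b3 r (d7 r List.mem_cons_self)) (b4 r (d7 r List.mem_cons_self))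
    (show (raw N h c p m r).s ≤ _ by omega) (show _ = (raw N h c p m r).u by omega)
    (show _ = (raw N h c p m r).v + R by omega) h5 h6⟩
  refine List.Perm.trans ?_ d6.symm
  exact ((List.perm_append_comm.trans ((List.reverse_perm w).append_left fx)).cons r).trans
    List.perm_middle.symm

theorem ps_perm (h j : ℕ) {w w' : List (ℤ × ℤ)} (e : w.Perm w') : ps h j w = ps h j w' := by
  rw [ps, ps, (e.map _).sum_eq]

theorem qx_perm (N : ℕ) {w w' : List (ℤ × ℤ)} (e : w.Perm w') : qx N w = qx N w' := by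
  rw [qx, qx, (e.map _).sum_eq]

def admB (h : ℕ) (Md : ℕ → ℕ) (ok : ℕ → ℤ → Bool) (r : ℤ × ℤ) : Bool :=
  Nat.blt r.2.natAbs r.1.natAbs && h * r.2.natAbs % r.1.natAbs == 0 &&
    ((r.1.natAbs : ℤ) - r.2) % Md r.1.natAbs == 0 && ok r.1.natAbs r.2

def psB (N h c j : ℕ) (w : List (ℤ × ℤ)) : Bool :=
  decide (0 ≤ c * ps h j w) && c * ps h j w % N == 0

theorem psB_ok {N h c j n : ℕ} {w : List (ℤ × ℤ)} (e : c * ps h j w = N * n) :
    psB N h c j w = true := by
  rw [psB, e, Int.mul_emod_right, decide_eq_true (by positivity)]; rfl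

/-- `vs3` with all conditions checked at the leaves -/
noncomputable def vs4 (N h c p m base U W M : ℕ) (Md : ℕ → ℕ) (ok : ℕ → ℤ → Bool)
    (fx : List (ℤ × ℤ)) (F : List (ℤ × ℤ) → Bool) (l : List ℤ) : Bool :=
  force h fun h => force base fun base => force U fun U => force W fun W => force M fun M =>
    vs3 N h c p m base U W M Md ok fx
      (fun w => !(w.all (admB h Md ok) && psB N h c 3 w && psB N h c 4 w) || F w) l

theorem vs4_sound {N h c p m base U Wd M R n3 n4 : ℕ} {Md : ℕ → ℕ} {ok : ℕ → ℤ → Bool}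
    {fx : List (ℤ × ℤ)} {F : List (ℤ × ℤ) → Bool} {l : List ℤ}
    (hs : vs4 N h c p m base U Wd M Md ok fx F l = true) (hN : N ≤ 65536 * 65536) (hN0 : 0 < N)
    (hm : 0 < m) {W : List (ℤ × ℤ)} (hW : ((W.map (·.1) : List ℤ) : Multiset ℤ) = l)
    (hfx : (fx : Multiset (ℤ × ℤ)) ≤ W) (h1 : ∀ r ∈ W, Adm h Md ok r)
    (h2 : 1 + base + sm (fun r => mu p m r.1 * (r.2.natAbs * r.2.natAbs)) W ≤ N / h)
    (h3 : lin W = 0) (h4 : qx N W + R = U) (h5 : R ≤ Wd) (h6 : M ∣ R)
    (h7 : c * ps h 3 W = N * n3) (h8 : c * ps h 4 W = N * n4) :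
    ∃ w : List (ℤ × ℤ), w.Perm W ∧ F w = true := by
  simp only [vs4, force_eq] at hs
  obtain ⟨w, h9, h10⟩ := vs3_sound hs hN hN0 hm hW hfx h1 h2 h3 h4 h5 h6 ⟨_, h7⟩ ⟨_, h8⟩
  rw [psB_ok (ps_perm h 3 h9 ▸ h7), psB_ok (ps_perm h 4 h9 ▸ h8), List.all_eq_true.2 fun r hr => by
    obtain ⟨a1, a2, a3, a4⟩ := h1 r (h9.subset hr)
    simp only [admB, Bool.and_eq_true, Nat.blt_eq, beq_iff_eq]
    exact ⟨⟨⟨a1, Nat.mod_eq_zero_of_dvd a2⟩, Int.emod_eq_zero_of_dvd a3⟩, a4⟩] at h10
  exact ⟨w, h9, h10⟩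

/-- a candidate degree with ranges for the remaining candidates -/
structure Cn where
  s : ℕ
  u : ℕ
  x : ℕ
  l1 : ℕ
  h1 : ℕ
  l2 : ℕ
  h2 : ℕ
  g : ℕ
  v : ℤ

noncomputable def lf (F : List ℤ → Bool) (_ R1 R2 : ℕ) (acc : List ℤ) : Bool :=
  Bool.rec true (Bool.rec true (F acc) (Nat.beq R2 0)) (Nat.beq R1 0)

noncomputable def gsGo (F : List ℤ → Bool) (c : List Cn) : ℕ → ℕ → ℕ → ℕ → List ℤ → Bool :=
  List.rec (fun k => Nat.rec (lf F) (fun _ _ _ _ _ _ => true) k)
    (fun e _ ih => Cn.rec (fun s u x l1 h1 l2 h2 g v k => Nat.rec (lf F) (fun k ik b R1 R2 acc =>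
      Bool.rec true (Bool.rec true (Bool.rec true (Bool.rec true (Bool.rec true
        (Bool.rec false (ih k.succ b R1 R2 acc)
          (Bool.rec true (Bool.rec true (Bool.rec true
            (ik (Nat.sub b s) (Nat.sub R1 u) (Nat.sub R2 x) (v :: acc))
            (Nat.ble x R2)) (Nat.ble u R1)) (Nat.ble s b)))
        (Nat.beq (Nat.mod R1 g) (Nat.mod (Nat.mul k.succ u) g)))
        (Nat.ble R2 (Nat.mul k.succ h2))) (Nat.ble (Nat.mul k.succ l2) R2))
        (Nat.ble R1 (Nat.mul k.succ h1))) (Nat.ble (Nat.mul k.succ l1) R1)) k) e) c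

noncomputable def mk1 (s u x : ℕ) (v : ℤ) (t : List Cn) : List Cn :=
  List.rec [⟨s, u, x, u, u, x, x, 0, v⟩] (fun e _ _ => force (min u e.l1) fun a =>
    force (max u e.h1) fun b => force (min x e.l2) fun c => force (max x e.h2) fun d =>
      force (Nat.gcd e.g (u - e.u + (e.u - u))) fun g => ⟨s, u, x, a, b, c, d, g, v⟩ :: t) t

noncomputable def cns (fu fx : ℤ → ℕ) (c : List ℤ) : List Cn :=
  List.rec [] (fun v _ ih => force (v.natAbs * v.natAbs) fun s => force (fu v) fun u =>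
    force (fx v) fun x => mk1 s u x v ih) c

def Rg (fu fx : ℤ → ℕ) (c : List ℤ) (l1 h1 l2 h2 g u : ℕ) : Prop :=
  ∀ w ∈ c, (l1 ≤ fu w ∧ fu w ≤ h1 ∧ l2 ≤ fx w ∧ fx w ≤ h2) ∧ (g : ℤ) ∣ u - fu w

theorem cns_cons (fu fx : ℤ → ℕ) : ∀ (c : List ℤ) (v : ℤ), ∃ l1 h1 l2 h2 g,
    cns fu fx (v :: c) = ⟨v.natAbs * v.natAbs, fu v, fx v, l1, h1, l2, h2, g, v⟩ :: cns fu fx c ∧
      Rg fu fx (v :: c) l1 h1 l2 h2 g (fu v)
  | [], v => ⟨fu v, fu v, fx v, fx v, 0, by simp only [cns, force_eq]; rfl, by simp [Rg]⟩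
  | w :: c, v => by
    obtain ⟨l1, h1, l2, h2, g, e, h⟩ := cns_cons fu fx c w
    refine ⟨min (fu v) l1, max (fu v) h1, min (fx v) l2, max (fx v) h2,
      Nat.gcd g (fu v - fu w + (fu w - fu v)), ?_, fun a ha => ?_⟩
    · have : cns fu fx (v :: w :: c) = mk1 (v.natAbs * v.natAbs) (fu v) (fx v) v
        (cns fu fx (w :: c)) := by simp only [cns, force_eq]
      rw [this, e]
      simp only [mk1, force_eq]
    · rcases List.mem_cons.1 ha with rfl | ha
      · exact ⟨by omega, by simp⟩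
      · obtain ⟨h3, h4⟩ := h a ha
        refine ⟨by omega, ?_⟩
        rw [← sub_add_sub_cancel _ (fu w : ℤ)]
        refine dvd_add ?_ ((Int.natCast_dvd_natCast.2 (Nat.gcd_dvd_left _ _)).trans h4)
        rw [Int.natCast_dvd, show ((fu v : ℤ) - fu w).natAbs = fu v - fu w + (fu w - fu v) by omega]
        exact Nat.gcd_dvd_right _ _

theorem gsGo_sound {F : List ℤ → Bool} {fu fx : ℤ → ℕ} : ∀ (c : List ℤ) (k b : ℕ) (acc : List ℤ)
    (L : Multiset ℤ), gsGo F (cns fu fx c) k b (L.map fu).sum (L.map fx).sum acc = true →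
    L.card = k → (∀ v ∈ L, v ∈ c) → (L.map fun v => v.natAbs * v.natAbs).sum ≤ b →
    ∃ l : List ℤ, (l : Multiset ℤ) = L + acc ∧ F l = true
  | [], k, b, acc, L, h, hk, hL, _ => by
    obtain rfl : L = 0 := Multiset.eq_zero_of_forall_notMem fun v hv => by simpa using hL v hv
    subst hk
    exact ⟨acc, by simp, h⟩
  | v :: c, k, b, acc, L, h, hk, hL, hs => by
    obtain ⟨l1, h1, l2, h2, g, e, hr⟩ := cns_cons fu fx c v
    rw [e] at h
    induction k generalizing b acc L with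
    | zero =>
      obtain rfl : L = 0 := Multiset.card_eq_zero.1 hk
      exact ⟨acc, by simp, h⟩
    | succ k ih =>
      have a1 : ∀ (f : ℤ → ℕ) (a : ℕ), (∀ w ∈ v :: c, a ≤ f w) →
          Nat.ble (Nat.mul k.succ a) (L.map f).sum = true := fun f a ha =>
        Nat.ble_eq_true_of_le (by
          have := Multiset.card_nsmul_le_sum (s := L.map f) (a := a) fun x hx => by
            obtain ⟨w, hw, rfl⟩ := Multiset.mem_map.1 hx
            exact ha w (hL w hw)
          rwa [Multiset.card_map, hk] at this)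
      have a2 : ∀ (f : ℤ → ℕ) (a : ℕ), (∀ w ∈ v :: c, f w ≤ a) →
          Nat.ble (L.map f).sum (Nat.mul k.succ a) = true := fun f a ha =>
        Nat.ble_eq_true_of_le (by
          have := Multiset.sum_le_card_nsmul (L.map f) a fun x hx => by
            obtain ⟨w, hw, rfl⟩ := Multiset.mem_map.1 hx
            exact ha w (hL w hw)
          rwa [Multiset.card_map, hk] at this)
      have a0 : Nat.beq (Nat.mod (L.map fu).sum g) (Nat.mod (Nat.mul k.succ (fu v)) g) = true := by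
        rw [Nat.beq_eq, Nat.succ_eq_add_one, ← hk]
        change _ ≡ L.card * fu v [MOD g]
        clear * - hL hr
        induction L using Multiset.induction_on with
        | empty => simp [Nat.ModEq]
        | cons a L ih =>
          rw [Multiset.map_cons, Multiset.sum_cons, Multiset.card_cons, add_mul, one_mul, add_comm]
          exact (ih fun w hw => hL w (Multiset.mem_cons_of_mem hw)).add
            (Nat.modEq_iff_dvd.2 (hr a (hL a (Multiset.mem_cons_self _ _))).2)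
      unfold gsGo at h ih
      dsimp only at h ih
      rw [a1 fu l1 fun w hw => (hr w hw).1.1, a2 fu h1 fun w hw => (hr w hw).1.2.1,
        a1 fx l2 fun w hw => (hr w hw).1.2.2.1, a2 fx h2 fun w hw => (hr w hw).1.2.2.2, a0] at h
      dsimp only at h
      have a3 : ∀ {p q : Bool}, (Bool.rec false p q : Bool) = true → p = true ∧ q = true := by
        intro p q; cases q <;> simp
      obtain ⟨a4, a5⟩ := a3 h
      by_cases hd : v ∈ L
      · obtain ⟨T, rfl⟩ := Multiset.exists_cons_of_mem hd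
        simp only [Multiset.map_cons, Multiset.sum_cons] at a5 hs
        rw [Nat.ble_eq_true_of_le (Nat.le_add_right _ _), Nat.ble_eq_true_of_le
          (Nat.le_add_right _ _), Nat.ble_eq_true_of_le ((Nat.le_add_right _ _).trans hs)] at a5
        simp only [Nat.sub_eq, Nat.add_sub_cancel_left] at a5
        obtain ⟨l, b1, b2⟩ := ih _ (v :: acc) T (by simpa using hk)
          (fun w hw => hL w (Multiset.mem_cons_of_mem hw)) (by omega) a5
        refine ⟨l, ?_, b2⟩
        rw [b1, ← Multiset.cons_coe, Multiset.add_cons, Multiset.cons_add]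
      · exact gsGo_sound c (k + 1) b acc L a4 hk
          (fun w hw => (List.mem_cons.1 (hL w hw)).resolve_left fun h => hd (h ▸ hw)) hs

/-- search through all multisets of `k` candidates satisfying two linear relations -/
noncomputable def gs (F : List ℤ → Bool) (wf : ℤ → ℤ) (c : List ℤ) (k b : ℕ) (t w : ℤ)
    (acc : List ℤ) : Bool :=
  c.all (fun v => decide (-65536 ≤ v ∧ -65536 ≤ wf v)) &&
    force b fun b => force (65536 * k - t).toNat fun R1 => force (65536 * k - w).toNat fun R2 =>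
      gsGo F (cns (fun v => (65536 + v).toNat) (fun v => (65536 + wf v).toNat) c) k b R1 R2 acc

theorem gs_sound {F : List ℤ → Bool} {wf : ℤ → ℤ} {c : List ℤ} {k b : ℕ} {t w : ℤ}
    {acc : List ℤ} (hs : gs F wf c k b t w acc = true) {L : Multiset ℤ} (hk : L.card = k)
    (hL : ∀ v ∈ L, v ∈ c) (h1 : (L.map fun v => v.natAbs * v.natAbs).sum ≤ b) (h2 : t + L.sum = 0)
    (h3 : w + (L.map wf).sum = 0) : ∃ l : List ℤ, (l : Multiset ℤ) = L + acc ∧ F l = true := by
  simp only [gs, force_eq, Bool.and_eq_true, List.all_eq_true, decide_eq_true_eq] at hs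
  have a1 : ∀ (f : ℤ → ℤ) (s : ℤ), (∀ v ∈ c, -65536 ≤ f v) → s + (L.map f).sum = 0 →
      (65536 * k - s).toNat = (L.map fun v => (65536 + f v).toNat).sum := fun f s hf h => by
    have : ((L.map fun v => (65536 + f v).toNat).sum : ℤ) = 65536 * L.card + (L.map f).sum := by
      clear hk h h1 h2 h3
      induction L using Multiset.induction_on with
      | empty => simp
      | cons a L ih =>
        have := hf a (hL a (Multiset.mem_cons_self _ _))
        simp only [Multiset.map_cons, Multiset.sum_cons, Nat.cast_add, Multiset.card_cons,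
          ih fun v hv => hL v (Multiset.mem_cons_of_mem hv)]
        omega
    rw [hk] at this
    omega
  rw [a1 (fun v => v) t (fun v hv => (hs.1 v hv).1) (by simpa using h2),
    a1 wf w (fun v hv => (hs.1 v hv).2) h3] at hs
  exact gsGo_sound c k b acc L hs.2 hk hL h1

end Cfsg.Agent.Math
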