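import Mathlib
import Cfsg.Agent.Math.Kit3
import Cfsg.Agent.Math.Srch3

/-!
The extended list of a principal block: the non-exceptional characters other than the principal
one together with one exceptional character.
-/

set_option autoImplicit false
set_option linter.style.haveILetI false
set_option linter.unusedSectionVars false

namespace Cfsg.Agent.Math

open Subgroup Cfsg.Agent.Small Cfsg.Agent.Grp Cfsg.Agent.Grp.SelfCent Cfsg.Agent.Char
open Cfsg.Agent.Char.SelfC Cfsg.Agent.Char.Euclid Cfsg.Agent.Block Cfsg.Agent.Small.Sieve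
open scoped ComplexConjugate

def wq (q f : ℕ) (v : ℤ) : ℤ := v.sign * wt q f v.natAbs

def relx (q f : ℕ) (l : List ℤ) : Bool := ((q - 1) / f : ℕ) + (l.map (wq q f)).sum == 0

/-- signed candidates congruent to `a` -/
noncomputable def cS (dvs : List ℕ) (p a idx c : ℕ) (X : ℕ → Bool) : List ℤ :=
  List.rec [] (fun d _ ih => bif good p idx c d && X d then (bif d % p == a then (d : ℤ) :: ih else
    bif (d + a) % p == 0 then -(d : ℤ) :: ih else ih) else ih) dvs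

theorem mem_cS {p a idx c : ℕ} {X : ℕ → Bool} {v : ℤ} (ha : a < p) (ha' : ¬ p ∣ 2 * a)
    (h1 : (p : ℤ) ∣ v - a) (h2 : good p idx c v.natAbs = true) (h3 : X v.natAbs = true) :
    ∀ {dvs : List ℕ}, v.natAbs ∈ dvs → v ∈ cS dvs p a idx c X
  | d :: l, h => by
    change v ∈ bif good p idx c d && X d then (bif d % p == a then (d : ℤ) :: cS l p a idx c X else
      bif (d + a) % p == 0 then -(d : ℤ) :: cS l p a idx c X else cS l p a idx c X)
      else cS l p a idx c X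
    rcases List.mem_cons.1 h with rfl | h
    · rw [h2, h3]
      rcases Int.natAbs_eq v with h4 | h4
      · rw [h4] at h1
        have := (Nat.modEq_iff_dvd.2 h1).symm
        rw [Nat.ModEq, Nat.mod_eq_of_lt ha] at this
        simp [this, ← h4]
      · have h5 : p ∣ v.natAbs + a := Int.natCast_dvd_natCast.1 (by
          rw [← dvd_neg, show -((v.natAbs + a : ℕ) : ℤ) = v - a by omega]; exact h1)
        have h6 : v.natAbs % p ≠ a := fun h => ha' (by
          rw [← Nat.mod_add_div v.natAbs p, h, add_right_comm, ← two_mul] at h5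
          exact (Nat.dvd_add_left (dvd_mul_right _ _)).1 h5)
        rw [beq_eq_false_iff_ne.2 h6, Nat.mod_eq_zero_of_dvd h5, ← h4]
        simp
    · have := mem_cS ha ha' h1 h2 h3 h
      cases (good p idx c d && X d) <;> cases (d % p == a) <;> cases ((d + a) % p == 0) <;>
        simp [this]

def sqz (l : List ℤ) : ℕ := (l.map fun v => v.natAbs * v.natAbs).sum

/-- degree search if there is one exceptional character -/
noncomputable def dsS (dvs : List ℕ) (N p idx c base : ℕ) (X : ℕ → Bool) (q f : ℕ) (pre : List ℤ)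
    (F : List ℤ → Bool) : Bool :=
  Nat.blt N (1 + base + sqz pre) || gs F (wq q f) (cS dvs p 1 idx c X) (p - 1 - pre.length)
    (N - (1 + base + sqz pre)) (1 + pre.sum) (((q - 1) / f : ℕ) + (pre.map (wq q f)).sum) pre

/-- degree search, starting with the exceptional degree -/
noncomputable def dsY (dvs : List ℕ) (N p e idx c base : ℕ) (X : ℕ → Bool) (q f : ℕ)
    (pre : List ℤ) (F : List ℤ → Bool) : Bool :=
  (cS dvs p (p - e) idx c X).all fun v =>
    Nat.blt N (1 + base + (p - 1) / e * (v.natAbs * v.natAbs) + sqz pre) ||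
    gs F (wq q f) (cS dvs p 1 idx c X) (e - 1 - pre.length)
      (N - (1 + base + (p - 1) / e * (v.natAbs * v.natAbs) + sqz pre)) (1 + (v :: pre).sum)
      (((q - 1) / f : ℕ) + ((v :: pre).map (wq q f)).sum) (v :: pre)

def btB (p c : ℕ) (bts : List (ℕ × ℕ)) (l : List ℤ) : Bool :=
  bts.all fun qb => (p * c) % qb.1 == 0 || sub (qb.1 ^ qb.2) (A0 qb.1 qb.2) l 1

noncomputable def dsA (dvs : List ℕ) (bts : List (ℕ × ℕ)) (N p : ℕ) (o : ℕ × ℕ × ℕ) (X : ℕ → Bool)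
    (q f : ℕ) (F : List ℤ → Bool) : Bool :=
  bif o.2.1 + 1 == p then
    dsS dvs N p (o.1 * o.2.1) o.2.2 0 X q f [] fun l => !btB p o.2.2 bts l || F l
  else dsY dvs N p o.2.1 (o.1 * o.2.1) o.2.2 0 X q f [] fun l => !btB p o.2.2 bts l || F l

def Bts (N : ℕ) (bts : List (ℕ × ℕ)) : Prop :=
  ∀ qb ∈ bts, qb.1.Prime ∧ 0 < qb.2 ∧ qb.1 ^ qb.2 ∣ N ∧ ¬ qb.1 ^ (qb.2 + 1) ∣ N

def Dvs (N : ℕ) (dvs : List ℕ) : Prop := ∀ d, d ∣ N → d * d ≤ N → d ∈ dvs

theorem modu_dvd {h p d : ℕ} {a : ℤ} : ∀ {qs : List ℕ}, okv h p qs d a = true →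
    (modu h p d qs : ℤ) ∣ d - a
  | [], h1 => by
    simp only [okv, Bool.and_eq_true, beq_iff_eq] at h1
    exact Int.dvd_of_emod_eq_zero h1.1.1.1
  | q :: qs, h1 => by
    rw [okv, List.all_cons, ← Bool.and_assoc, Bool.and_right_comm, Bool.and_eq_true] at h1
    have h8 := modu_dvd (qs := qs) h1.1
    have h9 := h1.2
    rw [modu, List.foldr_cons]
    cases h10 : (h % q == 0 || !(d % q == 0 || q == p))
    · rw [h10, Bool.false_or, beq_iff_eq] at h9
      exact Int.natCast_dvd.2 (Nat.lcm_dvd (Int.natCast_dvd.1 (Int.dvd_of_emod_eq_zero h9))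
        (Int.natCast_dvd.1 h8))
    · exact h8

theorem Adm.admB {h : ℕ} {Md : ℕ → ℕ} {ok : ℕ → ℤ → Bool} {r : ℤ × ℤ} (h1 : Adm h Md ok r) :
    admB h Md ok r = true := by
  obtain ⟨a1, a2, a3, a4⟩ := h1
  simp only [Math.admB, Bool.and_eq_true, Nat.blt_eq, beq_iff_eq]
  exact ⟨⟨⟨a1, Nat.mod_eq_zero_of_dvd a2⟩, Int.emod_eq_zero_of_dvd a3⟩, a4⟩

variable {G : Type*} [Group G] [Finite G] {p : ℕ} [hp : Fact p.Prime] {x : G}

theorem coeff_pow_nat (g : G) : ∀ (j : ℕ) (u : G), ∃ n : ℕ, (classSum ℂ g ^ j).coeff u = n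
  | 0, u => by
    classical
    refine ⟨if 1 = u then 1 else 0, ?_⟩
    rw [pow_zero, MonoidAlgebra.one_def, MonoidAlgebra.coeff_single, Finsupp.single_apply]
    split_ifs <;> simp
  | j + 1, u => by
    classical
    haveI := Fintype.ofFinite G
    choose n hn using coeff_pow_nat g j
    refine ⟨∑ v, n v * if IsConj g (v⁻¹ * u) then 1 else 0, ?_⟩
    rw [pow_succ, coeff_mul_left, Nat.cast_sum]
    refine Finset.sum_congr rfl fun v _ => ?_
    rw [hn, coeff_classSum]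
    split_ifs <;> simp

namespace BD

variable (D : BD p x)

noncomputable def th : IrrCharacter G := D.Y_nonempty.choose

theorem th_mem : D.th ∈ D.Y := D.Y_nonempty.choose_spec

theorem th_not_mem : D.th ∉ D.X := Finset.disjoint_right.1 D.disj D.th_mem

open Classical in
noncomputable def sg (χ : IrrCharacter G) : ℤ := if χ ∈ D.X then D.ε χ else -D.δ

noncomputable def sv (χ : IrrCharacter G) : ℤ := D.sg χ * dg χ

open Classical in
noncomputable def ext : Finset (IrrCharacter G) :=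
  (D.X.erase (irrOne G)).cons D.th fun h => D.th_not_mem (Finset.mem_of_mem_erase h)

noncomputable def xr (g : G) : Multiset (ℤ × ℤ) := D.ext.val.map fun χ => (D.sv χ, iv χ g)

noncomputable def xd : Multiset ℤ := D.ext.val.map D.sv

theorem sg_X {χ : IrrCharacter G} (h : χ ∈ D.X) : D.sg χ = D.ε χ := if_pos h

theorem sg_Y {χ : IrrCharacter G} (h : χ ∈ D.Y) : D.sg χ = -D.δ :=
  if_neg (Finset.disjoint_right.1 D.disj h)

theorem sg_sign (χ : IrrCharacter G) : D.sg χ = 1 ∨ D.sg χ = -1 := by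
  rw [sg]
  split_ifs with h
  · exact D.sign χ h
  · have := D.signY; omega

theorem natAbs_sv (χ : IrrCharacter G) : (D.sv χ).natAbs = dg χ := natAbs_sign_mul (D.sg_sign χ) _

theorem sign_sv (χ : IrrCharacter G) : (D.sv χ).sign = D.sg χ :=
  sign_mul_dg (D.sg_sign χ) (dg_pos χ)

theorem mem_ext {χ : IrrCharacter G} : χ ∈ D.ext ↔ χ = D.th ∨ (χ ≠ irrOne G ∧ χ ∈ D.X) := by
  classical
  rw [ext, Finset.mem_cons, Finset.mem_erase]

theorem th_ext : D.th ∈ D.ext := D.mem_ext.2 (Or.inl rfl)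

theorem blk_of_ext {χ : IrrCharacter G} (h : χ ∈ D.ext) : χ ∈ D.blk ∧ χ ≠ irrOne G := by
  rcases D.mem_ext.1 h with rfl | h
  · exact ⟨D.mem_blk.2 (Or.inr D.th_mem), fun h => D.th_not_mem (h ▸ D.h1)⟩
  · exact ⟨D.mem_blk.2 (Or.inl h.2), h.1⟩

theorem Y_eq (he : D.e + 1 = p) : D.Y = {D.th} := by
  obtain ⟨a, ha⟩ := Finset.card_eq_one.1 (show D.Y.card = 1 by
    rw [D.cardY_eq, show p - 1 = D.e by omega]; exact Nat.div_self D.e_pos)
  have := D.th_mem
  rw [ha] at this ⊢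
  rw [Finset.mem_singleton.1 this]

theorem ext_of_blk (he : D.e + 1 = p) {χ : IrrCharacter G} (h : χ ∈ D.blk) (h1 : χ ≠ irrOne G) :
    χ ∈ D.ext := by
  rw [mem_blk, D.Y_eq he, Finset.mem_singleton] at h
  exact D.mem_ext.2 (h.symm.imp_right fun h => ⟨h1, h⟩)

theorem card_ext : D.ext.card = D.e := by
  classical
  rw [ext, Finset.card_cons, Finset.card_erase_of_mem D.h1, D.cardX]
  have := D.e_pos
  omega

open Classical in
theorem sum_ext {M : Type*} [AddCommMonoid M] (f : IrrCharacter G → M) :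
    ∑ χ ∈ D.ext, f χ = f D.th + ∑ χ ∈ D.X.erase (irrOne G), f χ := Finset.sum_cons _

theorem sum_x {g : G} {w : List (ℤ × ℤ)} (hw : ↑w = D.xr g) {M : Type*} [AddCommMonoid M]
    (f : ℤ × ℤ → M) : (w.map f).sum = ∑ χ ∈ D.ext, f (D.sv χ, iv χ g) := by
  rw [← Multiset.sum_coe, ← Multiset.map_coe, hw, xr, Multiset.map_map]; rfl

theorem xr_fst (g : G) : (D.xr g).map (·.1) = D.xd := by rw [xr, Multiset.map_map]; rfl

theorem mem_xr {χ : IrrCharacter G} (h : χ ∈ D.ext) {g : G} {w : List (ℤ × ℤ)}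
    (hw : ↑w = D.xr g) : (D.sv χ, iv χ g) ∈ w := by
  rw [← Multiset.mem_coe, hw]; exact Multiset.mem_map_of_mem _ h

theorem of_mem_xr {g : G} {w : List (ℤ × ℤ)} (hw : ↑w = D.xr g) {r : ℤ × ℤ} (h : r ∈ w) :
    ∃ χ ∈ D.ext, (D.sv χ, iv χ g) = r := by
  rw [← Multiset.mem_coe, hw] at h; exact Multiset.mem_map.1 h

theorem of_mem_xd {l : List ℤ} (hl : ↑l = D.xd) {v : ℤ} (h : v ∈ l) : ∃ χ ∈ D.ext, D.sv χ = v := by
  rw [← Multiset.mem_coe, hl] at h; exact Multiset.mem_map.1 h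

theorem xr_eq (g : G) : D.xr g = (-(D.δ * D.d), iv D.th g) ::ₘ D.prs g := by
  classical
  rw [xr, ext, Finset.cons_val, Multiset.map_cons, sv, D.sg_Y D.th_mem, D.dg_Y D.th_mem, neg_mul,
    prs]
  exact congrArg _ (Multiset.map_congr rfl fun χ h => by
    rw [sv, D.sg_X (Finset.mem_of_mem_erase h)])

theorem xd_eq : D.xd = -(D.δ * D.d) ::ₘ degs D.toB0Data := by
  rw [← D.xr_fst 1, xr_eq, Multiset.map_cons, prs_fst]

theorem sum_xd : 1 + D.xd.sum = 0 := by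
  rw [xd_eq, Multiset.sum_cons, ← one_add_sum_degs _ D.ox D.h1]; ring

theorem lin_qx {g : G} (hg : IsRat g) (hg' : ¬ p ∣ orderOf g) {w : List (ℤ × ℤ)}
    (hw : ↑w = D.xr g) : lin w = 0 ∧ ((∑ y ∈ reg p x, pairs g g (x * y) : ℕ) : ℤ) *
      Nat.card (centralizer ({g} : Set G)) * Nat.card (centralizer ({g} : Set G)) =
      D.c * qx (Nat.card G) w := by
  obtain ⟨W, hW⟩ := Quotient.exists_rep (D.prs g)
  replace hW : (W : Multiset (ℤ × ℤ)) = D.prs g := hW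
  rw [xr_eq, ← D.sD_eq hW, ← D.yv_eq hW hg hg' D.th_mem, ← hW, Multiset.cons_coe,
    Multiset.coe_eq_coe] at hw
  rw [D.qv_eq hW hg hg', qx_perm _ hw, lin, (hw.map _).sum_eq, qx, qv]
  have := D.signY
  rw [← sign_mul_dg D.signY D.d_pos, ← D.sD_eq hW] at this
  simp only [List.map_cons, List.sum_cons, Int.sign_neg, Int.natAbs_neg, yv]
  constructor
  · rcases this with h | h <;> rw [h] <;> ring
  · ring

theorem sum_reg (φ : IrrCharacter G → ℂ) (hφ : ∀ θ ∈ D.Y, φ θ = φ D.th) :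
    ∑ y ∈ reg p x, ∑ χ, φ χ * conj ((χ : G → ℂ) (x * y)) =
      D.c * (φ (irrOne G) + ∑ χ ∈ D.ext, D.sg χ * φ χ) := by
  classical
  have h4 : ∀ y ∈ reg p x, ∑ χ ∈ D.X ∪ D.Y, φ χ * conj ((χ : G → ℂ) (x * y)) =
      φ (irrOne G) + ∑ χ ∈ D.ext, D.sg χ * φ χ := by
    intro y hy
    rw [mem_reg] at hy
    have h5 := congrArg conj (D.sumY x (mem_zpowers x) (ne_one D.ox) y hy.1 hy.2)
    rw [map_sum, map_neg, map_intCast] at h5
    rw [Finset.sum_union D.disj, Finset.sum_congr rfl (g := fun χ => D.sg χ * φ χ) fun χ hχ => by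
      rw [D.valX χ hχ x (mem_zpowers x) (ne_one D.ox) y hy.1 hy.2, D.sg_X hχ, map_intCast,
        mul_comm], Finset.sum_congr (s₁ := D.Y) rfl fun θ hθ => by rw [hφ θ hθ], ← Finset.mul_sum,
      h5, sum_ext, ← Finset.add_sum_erase _ _ D.h1, D.sg_X D.h1, D.ε_one, D.sg_Y D.th_mem]
    push_cast; ring
  rw [c, ← nsmul_eq_mul, ← Finset.sum_const, ← Finset.sum_congr rfl h4, Finset.sum_comm,
    Finset.sum_comm (s := reg p x)]
  refine (Finset.sum_subset (Finset.subset_univ _) fun χ _ hχ => ?_).symm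
  rw [Finset.mem_union, not_or] at hχ
  rw [← Finset.mul_sum, ← map_sum, D.sum_reg_out hχ.1 hχ.2]
  simp

theorem iv_Y {g : G} (hg' : ¬ p ∣ orderOf g) {θ : IrrCharacter G} (hθ : θ ∈ D.Y) :
    iv θ g = iv D.th g := by rw [iv, iv, D.agree θ hθ _ D.th_mem g hg']

theorem ps_eq {g : G} (hg : IsRat g) (hg' : ¬ p ∣ orderOf g) {w : List (ℤ × ℤ)}
    (hw : ↑w = D.xr g) (j : ℕ) :
    ∃ n : ℕ, D.c * ps (centralizer ({g} : Set G)).index j w = Nat.card G * n := by
  classical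
  haveI := Fintype.ofFinite G
  choose n hn using coeff_pow_nat g j
  refine ⟨∑ y ∈ reg p x, n (x * y), Int.cast_injective (α := ℂ) ?_⟩
  set h := (centralizer ({g} : Set G)).index
  have h1 : ∀ χ : IrrCharacter G, om χ.1 (classSum ℂ g ^ j) * χ.1 1 =
      ((dg χ * (h * iv χ g / dg χ) ^ j : ℤ) : ℂ) := fun χ => by
    rw [om_pow χ.2 (classSum_mem_ZA g), om_classSum χ.2.isClassFunction, centralChar, hg.cast,
      ← dg_cast, Int.cast_mul, Int.cast_pow, Int.cast_div (iv_one χ ▸ iv_one_dvd hg χ)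
        (by exact_mod_cast (dg_pos χ).ne')]
    push_cast; ring
  have h2 := D.sum_reg (fun χ => om χ.1 (classSum ℂ g ^ j) * χ.1 1) fun θ hθ => by
    rw [h1, h1, D.dg_Y hθ, D.dg_Y D.th_mem, D.iv_Y hg' hθ]
  simp only [mul_assoc] at h2
  rw [Finset.sum_congr rfl fun y _ => (inv_mul_eq_iff_eq_mul₀ (card_ne_zero G)).1
    ((ZA_coeff_eq_sum_om (pow_mem (classSum_mem_ZA g) j) (x * y)).symm.trans (hn _)),
    ← Finset.mul_sum] at h2
  simp only [h1, dg_irrOne, iv_irrOne] at h2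
  rw [ps, D.sum_x hw]
  simp only [pw, natAbs_sv]
  simp only [sv]
  push_cast at h2 ⊢
  rw [h2]
  simp [mul_assoc]

open Classical in
theorem sum_blk (f : IrrCharacter G → ℕ) (hf : ∀ θ ∈ D.Y, f θ = f D.th) :
    ∑ χ ∈ D.blk, f χ =
      f (irrOne G) + (D.Y.card * f D.th + ∑ χ ∈ D.X.erase (irrOne G), f χ) := by
  rw [blk, Finset.sum_disjUnion, ← Finset.add_sum_erase _ _ D.h1, Finset.sum_congr rfl hf,
    Finset.sum_const, smul_eq_mul]
  ring

theorem sv_X {χ : IrrCharacter G} (h : χ ∈ D.X) : (p : ℤ) ∣ D.sv χ - (1 : ℕ) := by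
  have h1 := (D.degX χ h).symm.dvd
  rw [sv, D.sg_X h]
  rcases D.sign χ h with h | h <;> rw [h] at h1 ⊢
  · simpa using h1
  · exact dvd_neg.1 (h1.trans (dvd_of_eq (by change _ - _ = -(_ * ((charDegree _ : ℕ) : ℤ) - _); simp; ring)))

theorem sv_th : (p : ℤ) ∣ D.sv D.th - (p - D.e : ℕ) := by
  have h1 := D.modY.dvd
  rw [sv, D.sg_Y D.th_mem, D.dg_Y D.th_mem, Nat.cast_sub D.e_lt.le, ← dvd_add_self_right]
  rcases D.signY with h | h <;> rw [h] at h1 ⊢
  · exact h1.trans (dvd_of_eq (by ring))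
  · exact dvd_neg.1 (h1.trans (dvd_of_eq (by ring)))

theorem mod_of_dvd {v : ℤ} {a : ℕ} (h : (p : ℤ) ∣ v - a) (ha : a < p) : v % p = a := by
  rw [Int.emod_eq_emod_iff_emod_sub_eq_zero.2 (Int.emod_eq_zero_of_dvd h), Int.emod_eq_of_lt] <;>
    omega

theorem mu_X {χ : IrrCharacter G} (h : χ ∈ D.X) (m : ℕ) : mu p m (D.sv χ) = 1 := by
  rw [mu, mod_of_dvd (D.sv_X h) hp.out.one_lt]; rfl

theorem mu_th : mu p D.Y.card (D.sv D.th) = D.Y.card := by
  have := D.e_pos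
  have := D.e_lt
  rw [mu, mod_of_dvd D.sv_th (by omega)]
  by_cases h : D.e + 1 = p
  · rw [D.Y_eq h, Finset.card_singleton, Bool.cond_self]
  · rw [beq_eq_false_iff_ne.2 (by omega)]; rfl

theorem sum_blk' (f : IrrCharacter G → ℕ) (hf : ∀ θ ∈ D.Y, f θ = f D.th) :
    ∑ χ ∈ D.blk, f χ = f (irrOne G) + ∑ χ ∈ D.ext, mu p D.Y.card (D.sv χ) * f χ := by
  classical
  rw [D.sum_blk f hf, sum_ext, mu_th]
  congr 2
  exact Finset.sum_congr rfl fun χ h => by rw [D.mu_X (Finset.mem_of_mem_erase h), one_mul]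

/-- soundness of the value search -/
theorem vs4_ok {N h c m base U Wd M : ℕ} {Md : ℕ → ℕ} {ok : ℕ → ℤ → Bool} {fx : List (ℤ × ℤ)}
    {F : List (ℤ × ℤ) → Bool} {l : List ℤ} (hN : Nat.card G = N) (hB : N ≤ 65536 * 65536) {g : G}
    (hg : IsRat g) (hg' : ¬ p ∣ orderOf g) (hh : (centralizer ({g} : Set G)).index = h)
    (hc : D.c = c) (hm : D.Y.card = m)
    (hb : base + ∑ χ ∈ D.blk, (iv χ g).natAbs * (iv χ g).natAbs ≤ N / h) (hl : ↑l = D.xd)
    (hfx : ↑fx ≤ D.xr g) (hA : ∀ χ ∈ D.ext, Adm h Md ok (D.sv χ, iv χ g))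
    (hq : ∀ w : List (ℤ × ℤ), ↑w = D.xr g → ∃ R : ℕ, qx N w + R = U ∧ R ≤ Wd ∧ M ∣ R)
    (hs : vs4 N h c p m base U Wd M Md ok fx F l = true) :
    ∃ w : List (ℤ × ℤ), ↑w = D.xr g ∧ F w = true := by
  subst hN hh hc hm
  obtain ⟨W, hW⟩ := Quotient.exists_rep (D.xr g)
  replace hW : (W : Multiset (ℤ × ℤ)) = D.xr g := hW
  obtain ⟨R, h1, h2, h3⟩ := hq W hW
  obtain ⟨n3, h4⟩ := D.ps_eq hg hg' hW 3
  obtain ⟨n4, h5⟩ := D.ps_eq hg hg' hW 4
  obtain ⟨w, h6, h7⟩ := vs4_sound hs hB Nat.card_pos D.card_Y_pos (W := W)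
    (by rw [← Multiset.map_coe, hW, xr_fst, hl]) (hW ▸ hfx) (fun r hr => by
      obtain ⟨χ, h, rfl⟩ := D.of_mem_xr hW hr
      exact hA χ h) (by
      rw [D.sum_blk' _ fun θ hθ => by rw [D.iv_Y hg' hθ], iv_irrOne] at hb
      rw [sm, D.sum_x hW]
      simpa [add_comm, add_left_comm, add_assoc] using hb) (D.lin_qx hg hg' hW).1 h1 h2 h3 h4 h5
  exact ⟨w, (Multiset.coe_eq_coe.2 h6).trans hW, h7⟩

theorem rel_one : ((1 - 1) / 1 : ℕ) + (D.xd.map (wq 1 1)).sum = 0 := by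
  simp [show wq 1 1 = fun _ => 0 from funext fun v => by simp [wq, wt, Nat.mod_one]]

theorem rel_xd {q : ℕ} [Fact q.Prime] {y : G} (E : BD q y) (hc : E.c = 1) {e : ℕ} (he : E.e = e)
    (he' : 1 < e) (hpq : p ≠ q) : ((q - 1) / e : ℕ) + (D.xd.map (wq q e)).sum = 0 := by
  subst he
  obtain ⟨l, hl⟩ := Quotient.exists_rep (degs D.toB0Data)
  replace hl : (l : Multiset ℤ) = degs D.toB0Data := hl
  have := D.relW_ok E hc he' hpq hl
  rw [relW, beq_iff_eq] at this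
  rw [xd_eq, ← D.one_add_sum hl, ← hl, Multiset.map_cons, Multiset.sum_cons, wq, Int.sign_neg,
    Int.natAbs_neg, neg_mul, this, Multiset.map_coe, Multiset.sum_coe]
  unfold wq
  ring

theorem relx_ok {q f : ℕ} (h : ((q - 1) / f : ℕ) + (D.xd.map (wq q f)).sum = 0) {l : List ℤ}
    (hl : ↑l = D.xd) : relx q f l = true := by
  rwa [relx, beq_iff_eq, ← Multiset.sum_coe, ← Multiset.map_coe, hl]

variable [IsSimpleGroup G] (hG : ¬ IsMulCommutative G)
include hG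

theorem degSol : DegSol (Nat.card G) (Nat.card G) p (D.k * D.e) D.e D.c A0 (degs D.toB0Data) := by
  obtain ⟨P, hP⟩ := D.exists_sylow
  exact D.index_C' ▸ degSol_of_b0Data hG D.odd P hP D.ox D.hM D.toB0Data D.hB D.h1 D.card_C
    D.not_dvd_c (admits_A0 hG)

theorem btB_ok {bts : List (ℕ × ℕ)} (hb : Bts (Nat.card G) bts) {l : List ℤ} (hl : ↑l = D.xd) :
    btB p D.c bts l = true := by
  simp only [btB, List.all_eq_true, Bool.or_eq_true, beq_iff_eq]
  intro qb h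
  obtain ⟨h1, h2, h3, h4⟩ := hb qb h
  by_cases h5 : qb.1 ∣ p * D.c
  · exact Or.inl (Nat.mod_eq_zero_of_dvd h5)
  obtain ⟨S, h6, h7, h8⟩ := (D.degSol hG).bt _ _ h1 h5 h2 h3 h4
  exact Or.inr (sub_of_le l 1 S (by
    rwa [hl, xd_eq, ← one_add_sum_degs _ D.ox D.h1]) h7 h8)

theorem mem_cS' {dvs : List ℕ} (hd : Dvs (Nat.card G) dvs) {X : ℕ → Bool} {χ : IrrCharacter G}
    (h : χ ∈ D.ext) (hX : X (dg χ) = true) {a : ℕ} (h0 : 0 < a) (ha : a < p)
    (h1 : (p : ℤ) ∣ D.sv χ - a) : D.sv χ ∈ cS dvs p a (D.k * D.e) D.c X := by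
  refine mem_cS ha (fun h => ?_) h1 ?_ (D.natAbs_sv χ ▸ hX) ?_
  · rcases hp.out.dvd_mul.1 h with h | h
    · exact D.odd ((Nat.prime_dvd_prime_iff_eq hp.out Nat.prime_two).1 h)
    · exact absurd (Nat.le_of_dvd h0 h) (by omega)
  · rcases D.mem_ext.1 h with rfl | h
    · have := (D.degSol hG).goodY
      rwa [one_add_sum_degs _ D.ox D.h1, natAbs_sign_mul D.signY, ← D.dg_Y D.th_mem,
        ← D.natAbs_sv] at this
    · exact (D.degSol hG).goodX _ (mem_degs.2 ⟨χ, h.2, h.1, by rw [sv, D.sg_X h.2]⟩)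
  · rw [natAbs_sv]
    refine hd _ (deg_dvd χ) ?_
    rw [← sum_rows_deg 1]
    exact Multiset.single_le_sum (fun _ _ => Nat.zero_le _) _
      (Multiset.mem_map_of_mem (fun r : ℕ × ℤ => r.1 * r.1) (row_mem 1 χ))

theorem gs_ok {F : List ℤ → Bool} {q f k b : ℕ} {c pre : List ℤ} {s : Finset (IrrCharacter G)}
    (hs : s ⊆ D.ext) (hpre : ↑pre = s.val.map D.sv) (hc : ∀ χ ∈ D.ext, χ ∉ s → D.sv χ ∈ c)
    (hr : ((q - 1) / f : ℕ) + (D.xd.map (wq q f)).sum = 0) (hk : k = D.e - pre.length)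
    (hb : ∑ χ ∈ D.ext, dg χ * dg χ ≤ sqz pre + b)
    (h : gs F (wq q f) c k b (1 + pre.sum) (((q - 1) / f : ℕ) + (pre.map (wq q f)).sum) pre = true) :
    ∃ l : List ℤ, ↑l = D.xd ∧ F l = true := by
  classical
  have h1 : D.xd = (D.ext \ s).val.map D.sv + pre := by
    rw [hpre, ← Multiset.map_add, Finset.sdiff_val, tsub_add_cancel_of_le (Finset.val_le_iff.2 hs),
      xd]
  have h2 := D.sum_xd
  have h3 := congrArg Multiset.card h1
  have h4 : ∑ χ ∈ D.ext, dg χ * dg χ = (D.xd.map fun v => v.natAbs * v.natAbs).sum := by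
    rw [xd, Multiset.map_map]; simp [natAbs_sv]
  rw [xd, Multiset.card_map, Multiset.card_add, Finset.card_val, card_ext, Multiset.coe_card] at h3
  rw [h4, sqz] at hb
  rw [h1] at hb hr h2 ⊢
  simp only [Multiset.map_add, Multiset.sum_add, Multiset.map_coe, Multiset.sum_coe] at hb hr h2
  refine gs_sound h (by omega) (fun v hv => ?_) (by omega) (by omega) (by omega)
  obtain ⟨χ, h5, rfl⟩ := Multiset.mem_map.1 hv
  exact hc χ (Finset.mem_sdiff.1 h5).1 (Finset.mem_sdiff.1 h5).2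

theorem dsS_ok {dvs : List ℕ} {N idx c base q f : ℕ} {X : ℕ → Bool} {pre : List ℤ}
    {F : List ℤ → Bool} (hN : Nat.card G = N) (hd : Dvs N dvs) (he : D.e + 1 = p)
    (hi : D.k * D.e = idx) (hc : D.c = c) {s : Finset (IrrCharacter G)} (hs : s ⊆ D.ext)
    (hpre : ↑pre = s.val.map D.sv) (hX : ∀ χ ∈ D.ext, χ ∉ s → X (dg χ) = true)
    (hr : ((q - 1) / f : ℕ) + (D.xd.map (wq q f)).sum = 0)
    (hb : base + ∑ χ ∈ D.blk, dg χ * dg χ ≤ N) (h : dsS dvs N p idx c base X q f pre F = true) :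
    ∃ l : List ℤ, ↑l = D.xd ∧ F l = true := by
  subst hN hi hc
  rw [D.sum_blk _ fun θ hθ => by rw [D.dg_Y hθ, D.dg_Y D.th_mem], D.Y_eq he, Finset.card_singleton,
    one_mul, ← D.sum_ext fun χ => dg χ * dg χ, dg_irrOne] at hb
  have h1 : sqz pre ≤ ∑ χ ∈ D.ext, dg χ * dg χ := by
    rw [sqz, ← Multiset.sum_coe, ← Multiset.map_coe, hpre, Multiset.map_map]
    simpa [natAbs_sv] using Finset.sum_le_sum_of_subset (f := fun χ => dg χ * dg χ) hs
  rw [dsS, Bool.or_eq_true, Nat.blt_eq] at h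
  refine D.gs_ok hG hs hpre (fun χ h1 h2 => D.mem_cS' hG hd h1 (hX χ h1 h2) one_pos
    hp.out.one_lt ?_) hr (by omega) (by omega) (h.resolve_left (by omega))
  rcases D.mem_ext.1 h1 with rfl | h
  · exact (show p - D.e = 1 by omega) ▸ D.sv_th
  · exact D.sv_X h.2

theorem dsY_ok {dvs : List ℕ} {N e idx c base q f : ℕ} {X : ℕ → Bool} {pre : List ℤ}
    {F : List ℤ → Bool} (hN : Nat.card G = N) (hd : Dvs N dvs) (he : D.e = e)
    (hi : D.k * D.e = idx) (hc : D.c = c) {s : Finset (IrrCharacter G)} (hs : s ⊆ D.ext)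
    (hs' : D.th ∉ s) (hpre : ↑pre = s.val.map D.sv) (hX : ∀ χ ∈ D.ext, χ ∉ s → X (dg χ) = true)
    (hr : ((q - 1) / f : ℕ) + (D.xd.map (wq q f)).sum = 0)
    (hb : base + ∑ χ ∈ D.blk, dg χ * dg χ ≤ N)
    (h : dsY dvs N p e idx c base X q f pre F = true) : ∃ l : List ℤ, ↑l = D.xd ∧ F l = true := by
  classical
  subst hN hi hc he
  have h2 := D.sum_ext fun χ => dg χ * dg χ
  rw [D.sum_blk _ fun θ hθ => by rw [D.dg_Y hθ, D.dg_Y D.th_mem], dg_irrOne, D.cardY_eq] at hb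
  have h1 : sqz pre ≤ ∑ χ ∈ D.X.erase (irrOne G), dg χ * dg χ := by
    rw [sqz, ← Multiset.sum_coe, ← Multiset.map_coe, hpre, Multiset.map_map]
    simpa [natAbs_sv] using Finset.sum_le_sum_of_subset (f := fun χ => dg χ * dg χ)
      (s := s) (t := D.X.erase (irrOne G)) fun χ h => Finset.mem_erase.2
        ((D.mem_ext.1 (hs h)).resolve_left fun h' => hs' (h' ▸ h))
  have h3 := D.e_pos
  have h4 := D.e_lt
  replace h := List.all_eq_true.1 h _ (D.mem_cS' hG hd D.th_ext (hX _ D.th_ext hs') (by omega)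
    (by omega) D.sv_th)
  rw [Bool.or_eq_true, Nat.blt_eq, natAbs_sv] at h
  refine D.gs_ok hG (s := s.cons _ hs') (Finset.cons_subset.2 ⟨D.th_ext, hs⟩)
    (by rw [Finset.cons_val, Multiset.map_cons, ← hpre]; rfl) (fun χ h1 h2 => ?_) hr
    (by rw [List.length_cons]; omega) ?_ (h.resolve_left (by omega))
  · rw [Finset.mem_cons, not_or] at h2
    exact D.mem_cS' hG hd h1 (hX χ h1 h2.2) one_pos hp.out.one_lt
      (D.sv_X ((D.mem_ext.1 h1).resolve_left h2.1).2)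
  · rw [sqz, List.map_cons, List.sum_cons, natAbs_sv, ← sqz]
    omega

omit hG [IsSimpleGroup G] in
theorem base_le (s : Finset (IrrCharacter G)) (hs : ∀ χ ∈ s, p ∣ dg χ) (f : IrrCharacter G → ℕ) :
    ∑ χ ∈ s, f χ + ∑ χ ∈ D.blk, f χ ≤ ∑ χ, f χ := by
  classical
  rw [← Finset.sum_union (Finset.disjoint_left.2 fun χ h1 h2 => D.not_dvd_dg h2 (hs χ h1))]
  exact Finset.sum_le_sum_of_subset (Finset.subset_univ _)

omit hG [IsSimpleGroup G] in
theorem base_dg {N : ℕ} (hN : Nat.card G = N) (s : Finset (IrrCharacter G))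
    (hs : ∀ χ ∈ s, p ∣ dg χ) : ∑ χ ∈ s, dg χ * dg χ + ∑ χ ∈ D.blk, dg χ * dg χ ≤ N := by
  rw [← hN, ← sum_rows_deg 1, rows, Multiset.map_map]
  exact D.base_le s hs _

omit hG [IsSimpleGroup G] in
theorem base_iv {N h : ℕ} (hN : Nat.card G = N) {g : G} (hg : IsRat g)
    (hh : (centralizer ({g} : Set G)).index = h) (s : Finset (IrrCharacter G))
    (hs : ∀ χ ∈ s, p ∣ dg χ) : ∑ χ ∈ s, (iv χ g).natAbs * (iv χ g).natAbs +
      ∑ χ ∈ D.blk, (iv χ g).natAbs * (iv χ g).natAbs ≤ N / h := by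
  rw [← card_cent hN hh, ← sum_rows_sq hg, rows, Multiset.map_map]
  exact D.base_le s hs _

theorem dsA_ok {dvs : List ℕ} {bts : List (ℕ × ℕ)} {N q f : ℕ} {X : ℕ → Bool} {F : List ℤ → Bool}
    (hN : Nat.card G = N) (hd : Dvs N dvs) (hb : Bts N bts)
    (hX : ∀ χ ∈ D.blk, χ ≠ irrOne G → X (dg χ) = true)
    (hr : ((q - 1) / f : ℕ) + (D.xd.map (wq q f)).sum = 0)
    (h : dsA dvs bts N p (D.k, D.e, D.c) X q f F = true) : ∃ l : List ℤ, ↑l = D.xd ∧ F l = true := by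
  have h1 := D.base_dg hN ∅ (by simp)
  have h2 : ∀ χ ∈ D.ext, χ ∉ (∅ : Finset _) → X (dg χ) = true := fun χ h _ =>
    hX χ (D.blk_of_ext h).1 (D.blk_of_ext h).2
  obtain ⟨l, h3, h4⟩ : ∃ l : List ℤ, ↑l = D.xd ∧ (!btB p D.c bts l || F l) = true := by
    rw [dsA] at h
    by_cases he : D.e + 1 = p
    · rw [beq_iff_eq.2 he] at h
      exact D.dsS_ok hG hN hd he rfl rfl (Finset.empty_subset _) rfl h2 hr h1 h
    · rw [beq_eq_false_iff_ne.2 he] at h
      exact D.dsY_ok hG hN hd rfl rfl rfl (Finset.empty_subset _) (by simp) rfl h2 hr h1 h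
  rw [D.btB_ok hG (hN ▸ hb) h3] at h4
  exact ⟨l, h3, h4⟩

end BD

end Cfsg.Agent.Math
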