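import Mathlib
import Cfsg.Agent.Math.Ext
import Cfsg.Agent.Char.BW3

/-!
Counting lemmas for class multiplication coefficients and a bound for character values on
Frobenius complements.
-/

set_option autoImplicit false
set_option linter.style.haveILetI false
set_option linter.unusedSectionVars false

namespace Cfsg.Agent.Math

open Subgroup Cfsg.Agent.Small Cfsg.Agent.Grp Cfsg.Agent.Grp.SelfCent Cfsg.Agent.Char
open Cfsg.Agent.Char.SelfC Cfsg.Agent.Char.Euclid Cfsg.Agent.Block Cfsg.Agent.Small.Sieve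
open scoped ComplexConjugate

variable {G : Type*} [Group G] [Finite G] {p : ℕ} [hp : Fact p.Prime] {x : G}

local notation "𝐏" => zpowers x
local notation "𝐂" => centralizer (Singleton.singleton x : Set G)
local notation "𝐍" => normalizer ((zpowers x : Subgroup G) : Set G)

theorem pairs_conj (a b : G) {c c' : G} (h : IsConj c c') : pairs a b c = pairs a b c' := by
  haveI := Fintype.ofFinite G
  obtain ⟨u, rfl⟩ := isConj_iff.1 h
  apply Nat.cast_injective (R := ℂ)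
  rw [pairs, pairs, card_class_pairs, card_class_pairs]
  exact congrArg _ (Finset.sum_congr rfl fun χ _ => by rw [χ.2.isClassFunction c u])

theorem card_isConj (a : G) : Nat.card {b // IsConj a b} = (centralizer ({a} : Set G)).index :=
  ncard_isConj a

theorem pairs_le_index (a b c : G) : pairs a b c ≤ (centralizer ({a} : Set G)).index := by
  rw [← card_isConj]
  refine Nat.card_le_card_of_injective (fun u => ⟨u.1.1, u.2.1⟩) fun u v h => ?_
  have h1 : u.1.1 = v.1.1 := congrArg Subtype.val h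
  have h2 := u.2.2.2.trans v.2.2.2.symm
  rw [h1, mul_left_cancel_iff] at h2
  exact Subtype.ext (Prod.ext h1 h2)

theorem index_mul_pairs_le (a c : G) : (centralizer ({c} : Set G)).index * pairs a a c ≤
    (centralizer ({a} : Set G)).index * (centralizer ({a} : Set G)).index := by
  haveI := Fintype.ofFinite {b // IsConj c b}
  have h := Nat.card_sigma (β := fun g : {b // IsConj c b} =>
    {u : G × G // IsConj a u.1 ∧ IsConj a u.2 ∧ u.1 * u.2 = g})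
  replace h := h.trans
    (Finset.sum_congr rfl (g := fun _ => pairs a a c) fun g _ => (pairs_conj a a g.2).symm)
  rw [Finset.sum_const,
    Finset.card_univ, ← Nat.card_eq_fintype_card, card_isConj, smul_eq_mul] at h
  rw [← h, ← card_isConj, ← Nat.card_prod]
  refine Nat.card_le_card_of_injective (fun u => (⟨u.2.1.1, u.2.2.1⟩, ⟨u.2.1.2, u.2.2.2.1⟩)) ?_
  rintro ⟨⟨g, hg⟩, ⟨u, v⟩, h1, h2, h3⟩ ⟨⟨g', hg'⟩, ⟨u', v'⟩, h1', h2', h3'⟩ h
  simp only [Prod.mk.injEq, Subtype.mk.injEq] at h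
  obtain ⟨rfl, rfl⟩ := h
  obtain rfl : g = g' := h3.symm.trans h3'
  rfl

theorem pPart_mem (hx : orderOf x = p) (hN : ¬ p ^ 2 ∣ Nat.card G) {g : G} (hg : g ∈ 𝐂) :
    pPart p g ∈ 𝐏 :=
  ModSl2.le_zpowers_of_normalizer hx hN (isPGroup_zpowers_pPart p g)
    (Or.inl (zpowers_le.2 (centralizer_le_normalizer _ (by
      rw [centralizer_zpowers]
      exact mem_centralizer_singleton_iff.2
        (commute_pPart (mem_centralizer_singleton_iff.1 hg).symm).symm)))) (mem_zpowers _)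

theorem pPart_mul_mem (hx : orderOf x = p) (hN : ¬ p ^ 2 ∣ Nat.card G) {g z : G} (hg : g ∈ 𝐂)
    (hz : z ∈ 𝐏) : pPart p (g * z) = pPart p g * z := by
  have h1 := mul_mem (pPart_mem hx hN hg) hz
  have h2 : ∀ w ∈ 𝐏, Commute w (pReg p g) := by
    rintro _ ⟨k, rfl⟩
    exact (commute_iff_pPart_pReg.1 (mem_centralizer_singleton_iff.1 hg).symm).2.zpow_left k
  obtain ⟨k, hk⟩ := IsPGroup.iff_orderOf.1 (isPGroup_zp hx) ⟨_, h1⟩
  conv_lhs => rw [← pPart_mul_pReg p g, mul_assoc, ← (h2 z hz).eq, ← mul_assoc]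
  exact pPart_mul_eq (h2 _ h1) ⟨k, by rw [← hk, ← orderOf_coe]⟩ (not_dvd_orderOf_pReg p g)

theorem pairs_sq (hx : orderOf x = p) (h2 : p ≠ 2) (hN : ¬ p ^ 2 ∣ Nat.card G) {t : G}
    (ht : t * t = 1) : ∃ m, ∑ y ∈ reg p x, pairs t t (x * y) = p * (m * m) := by
  have hx' : ∃ k, orderOf x = p ^ k := ⟨1, by rw [hx, pow_one]⟩
  have h1 : ∑ y ∈ reg p x, pairs t t (x * y) =
      Nat.card {a : G × G // IsConj t a.1 ∧ IsConj t a.2 ∧ pPart p (a.1 * a.2) = x} := by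
    rw [← Finset.sum_coe_sort]
    refine Nat.card_sigma.symm.trans (Nat.card_eq_of_bijective (fun a => ⟨a.2.1, a.2.2.1,
      a.2.2.2.1, (congrArg _ a.2.2.2.2).trans ((pPart_mul_eq_iff hx' _).2 (mem_reg.1 a.1.2))⟩)
      ⟨?_, ?_⟩)
    · rintro ⟨⟨y, hy⟩, a, h1, h2, h3⟩ ⟨⟨y', hy'⟩, a', h1', h2', h3'⟩ h
      obtain rfl : a = a' := congrArg Subtype.val h
      obtain rfl : y = y' := mul_left_cancel (h3.symm.trans h3')
      rfl
    · rintro ⟨a, h1, h2, h3⟩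
      exact ⟨⟨⟨x⁻¹ * (a.1 * a.2), mem_reg.2 ((pPart_mul_eq_iff hx' _).1 (by simpa using h3))⟩,
        a, h1, h2, by simp⟩, rfl⟩
  have h3 : ∀ u v : G, IsConj t u → IsConj t v → pPart p (u * v) = x →
      u * x * u⁻¹ = x⁻¹ ∧ v * x * v⁻¹ = x⁻¹ := fun u v hu hv h => by
    have a1 := inv_eq_of_mul_eq_one_right (sq_of_isConj ht hu)
    have a2 := inv_eq_of_mul_eq_one_right (sq_of_isConj ht hv)
    constructor
    · rw [← h, ← pPart_conj, ← pPart_inv, mul_inv_rev, a1, a2, ← mul_assoc, sq_of_isConj ht hu,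
        one_mul]
    · rw [← h, ← pPart_conj, ← pPart_inv, mul_inv_rev, mul_assoc, mul_inv_cancel_right, a1, a2]
  have h4 : ∀ v z : G, z ∈ 𝐏 → IsConj t v → v * x * v⁻¹ = x⁻¹ →
      IsConj t (v * z) ∧ v * z * x * (v * z)⁻¹ = x⁻¹ := fun v z hz hv h => by
    refine ⟨hv.trans ?_, by
      rw [mul_assoc v, comm_zp hz (mem_zpowers x), mul_inv_rev, ← h]; group⟩
    obtain ⟨k, hk⟩ := hp.out.odd_of_ne_two h2
    have a1 : v * z * v⁻¹ = z⁻¹ := by
      obtain ⟨j, rfl⟩ := hz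
      rw [← conj_zpow, h, inv_zpow]
    have a2 : z ^ (2 * k + 1) = 1 := by
      obtain ⟨j, rfl⟩ := hz
      rw [← hk, ← zpow_natCast, ← zpow_mul, mul_comm, zpow_mul, zpow_natCast, ← hx,
        pow_orderOf_eq_one, one_zpow]
    refine isConj_iff.2 ⟨z ^ k, ?_⟩
    have a3 : z ^ k = v * (z ^ k)⁻¹ * v⁻¹ := by rw [← conj_inv, ← conj_pow, a1, inv_pow, inv_inv]
    conv_lhs => enter [1, 1]; rw [a3]
    rw [pow_succ, two_mul, pow_add, ← eq_inv_iff_mul_eq_one] at a2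
    rw [inv_mul_cancel_right, mul_assoc, ← mul_inv_rev, a2, inv_inv]
  have h5 : ∀ u v : G, u * x * u⁻¹ = x⁻¹ → v * x * v⁻¹ = x⁻¹ → u * v ∈ 𝐂 := fun u v hu hv => by
    rw [mem_centralizer_singleton_iff, ← mul_inv_eq_iff_eq_mul]
    calc u * v * x * (u * v)⁻¹ = u * (v * x * v⁻¹) * u⁻¹ := by group
      _ = x := by rw [hv, ← conj_inv, hu, inv_inv]
  have h6 := Nat.card_eq_of_bijective (α := 𝐏 × {a : G × G // IsConj t a.1 ∧ IsConj t a.2 ∧
      pPart p (a.1 * a.2) = x}) (β := {u // IsConj t u ∧ u * x * u⁻¹ = x⁻¹} ×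
      {u // IsConj t u ∧ u * x * u⁻¹ = x⁻¹}) (fun a => (⟨a.2.1.1, a.2.2.1,
        (h3 _ _ a.2.2.1 a.2.2.2.1 a.2.2.2.2).1⟩, ⟨a.2.1.2 * a.1, h4 _ _ a.1.2 a.2.2.2.1
        (h3 _ _ a.2.2.1 a.2.2.2.1 a.2.2.2.2).2⟩)) ⟨by
      rintro ⟨⟨z, hz⟩, ⟨u, v⟩, a1, a2, a3⟩ ⟨⟨z', hz'⟩, ⟨u', v'⟩, b1, b2, b3⟩ h
      simp only [Prod.mk.injEq, Subtype.mk.injEq] at h a1 a2 a3 b1 b2 b3 ⊢
      obtain ⟨rfl, h⟩ := h
      have c1 := pPart_mul_mem hx hN (h5 _ _ (h3 _ _ a1 a2 a3).1 (h3 _ _ a1 a2 a3).2) hz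
      rw [mul_assoc, h, ← mul_assoc, pPart_mul_mem hx hN
        (h5 _ _ (h3 _ _ b1 b2 b3).1 (h3 _ _ b1 b2 b3).2) hz', a3, b3, mul_left_cancel_iff] at c1
      subst c1
      exact ⟨rfl, rfl, mul_right_cancel h⟩, by
      rintro ⟨⟨u, a1, a2⟩, ⟨v, b1, b2⟩⟩
      have c1 := mul_mem (inv_mem (pPart_mem hx hN (h5 _ _ a2 b2))) (mem_zpowers x)
      refine ⟨(⟨_, inv_mem c1⟩, ⟨(u, v * _), a1, (h4 _ _ c1 b1 b2).1, ?_⟩), by simp [mul_assoc]⟩
      rw [← mul_assoc, pPart_mul_mem hx hN (h5 _ _ a2 b2) c1, mul_inv_cancel_left]⟩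
  rw [Nat.card_prod, Nat.card_prod, card_zp hx, ← h1] at h6
  obtain ⟨m, hm⟩ := (hp.out.dvd_mul.1 ⟨_, h6.symm⟩).elim id id
  rw [hm, mul_assoc, mul_right_inj' hp.out.ne_zero] at h6
  exact ⟨m, by rw [h6]; ring⟩

/-- the value at an element of prime order of a Frobenius complement -/
theorem frob_bound (hx : orderOf x = p) (hC : 𝐂 = 𝐏) {g : G} {q : ℕ} (hq : q.Prime) (hpq : p ≠ q)
    (ho : orderOf g = q) (hg : g ∈ 𝐍) (hr : IsRat g) (χ : IrrCharacter G) {ε : ℤ}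
    (hε : ∀ z ∈ 𝐏, z ≠ 1 → (χ : G → ℂ) z = ε) :
    p * iv χ g ≤ dg χ + (p - 1) * ε ∧ -(dg χ + (p - 1) * ε) ≤ p * (q - 1) * iv χ g := by
  classical
  haveI := Fintype.ofFinite G
  obtain ⟨d, h1, h2⟩ := χ.2.isCharacter.exists_fixDim
  have h3 := h2 𝐏 (𝐏 ⊔ zpowers g) (𝐏 ⊔ zpowers g) le_sup_left le_sup_left
  have h4 := h1 𝐏
  have h5 := h1 (𝐏 ⊔ zpowers g)
  rw [classInner_one_right, inv_mul_eq_iff_eq_mul₀ (card_ne_zero _)] at h4 h5
  have h6 : p * q ∣ Nat.card ↥(𝐏 ⊔ zpowers g) :=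
    ((Nat.coprime_primes hp.out hq).2 hpq).mul_dvd_of_dvd_of_dvd
      (hx ▸ orderOf_dvd_natCard _ (mem_sup_left (mem_zpowers x)))
      (ho ▸ orderOf_dvd_natCard _ (mem_sup_right (mem_zpowers g)))
  have h7 : ∀ u ∈ 𝐏 ⊔ zpowers g, u ∉ 𝐏 → (χ : G → ℂ) u = iv χ g := fun u hu hu' => by
    rw [← SetLike.mem_coe, coe_mul_of_right_le_normalizer_left _ _ (zpowers_le.2 hg)] at hu
    obtain ⟨z, hz, w, hw, rfl⟩ := hu
    obtain ⟨k, rfl⟩ := (mem_powers_iff_mem_zpowers.2 hw : ∃ k : ℕ, g ^ k = w)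
    have a1 : g ^ k ∉ 𝐏 := fun h => hu' (mul_mem hz h)
    obtain ⟨v, -, hv⟩ := exists_conj_eq_mul hx hC (pow_mem hg k) a1 hz
    beta_reduce
    rw [← hv, χ.2.isClassFunction, χ.2.isGen.pow_eq_of_rat g (q := iv χ g)
      (by simpa using hr.cast χ) (ho ▸ Nat.coprime_comm.1 (hq.coprime_iff_not_dvd.2 fun h =>
        a1 (by rw [orderOf_dvd_iff_pow_eq_one.1 (ho ▸ h)]; exact one_mem _))), hr.cast]
  have h8 : ∀ (H : Subgroup G) (f : G → ℂ), ∑ u : H, f u = ∑ u ∈ Finset.univ.filter (· ∈ H), f u :=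
    fun H f => (Finset.sum_subtype _ (by simp) f).symm
  have h9 : ∀ H : Subgroup G, (Finset.univ.filter (· ∈ H)).card = Nat.card H := fun H => by
    rw [Nat.card_eq_fintype_card, Fintype.card_subtype]
  have h10 : Finset.univ.filter (· ∈ 𝐏) ⊆ Finset.univ.filter (· ∈ 𝐏 ⊔ zpowers g) :=
    Finset.monotone_filter_right _ fun u _ hu => mem_sup_left hu
  rw [h8, ← Finset.sum_sdiff h10, ← h8, h4, Finset.sum_congr rfl fun u hu => h7 u
    (by simp only [Finset.mem_sdiff, Finset.mem_filter] at hu; exact hu.1.2)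
    (by simp only [Finset.mem_sdiff, Finset.mem_filter] at hu; exact fun h => hu.2 ⟨hu.1.1, h⟩),
    Finset.sum_const, Finset.card_sdiff_of_subset h10, h9, h9, nsmul_eq_mul,
    Nat.cast_sub (card_le_of_le le_sup_left)] at h5
  rw [sum_subgroup_eq hε, ← dg_cast] at h4
  obtain ⟨s, hs⟩ := h6
  have h11 : 0 < s := Nat.pos_of_ne_zero fun h => by
    rw [h, mul_zero] at hs; exact Nat.card_pos.ne' hs
  rw [card_zp hx] at h4 h5
  rw [hs] at h5
  rw [sup_idem] at h3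
  have a4 : (dg χ : ℤ) + (p - 1) * ε = p * d 𝐏 := by exact_mod_cast h4
  have a5 : ((p * q * s : ℕ) - p : ℤ) * iv χ g + p * d 𝐏 = (p * q * s : ℕ) * d (𝐏 ⊔ zpowers g) := by
    exact_mod_cast h5
  have a3 : (d (𝐏 ⊔ zpowers g) : ℤ) ≤ d 𝐏 := by omega
  rw [a4]
  generalize d 𝐏 = a at *
  generalize d (𝐏 ⊔ zpowers g) = b at *
  have a6 : (0 : ℤ) < p := by exact_mod_cast hp.out.pos
  have a7 : (2 : ℤ) ≤ q := by exact_mod_cast hq.two_le
  have a8 : (q : ℤ) ≤ q * s := le_mul_of_one_le_right (by omega) (by exact_mod_cast h11)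
  have a9 : (q * s - 1 : ℤ) * iv χ g + a = q * s * b :=
    mul_left_cancel₀ a6.ne' (by push_cast at a5; linear_combination a5)
  generalize (q : ℤ) * s = n at *
  rw [mul_assoc, ← mul_neg]
  refine ⟨mul_le_mul_of_nonneg_left ?_ a6.le, mul_le_mul_of_nonneg_left ?_ a6.le⟩
  · nlinarith
  · have : (0 : ℤ) ≤ n * b := by have : (0 : ℤ) ≤ n := by omega
                                 positivity
    rcases le_total 0 (iv χ g) with h | h <;> nlinarith

end Cfsg.Agent.Math
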