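import Mathlib
import Cfsg.Agent.Math.Ext
import Cfsg.Agent.Block.Contrib

/-!
Blocks of defect one for the prime three.
-/

set_option autoImplicit false
set_option linter.style.haveILetI false
set_option linter.unusedSectionVars false

namespace Cfsg.Agent.Math

open Subgroup Cfsg.Agent.Small Cfsg.Agent.Char Cfsg.Agent.Char.SelfC Cfsg.Agent.Char.Euclid
open Cfsg.Agent.Block
open scoped ComplexConjugate

theorem two_of_sq {ι : Type*} (s : Finset ι) (f : ι → ℤ) (h2 : ∑ i ∈ s, f i ^ 2 = 2) :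
    ∃ i ∈ s, ∃ j ∈ s, i ≠ j ∧ (f i = 1 ∨ f i = -1) ∧ (f j = 1 ∨ f j = -1) ∧
      ∀ k ∈ s, k ≠ i → k ≠ j → f k = 0 := by
  classical
  have hv : ∀ i ∈ s, f i = 0 ∨ f i = 1 ∨ f i = -1 := fun i hi => by
    have := h2 ▸ Finset.single_le_sum (f := fun i => f i ^ 2) (fun i _ => sq_nonneg _) hi
    have h1 : f i ≤ 1 := by nlinarith
    have h2 : -1 ≤ f i := by nlinarith
    omega
  have hc : (s.filter fun i => f i ≠ 0).card = 2 := by
    rw [Finset.sum_congr rfl (g := fun i => if f i ≠ 0 then 1 else 0) fun i hi => by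
      rcases hv i hi with h | h | h <;> simp [h], Finset.sum_boole] at h2
    exact_mod_cast h2
  obtain ⟨i, j, hij, hs⟩ := Finset.card_eq_two.1 hc
  have h3 : ∀ k, k ∈ s ∧ f k ≠ 0 ↔ k = i ∨ k = j := fun k => by
    rw [← Finset.mem_filter (p := fun i => f i ≠ 0), hs]; simp
  have hi := (h3 i).2 (Or.inl rfl)
  have hj := (h3 j).2 (Or.inr rfl)
  exact ⟨i, hi.1, j, hj.1, hij, (hv i hi.1).resolve_left hi.2, (hv j hj.1).resolve_left hj.2,
    fun k hk h4 h5 => by by_contra h; exact ((h3 k).1 ⟨hk, h⟩).elim h4 h5⟩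

/-- exactly divisible by nine -/
def v9 (d : ℕ) : Bool := d % 9 == 0 && !(d % 27 == 0)

def cong (l : List ℤ) : Bool := (l.map fun v => bif v9 v.natAbs then v else 0).sum % 27 == 0

theorem fac_eq {n k : ℕ} (hn : n ≠ 0) : n.factorization 3 = k ↔ 3 ^ k ∣ n ∧ ¬ 3 ^ (k + 1) ∣ n := by
  rw [Nat.prime_three.pow_dvd_iff_le_factorization hn,
    Nat.prime_three.pow_dvd_iff_le_factorization hn]
  omega

theorem v9_iff {n : ℕ} (hn : n ≠ 0) : v9 n = true ↔ n.factorization 3 = 2 := by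
  simp [fac_eq hn, v9, Nat.dvd_iff_mod_eq_zero]

variable {G : Type*} [Group G] [Finite G] (hN : (Nat.card G).factorization 3 = 3)
include hN

theorem defect_one {M : Ideal AlgInt} (hM : IsPModular 3 M) {χ : IrrCharacter G}
    (h : v9 (dg χ) = true) : blockDefect 3 (blockOf M χ.1) = 1 ∧ ∀ ψ ∈ blockOf M χ.1,
      blockHeight 3 (blockOf M χ.1) ψ.1 = 0 ∧ v9 (dg ψ) = true := by
  have hB : IsPBlock M (blockOf M χ.1) := ⟨χ, rfl⟩
  have h1 := factorization_add_blockDefect (p := 3) (self_mem_blockOf hM χ)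
  have h2 := blockHeight_add_two_le hM hB (self_mem_blockOf hM χ)
  rw [(v9_iff (dg_pos χ).ne').1 h, hN] at h1
  have h3 : blockDefect 3 (blockOf M χ.1) = 1 := by omega
  refine ⟨h3, fun ψ hψ => ?_⟩
  have h4 := blockHeight_eq_zero_of_defect_le hM hB (by omega) hψ
  have h5 := factorization_add_blockDefect (p := 3) hψ
  exact ⟨h4, (v9_iff (dg_pos ψ).ne').2 (by rw [dg]; omega)⟩

theorem tri {χ : IrrCharacter G} (h : v9 (dg χ) = true) : ∃ φ ψ : IrrCharacter G,
    φ ≠ χ ∧ ψ ≠ χ ∧ φ ≠ ψ ∧ v9 (dg φ) = true ∧ v9 (dg ψ) = true ∧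
    ((∀ g, ¬ 3 ∣ orderOf g → φ.1 g = χ.1 g ∧ ψ.1 g = χ.1 g) ∨
      ∃ a b : ℤ, (a = 1 ∨ a = -1) ∧ (b = 1 ∨ b = -1) ∧
        (∀ g, ¬ 3 ∣ orderOf g → χ.1 g + a * φ.1 g + b * ψ.1 g = 0) ∧
        ∀ g, 3 ∣ orderOf g → χ.1 g = a * φ.1 g ∧ χ.1 g = b * ψ.1 g) := by
  classical
  obtain ⟨M, hM⟩ := exists_isPModular Nat.prime_three
  obtain ⟨h1, h2⟩ := defect_one hN hM h
  have hχ := self_mem_blockOf hM χ
  have hB : IsPBlock M (blockOf M χ.1) := ⟨χ, rfl⟩
  generalize blockOf M χ.1 = B at *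
  have a1 : ∀ η ∈ B, ∀ ζ ∈ B, ¬ 3 ∣ contr 3 B η.1 ζ.1 := fun η hη ζ hζ => by
    simpa [(h2 η hη).1] using not_pow_succ_dvd_contr hM hB hη hζ (h2 ζ hζ).1
  have a2 : ∀ η ∈ B, contr 3 B η.1 η.1 = 1 ∨ contr 3 B η.1 η.1 = 2 := fun η hη => by
    have b1 := contr_self_pos hM hB hη
    have b2 := contr_self_le hM hB hη
    have b3 := a1 η hη η hη
    rw [h1] at b2
    omega
  obtain ⟨φ, c1, ψ, c2, c3, c4, c5, c6⟩ := two_of_sq (Finset.univ.erase χ)
    (fun η => contr 3 B χ.1 η.1) (by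
      rw [sum_erase_contr_sq hM hχ, h1]; rcases a2 χ hχ with h | h <;> rw [h] <;> rfl)
  have c7 := (Finset.mem_erase.1 c1).1
  have c8 := (Finset.mem_erase.1 c2).1
  have hφ : φ ∈ B := by by_contra h; have := contr_eq_zero hM hB hχ h; omega
  have hψ : ψ ∈ B := by by_contra h; have := contr_eq_zero hM hB hχ h; omega
  have a3 : ∀ {A : Type} [AddCommMonoid A] (f : IrrCharacter G → A), (∀ η ∉ B, f η = 0) →
      ∑ η, f η = f χ + f φ + f ψ := fun f hf => by
    rw [← Finset.sum_subset (Finset.subset_univ {χ, φ, ψ}) fun η _ h => hf η fun h' => ?_,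
      Finset.sum_insert (by simp [c7.symm, c8.symm]), Finset.sum_pair c3, add_assoc]
    simp only [Finset.mem_insert, Finset.mem_singleton, not_or] at h
    exact a1 χ hχ η h' (c6 η (by simp [h.1]) h.2.1 h.2.2 ▸ dvd_zero 3)
  have a4 : ∀ η ∈ B, ∀ g, 3 * regPart 3 η.1 g = contr 3 B η.1 χ.1 * χ.1 g +
      contr 3 B η.1 φ.1 * φ.1 g + contr 3 B η.1 ψ.1 * ψ.1 g := fun η hη g => by
    have := congrFun (pow_smul_regPart_eq_sum hM hη) g
    rw [h1, Finset.sum_apply, a3 _ fun ζ hζ => by simp [contr_eq_zero hM hB hη hζ]] at this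
    simpa using this
  have a5 : ∀ η ∈ B, ∀ ζ ∈ B, contr 3 B η.1 χ.1 * contr 3 B ζ.1 χ.1 +
      contr 3 B η.1 φ.1 * contr 3 B ζ.1 φ.1 + contr 3 B η.1 ψ.1 * contr 3 B ζ.1 ψ.1 =
      3 * contr 3 B η.1 ζ.1 := fun η hη ζ hζ => by
    have := sum_contr_mul hM hη hζ
    rw [h1, a3 _ fun ξ hξ => by simp [contr_eq_zero hM hB hη hξ]] at this
    simpa using this
  have d1 := a4 χ hχ
  have d2 := a4 φ hφ
  have d3 := a4 ψ hψ
  have d4 := a5 χ hχ φ hφ
  have d5 := a5 χ hχ ψ hψ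
  have d6 := a5 φ hφ φ hφ
  have d7 := a2 χ hχ
  have d8 := a2 φ hφ
  have d9 := a2 ψ hψ
  rw [contr_comm φ.2.isGen χ.2.isGen] at d2 d4 d6
  rw [contr_comm ψ.2.isGen χ.2.isGen, contr_comm ψ.2.isGen φ.2.isGen] at d3 d5
  refine ⟨φ, ψ, c7, c8, c3, (h2 φ hφ).2, (h2 ψ hψ).2, ?_⟩
  generalize contr 3 B χ.1 φ.1 = a at *
  generalize contr 3 B χ.1 ψ.1 = b at *
  generalize contr 3 B φ.1 ψ.1 = c at *
  generalize contr 3 B χ.1 χ.1 = i at *
  generalize contr 3 B φ.1 φ.1 = j at *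
  generalize contr 3 B ψ.1 ψ.1 = k at *
  have e1 : c = 1 ∨ c = -1 := by
    rcases c4 with rfl | rfl <;> rcases d8 with rfl | rfl <;> exact mul_self_eq_one_iff.1 (by omega)
  have e2 : ∀ η ζ : IrrCharacter G, η.1 1 + ζ.1 1 ≠ 0 := fun η ζ h => by
    rw [← dg_cast, ← dg_cast, ← Nat.cast_add, Nat.cast_eq_zero] at h
    have := dg_pos η
    omega
  have e3 := fun (η : IrrCharacter G) => regPart_of_not_dvd (p := 3) η.1 (g := 1) (by simp)
  rcases d7 with rfl | rfl
  · left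
    obtain rfl : a = 1 := c4.resolve_right fun h => e2 χ φ (by
      have f1 := d1 1
      have f2 := d2 1
      rw [e3] at f1 f2
      obtain ⟨rfl, rfl⟩ : j = 1 ∧ c = -b := by subst h; rcases c5 with rfl | rfl <;> omega
      subst h
      push_cast at f1 f2
      linear_combination (f1 + f2) / 3)
    obtain rfl : b = 1 := c5.resolve_right fun h => e2 χ ψ (by
      have f1 := d1 1
      have f2 := d3 1
      rw [e3] at f1 f2
      obtain ⟨rfl, rfl⟩ : k = 1 ∧ c = -1 := by subst h; omega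
      subst h
      push_cast at f1 f2
      linear_combination (f1 + f2) / 3)
    obtain ⟨rfl, rfl, rfl⟩ : j = 1 ∧ k = 1 ∧ c = 1 := by omega
    intro g hg
    have f1 := d1 g
    have f2 := d2 g
    have f3 := d3 g
    rw [regPart_of_not_dvd _ hg] at f1 f2 f3
    push_cast at f1 f2 f3
    exact ⟨by linear_combination (f2 - f1) / 3, by linear_combination (f3 - f1) / 3⟩
  · refine Or.inr ⟨-a, -b, by omega, by omega, fun g hg => ?_, fun g hg => ?_⟩
    · have f1 := d1 g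
      rw [regPart_of_not_dvd _ hg] at f1
      push_cast at f1 ⊢
      linear_combination f1
    · have f1 := d1 g
      have f2 := d2 g
      rw [regPart_of_dvd _ hg] at f1 f2
      obtain ⟨rfl, rfl⟩ : j = 2 ∧ c = -(a * b) := by
        rcases c4 with rfl | rfl <;> rcases c5 with rfl | rfl <;> omega
      rcases c4 with rfl | rfl <;> push_cast at f1 f2 ⊢
      · exact ⟨by linear_combination -(f1 + f2) / 3, by linear_combination (f2 - 2 * f1) / 3⟩
      · exact ⟨by linear_combination (f2 - f1) / 3, by linear_combination -(f2 + 2 * f1) / 3⟩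

theorem BD.cong_ok {p : ℕ} [Fact p.Prime] {x : G} (D : BD p x) (hc : D.c = 1) {l : List ℤ}
    (hl : ↑l = D.xd) : cong l = true := by
  classical
  haveI := Fintype.ofFinite G
  obtain ⟨M, hM⟩ := exists_isPModular Nat.prime_three
  have h1 := eSet_mem_intAlg_of_closed hM (A := {χ : IrrCharacter G | v9 (dg χ) = true})
    (fun χ hχ ψ h => ((defect_one hN hM hχ).2 ψ h).2) x
  have h2 := D.sum_reg (fun χ => if v9 (dg χ) = true then χ.1 1 else 0) fun θ hθ => by
    rw [← dg_cast, ← dg_cast, D.dg_Y hθ, D.dg_Y D.th_mem]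
  have h3 : (((l.map fun v => bif v9 v.natAbs then v else 0).sum : ℤ) : ℂ) =
      ∑ χ ∈ D.ext, D.sg χ * if v9 (dg χ) = true then χ.1 1 else 0 := by
    rw [← Multiset.sum_coe, ← Multiset.map_coe, hl, BD.xd, Multiset.map_map, Int.cast_multiset_sum,
      Multiset.map_map]
    refine Finset.sum_congr rfl fun χ _ => ?_
    simp only [Function.comp, D.natAbs_sv, ← dg_cast]
    cases v9 (dg χ) <;> simp [BD.sv]
  rw [reg_eq D.ox (D.cent_of_c hc), Finset.sum_singleton, mul_one, hc, dg_irrOne, ← h3,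
    if_neg (by decide), zero_add, Nat.cast_one, one_mul] at h2
  rw [coeff_eSet, blockCoeff, finsum_mem_eq_finite_toFinset_sum _ (Set.toFinite _),
    Finset.sum_subset (Finset.subset_univ _) (f := fun χ => (if v9 (dg χ) = true then χ.1 1 else 0) *
      conj (χ.1 x)) (fun χ _ h => by rw [if_neg (by simpa using h), zero_mul]) |>.trans h2 |>.symm.trans
      (Finset.sum_congr rfl fun χ h => by rw [if_pos (by simpa using h)]) |>.symm, map_mul, map_inv₀,
    inv_mul_le_iff₀ (by rw [val_card_eq hM]; exact val_prime_pow_pos hM _), mul_one,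
    val_card_eq hM, hN, val_intCast_le_pow_iff hM] at h1
  exact beq_iff_eq.2 (Int.emod_eq_zero_of_dvd h1)

end Cfsg.Agent.Math
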