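import Mathlib
import Cfsg.Agent.Math.Ext2
import Cfsg.Agent.Math.Tri

/-!
Specialised value searches and membership in the extended list of a principal block.
-/

set_option autoImplicit false
set_option linter.style.haveILetI false
set_option linter.unusedSectionVars false

namespace Cfsg.Agent.Math

open Subgroup Cfsg.Agent.Small Cfsg.Agent.Grp Cfsg.Agent.Grp.SelfCent Cfsg.Agent.Char
open Cfsg.Agent.Char.SelfC Cfsg.Agent.Char.Euclid Cfsg.Agent.Block Cfsg.Agent.Small.Sieve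
open scoped ComplexConjugate

def sqB (N C c p : ℕ) (w : List (ℤ × ℤ)) : Bool :=
  (List.range (c + 1)).any fun m => c * qx N w == (p * (m * m) * (C * C) : ℕ)

/-- values at an involution -/
noncomputable def vt (N h p e c base : ℕ) (qs : List ℕ) (ok : ℕ → ℤ → Bool) (fx : List (ℤ × ℤ))
    (F : List (ℤ × ℤ) → Bool) (l : List ℤ) : Bool :=
  vs4 N h c p ((p - 1) / e) base (bif e % 2 == 0 then p * (N / h * (N / h)) * c else 0)
    (bif e % 2 == 0 then p * (N / h * (N / h)) * c else 0)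
    (bif e % 2 == 0 then p * (N / h * (N / h)) / Nat.gcd (p * (N / h * (N / h))) c else 0)
    (fun d => modu h p d qs) ok fx (fun w => !sqB N (N / h) c p w || F w) l

/-- values at an involution inverting a self-centralising element -/
noncomputable def vi (N h p m base : ℕ) (qs : List ℕ) (ok : ℕ → ℤ → Bool) (fx : List (ℤ × ℤ))
    (F : List (ℤ × ℤ) → Bool) (l : List ℤ) : Bool :=
  vs4 N h 1 p m base (p * (N / h * (N / h))) 0 0 (fun d => modu h p d qs) ok fx F l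

/-- values at a rational element of prime order -/
noncomputable def vr (N h p m q base : ℕ) (ok : ℕ → ℤ → Bool) (fx : List (ℤ × ℤ))
    (F : List (ℤ × ℤ) → Bool) (l : List ℤ) : Bool :=
  vs4 N h 1 p m base (h * (N / h * (N / h))) (h * (N / h * (N / h))) (N / h * (N / h))
    (fun _ => q) (fun d a => (!(d % q == 0) || a == 0) && ok d a) fx F l

def fb (p q d : ℕ) (a : ℤ) : Bool :=
  decide (p * a ≤ d + (p - 1) * wt p (p - 1) d ∧ -(d + (p - 1) * wt p (p - 1) d) ≤ p * (q - 1) * a)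

/-- all rows with multiplicities -/
def fullx (p m : ℕ) (w : List (ℤ × ℤ)) : List (ℕ × ℤ) :=
  w.flatMap fun r => List.replicate (mu p m r.1) (r.1.natAbs, r.2)

theorem div_gcd_dvd {A c R : ℕ} (hA : 0 < A) (h : A ∣ c * R) : A / Nat.gcd A c ∣ R := by
  have hg : 0 < Nat.gcd A c := Nat.gcd_pos_of_pos_left _ hA
  refine (Nat.coprime_div_gcd_div_gcd hg).dvd_of_dvd_mul_left (Nat.dvd_of_mul_dvd_mul_right hg ?_)
  rwa [Nat.div_mul_cancel (Nat.gcd_dvd_left _ _), mul_right_comm,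
    Nat.div_mul_cancel (Nat.gcd_dvd_right _ _)]

theorem adm_of_okv {h p : ℕ} {qs : List ℕ} {ok : ℕ → ℤ → Bool} {v a : ℤ}
    (h1 : okv h p qs v.natAbs a = true) (h2 : ok v.natAbs a = true) :
    Adm h (fun d => modu h p d qs) ok (v, a) := by
  have h3 := modu_dvd h1
  simp only [okv, Bool.and_eq_true, beq_iff_eq, Nat.blt_eq] at h1
  exact ⟨h1.1.1.2, Nat.dvd_of_mod_eq_zero h1.1.2, h3, h2⟩

variable {G : Type*} [Group G] [Finite G] {p : ℕ} [hp : Fact p.Prime] {x : G}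

local notation "𝐏" => zpowers x
local notation "𝐂" => centralizer (Singleton.singleton x : Set G)
local notation "𝐍" => normalizer ((zpowers x : Subgroup G) : Set G)

theorem sylow_sub (hx : orderOf x = p) (hN : ¬ p ^ 2 ∣ Nat.card G) {H : Subgroup G} (h : x ∈ H) :
    ∃ m, Nat.card (Sylow p H) * m = Nat.card H ∧ m ∣ Nat.card 𝐍 := by
  obtain ⟨P, hP⟩ := ModSl2.exists_sylow_eq hx hN
  have h1 : (P : Subgroup G) ≤ H := hP ▸ zpowers_le.2 h
  refine ⟨_, ?_, card_dvd_of_le (inf_le_left (b := H))⟩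
  rw [(P.subtype h1).card_eq_index_normalizer, ← (P.subtype h1).coe_coe, P.coe_subtype,
    ← subgroupOf_normalizer_eq h1, hP, ← ((𝐍).subgroupOf H).index_mul_card, ← inf_subgroupOf_right,
    Nat.card_congr (subgroupOfEquivOfLe inf_le_right).toEquiv]

namespace BD

variable (D : BD p x)

theorem c_pos : 0 < D.c := Nat.pos_of_ne_zero fun h => D.not_dvd_c (h ▸ dvd_zero p)

theorem sg_wt (he : D.e + 1 = p) {χ : IrrCharacter G} (h : χ ∈ D.blk) :
    D.sg χ = wt p (p - 1) (dg χ) := by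
  have h2 : 2 < p := lt_of_le_of_ne hp.out.two_le D.odd.symm
  rw [show p - 1 = D.e by omega]
  rcases D.mem_blk.1 h with h | h
  · rw [D.wt_X h, D.sg_X h, D.Y_eq he]; simp
  · rw [D.dg_Y h, D.wt_Y (by omega), D.sg_Y h]

theorem val_ext {χ : IrrCharacter G} (h : χ ∈ D.ext) (h1 : D.sv χ % p = 1) {z y : G} (hz : z ∈ 𝐏)
    (hz1 : z ≠ 1) (hy : y ∈ 𝐂) (hy' : ¬ p ∣ orderOf y) : (χ : G → ℂ) (z * y) = D.sg χ := by
  rcases D.mem_ext.1 h with rfl | h
  · have := D.e_pos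
    have := D.e_lt
    rw [mod_of_dvd D.sv_th (by omega)] at h1
    have h2 := D.sumY z hz hz1 y hy hy'
    rw [D.Y_eq (by omega), Finset.sum_singleton] at h2
    rw [h2, D.sg_Y D.th_mem, Int.cast_neg]
  · rw [D.valX χ h.2 z hz hz1 y hy hy', D.sg_X h.2]

theorem sv_mod (he : D.e + 1 = p) {χ : IrrCharacter G} (h : χ ∈ D.ext) : D.sv χ % p = 1 := by
  refine mod_of_dvd (a := 1) ?_ hp.out.one_lt
  rcases D.mem_ext.1 h with rfl | h
  · exact (show p - D.e = 1 by omega) ▸ D.sv_th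
  · exact D.sv_X h.2

theorem iv_ext (he : D.e + 1 = p) {χ : IrrCharacter G} (h : χ ∈ D.ext) : iv χ x = D.sg χ :=
  iv_eq (by
    simpa using D.val_ext h (D.sv_mod he h) (mem_zpowers x) (ne_one D.ox) (one_mem _)
      SelfC.not_dvd_orderOf_one)

theorem val_wt (hc : D.c = 1) (he : D.e + 1 = p) (χ : IrrCharacter G) :
    ∀ z ∈ 𝐏, z ≠ 1 → (χ : G → ℂ) z = wt p (p - 1) (dg χ) := fun z hz h1 => by
  by_cases h : p ∣ dg χ
  · rw [D.val_zero hc h z (by rw [← D.ox, ← Nat.card_zpowers, zp_eq D.ox hz h1, Nat.card_zpowers]),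
      wt, Nat.mod_eq_zero_of_dvd h]
    rfl
  have h2 := D.mem_blk_of hc h
  rw [← D.sg_wt he h2]
  by_cases h3 : χ = irrOne G
  · rw [h3, D.sg_X D.h1, D.ε_one]; simp [irrOne_apply]
  · have h4 := D.ext_of_blk he h2 h3
    simpa using D.val_ext h4 (D.sv_mod he h4) hz h1 (one_mem _) SelfC.not_dvd_orderOf_one

theorem fb_ok (hc : D.c = 1) (he : D.e + 1 = p) {g : G} {q : ℕ} (hq : q.Prime) (hpq : p ≠ q)
    (ho : orderOf g = q) (hg : g ∈ 𝐍) (hr : IsRat g) (χ : IrrCharacter G) :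
    fb p q (dg χ) (iv χ g) = true :=
  decide_eq_true (frob_bound D.ox (D.cent_of_c hc) hq hpq ho hg hr χ (D.val_wt hc he χ))

theorem ext_of_mod (hc : D.c = 1) (he : D.e + 1 ≠ p) (he' : 1 < D.e) {χ : IrrCharacter G}
    (h1 : dg χ ≠ 1) (h : dg χ % p = 1 ∨ dg χ % p + 1 = p) :
    χ ∈ D.ext ∧ χ ≠ D.th ∧ D.sv χ = if dg χ % p = 1 then (dg χ : ℤ) else -dg χ := by
  have h2 : 2 < p := lt_of_le_of_ne hp.out.two_le D.odd.symm
  have h3 : χ ∈ D.X := (D.mem_blk.1 (D.mem_blk_of hc fun h' => by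
      rw [Nat.mod_eq_zero_of_dvd h'] at h; omega)).resolve_right fun h' => by
    rw [D.dg_Y h'] at h
    have := D.mod_Y
    omega
  refine ⟨D.mem_ext.2 (Or.inr ⟨fun h => h1 (h ▸ dg_irrOne), h3⟩), fun h => D.th_not_mem (h ▸ h3),
    ?_⟩
  rw [sv, D.sg_X h3]
  rcases D.mod_X h3 with h | h
  · rw [if_pos h.2, h.1, one_mul]
  · rw [if_neg (by omega), h.1, neg_one_mul]

theorem ext_of_not_dvd (hc : D.c = 1) (he : D.e + 1 = p) {χ : IrrCharacter G}
    (h1 : χ ≠ irrOne G) (h : ¬ p ∣ dg χ) : χ ∈ D.ext ∧ D.sv χ = wt p (p - 1) (dg χ) * dg χ :=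
  ⟨D.ext_of_blk he (D.mem_blk_of hc h) h1, by rw [sv, D.sg_wt he (D.mem_blk_of hc h)]⟩

theorem fx_le {s : Finset (IrrCharacter G)} (hs : s ⊆ D.ext) (g : G) :
    s.val.map (fun χ => (D.sv χ, iv χ g)) ≤ D.xr g := Multiset.map_le_map (Finset.val_le_iff.2 hs)

open Classical in
theorem fullx_eq {g : G} (hg' : ¬ p ∣ orderOf g) {w : List (ℤ × ℤ)} (hw : ↑w = D.xr g) {m : ℕ}
    (hm : D.Y.card = m) : ↑(fullx p m w) = (D.blk.erase (irrOne G)).val.map (row g) := by
  have h1 : ∀ w : List (ℤ × ℤ), (fullx p m w : Multiset (ℕ × ℤ)) =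
      (w.map fun r => Multiset.replicate (mu p m r.1) (r.1.natAbs, r.2)).sum := fun w => by
    induction w with
    | nil => rfl
    | cons r w ih => rw [List.map_cons, List.sum_cons, ← ih]; rfl
  have h2 : D.blk.erase (irrOne G) = (D.X.erase (irrOne G)).disjUnion D.Y
      (D.disj.mono_left (Finset.erase_subset _ _)) := by
    ext χ
    have := Finset.disjoint_left.1 D.disj D.h1
    simp only [Finset.mem_erase, mem_blk, Finset.mem_disjUnion]
    exact ⟨fun h => h.2.imp_left fun h' => ⟨h.1, h'⟩,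
      fun h => h.elim (fun h => ⟨h.1, Or.inl h.2⟩) fun h => ⟨fun h' => this (h' ▸ h), Or.inr h⟩⟩
  rw [h1, D.sum_x hw, sum_ext, ← hm, mu_th, h2, Finset.disjUnion_val, Multiset.map_add, add_comm]
  congr 1
  · rw [Finset.sum_congr rfl (g := fun χ => {row g χ}) fun χ h => by
      rw [D.mu_X (Finset.mem_of_mem_erase h), natAbs_sv]; rfl, Finset.sum_eq_multiset_sum]
    exact Multiset.bind_singleton _ _
  · symm
    refine Multiset.eq_replicate.2 ⟨by simp, fun r hr => ?_⟩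
    obtain ⟨θ, hθ, rfl⟩ := Multiset.mem_map.1 hr
    rw [row, D.dg_Y hθ, D.iv_Y hg' hθ, natAbs_sv, D.dg_Y D.th_mem]

theorem row_mem_fullx {g : G} (hg' : ¬ p ∣ orderOf g) {w : List (ℤ × ℤ)} (hw : ↑w = D.xr g)
    {m : ℕ} (hm : D.Y.card = m) (hc : D.c = 1) {χ : IrrCharacter G} (h : ¬ p ∣ dg χ) :
    row g χ ∈ (1, 1) :: fullx p m w := by
  classical
  by_cases h1 : χ = irrOne G
  · rw [h1, row, dg_irrOne, iv_irrOne]; exact List.mem_cons_self
  · refine List.mem_cons_of_mem _ ?_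
    rw [← Multiset.mem_coe, D.fullx_eq hg' hw hm]
    exact Multiset.mem_map_of_mem _ (Finset.mem_erase.2 ⟨h1, D.mem_blk_of hc h⟩)

theorem exists_frob (hc : D.c = 1) (he : D.e + 1 = p) {k : ℕ} (hk : x ^ k ≠ 1) (hk' : x ^ k ≠ x)
    {n : ℕ} (hn : x ^ k ^ n = x) :
    ∃ g : G, g ^ n = 1 ∧ ∀ j, g ^ j * x * (g ^ j)⁻¹ = x ^ k ^ j := by
  obtain ⟨g, hg⟩ := isConj_iff.1 (D.isConj_of_mem he (npow_mem_zpowers x k) hk)
  have h1 : ∀ j, g ^ j * x * (g ^ j)⁻¹ = x ^ k ^ j := fun j => by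
    induction j with
    | zero => simp
    | succ j ih =>
      rw [pow_succ' k, pow_mul, ← hg, conj_pow, ← ih, pow_succ']
      group
  refine ⟨g, ?_, h1⟩
  by_contra h2
  have h3 : g ^ n ∈ 𝐏 := by
    rw [← D.cent_of_c hc, mem_centralizer_singleton_iff, ← mul_inv_eq_iff_eq_mul, h1, hn]
  have h4 : g ∈ 𝐂 := cent_eq D.ox h3 h2 ▸ mem_centralizer_singleton_iff.2 (Commute.self_pow g n)
  rw [mem_centralizer_singleton_iff.1 h4, mul_inv_cancel_right] at hg
  exact hk' hg.symm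

variable [IsSimpleGroup G]

theorem rat_le_x {l : List ℤ} (hl : ↑l = D.xd) {v : ℤ} (hv : v ∈ l) (hv1 : v % p = 1)
    (h : (l.map Int.natAbs).count v.natAbs = 1) (hd : v.natAbs ≠ 1) {r : ℕ} (hr' : r.Prime)
    (hc : r ∣ D.c) : (r - 1) * p ≤ v.natAbs := by
  classical
  obtain ⟨χ, hχ, rfl⟩ := D.of_mem_xd hl hv
  rw [natAbs_sv] at h hd ⊢
  have hu : ∀ ψ ∈ D.ext, dg ψ = dg χ → ψ = χ := fun ψ h1 h2 => by
    rw [← Multiset.coe_count, ← Multiset.map_coe, hl, xd, Multiset.map_map, Multiset.count_map] at h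
    exact Finset.card_le_one.1 (show (D.ext.filter fun ψ => dg χ = (D.sv ψ).natAbs).card = 1
      from h).le _ (by simp [h1, h2, natAbs_sv]) _ (by simp [hχ, natAbs_sv])
  have hr : ∀ g, ∃ z : ℤ, (χ : G → ℂ) g = z := fun g => by
    refine exists_int_of_forall_ringEquiv (χ.2.isCharacter.isIntegral g) fun σ => ?_
    have h1 : dg (galIrr σ χ) = dg χ := charDegree_eq_of_eq (by
      rw [galIrr_apply, ← dg_cast, map_natCast])
    have h2 : galIrr σ χ ∈ D.blk := by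
      by_contra h
      rw [mem_blk, not_or] at h
      have h1 := D.sum_reg_out h.1 h.2
      rw [Finset.sum_congr rfl (g := fun _ => (D.sg χ : ℂ)) fun y hy => by
        rw [galIrr_apply, D.val_ext hχ hv1 (mem_zpowers x) (ne_one D.ox) (mem_reg.1 hy).1
          (mem_reg.1 hy).2, map_intCast], Finset.sum_const, nsmul_eq_mul, mul_eq_zero,
        Nat.cast_eq_zero, Int.cast_eq_zero] at h1
      rcases h1 with h1 | h1
      · exact D.c_pos.ne' h1
      · rcases D.sg_sign χ with h | h <;> omega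
    rw [← galIrr_apply, hu _ ?_ h1]
    have h3 : galIrr σ χ ≠ irrOne G := fun h => hd (by rw [← h1, h, dg_irrOne])
    rcases D.mem_blk.1 h2 with h | h
    · exact D.mem_ext.2 (Or.inr ⟨h3, h⟩)
    · have := D.e_pos
      have := D.e_lt
      rw [← hu _ D.th_ext (by rw [← h1, D.dg_Y h, D.dg_Y D.th_mem]),
        mod_of_dvd D.sv_th (by omega)] at hv1
      exact D.ext_of_blk (by omega) h2 h3
  obtain ⟨u, h2, h3⟩ := D.exists_cent hr' hc
  have hrp : r ≠ p := fun h => D.not_dvd_c (h ▸ hc)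
  obtain ⟨a, ha⟩ := hr u
  have h4 : ∀ k : ℕ, k.Coprime r → (χ : G → ℂ) (u ^ k) = a := fun k hk =>
    (χ.2.isGen.pow_eq_of_rat u (q := a) (by simpa using ha) (h2 ▸ hk)).trans ha
  have h5 : (p : ℤ) ∣ dg χ - a := by
    have h6 := dvd_sub_of_pow χ.2.isCharacter hp.out (D.val_ext hχ hv1 (mem_zpowers x)
      (ne_one D.ox) (mem_centralizer_singleton_iff.2 h3) (by
        rw [h2]; exact fun h => hrp ((Nat.prime_dvd_prime_iff_eq hp.out hr').1 h).symm))
      (b := a) (by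
        rw [h3.symm.mul_pow, ← D.ox, pow_orderOf_eq_one, one_mul, D.ox]
        exact h4 p ((Nat.coprime_primes hp.out hr').2 hrp.symm))
    have h7 := (Int.dvd_self_sub_emod (x := D.sv χ) (m := p)).mul_left (D.sg χ)
    rw [hv1, sv] at h7
    refine (dvd_add h6 h7).trans (dvd_of_eq ?_)
    rcases D.sg_sign χ with h | h <;> rw [h] <;> ring
  have h6 : (r : ℤ) ∣ dg χ - a := by
    rw [← dvd_neg, neg_sub]
    exact dvd_sub_of_pow χ.2.isCharacter hr' ha (by rw [← h2, pow_orderOf_eq_one, ← dg_cast]; simp)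
  have h7 : a < dg χ := by
    have h8 := χ.2.isCharacter.norm_le u
    rw [ha, ← dg_cast, Complex.norm_intCast, Complex.natCast_re] at h8
    refine lt_of_le_of_ne ((le_abs_self a).trans (by exact_mod_cast h8)) fun h => ?_
    refine apply_ne_of_simple (D.blk_of_ext hχ).2 (y := u)
      (fun h => hr'.ne_one (by rw [← h2, h, orderOf_one])) ?_
    rw [ha, h, ← dg_cast]; simp
  have h8 := nonneg_of_val χ.2.isCharacter (u := u) (a := a) (dg_cast χ).symm fun z hz hz1 => by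
    obtain ⟨k, rfl⟩ := (mem_powers_iff_mem_zpowers.2 hz : ∃ k : ℕ, u ^ k = z)
    refine h4 k ((Nat.coprime_comm.1 (hr'.coprime_iff_not_dvd.2 fun h => hz1 ?_)))
    exact orderOf_dvd_iff_pow_eq_one.1 (h2 ▸ h)
  have h9 := Int.le_of_dvd (by omega) ((Nat.isCoprime_iff_coprime.2
    ((Nat.coprime_primes hp.out hr').2 hrp.symm)).mul_dvd h5 h6)
  rw [h2] at h8
  have h10 := hr'.pos
  zify [hr'.one_le]
  nlinarith

theorem vr_ok {N h m q base : ℕ} {ok : ℕ → ℤ → Bool} {fx : List (ℤ × ℤ)}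
    {F : List (ℤ × ℤ) → Bool} {l : List ℤ} (hN : Nat.card G = N) (hB : N ≤ 65536 * 65536)
    [hq : Fact q.Prime] (h2 : q ≠ 2) (hq2 : ¬ q ^ 2 ∣ N) (hpq : p ≠ q) {g : G} (hg : IsRat g)
    (ho : orderOf g = q) (hh : (centralizer ({g} : Set G)).index = h) (hc : D.c = 1)
    (hm : D.Y.card = m) (hb : base + ∑ χ ∈ D.blk, (iv χ g).natAbs * (iv χ g).natAbs ≤ N / h)
    (hl : ↑l = D.xd) (hfx : ↑fx ≤ D.xr g) (hok : ∀ χ, ok (dg χ) (iv χ g) = true)
    (hs : vr N h p m q base ok fx F l = true) : ∃ w : List (ℤ × ℤ), ↑w = D.xr g ∧ F w = true := by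
  have hg' : ¬ p ∣ orderOf g := fun h =>
    hpq ((Nat.prime_dvd_prime_iff_eq hp.out hq.out).1 (ho ▸ h))
  refine D.vs4_ok hN hB hg hg' hh hc hm hb hl hfx (fun χ hχ => ?_) (fun w hw => ?_) hs
  · have h1 := dvd_iv_one_sub hq.out hg (ho ▸ pow_orderOf_eq_one g) χ
    have h3 := abs_iv_le hg χ
    have h4 := iv_zero ho (hN ▸ hq2) (χ := χ)
    have h5 := dg_pos χ
    rw [iv_one] at h1 h3
    refine ⟨?_, ?_, ?_, ?_⟩ <;> simp only [natAbs_sv]
    · have h6 : iv χ g ≠ dg χ := fun h => apply_ne_of_simple (D.blk_of_ext hχ).2 (ne_one ho) (by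
        rw [hg.cast, h, ← dg_cast]; simp)
      have h7 : iv χ g ≠ -dg χ := fun h => by
        rw [h, sub_neg_eq_add, ← two_mul, ← Nat.cast_ofNat, ← Nat.cast_mul,
          Int.natCast_dvd_natCast, hq.out.dvd_mul, Nat.prime_dvd_prime_iff_eq hq.out Nat.prime_two]
          at h1
        have := h4 (h1.resolve_left h2)
        omega
      have := abs_le.1 h3
      omega
    · have := Int.natAbs_dvd_natAbs.2 (iv_one_dvd hg χ)
      rwa [iv_one, Int.natAbs_mul, Int.natAbs_natCast, Int.natAbs_natCast, hh] at this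
    · exact h1
    · rw [hok, Bool.and_true]
      by_cases h : q ∣ dg χ
      · simp [h4 h]
      · simp [mt Nat.dvd_of_mod_eq_zero h]
  · have h1 := (D.lin_qx hg hg' hw).2
    have h3 := pairs_le_index g g x
    rw [reg_eq D.ox (D.cent_of_c hc), Finset.sum_singleton, mul_one, hc, card_cent hN hh, hN,
      Nat.cast_one, one_mul] at h1
    rw [hh] at h3
    refine ⟨(h - pairs g g x) * (N / h * (N / h)), ?_, Nat.mul_le_mul_right _ (Nat.sub_le _ _),
      dvd_mul_left _ _⟩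
    rw [← h1, Nat.cast_mul, Nat.cast_sub h3]; push_cast; ring

variable (hG : ¬ IsMulCommutative G) {N h base : ℕ} {qs : List ℕ} {ok : ℕ → ℤ → Bool}
  {fx : List (ℤ × ℤ)} {F : List (ℤ × ℤ) → Bool} {l : List ℤ} {t : G}
include hG

theorem adm_t (hN : Nat.card G = N) (hq : Qs N qs) (ht : t * t = 1) (h1 : t ≠ 1)
    (hh : (centralizer ({t} : Set G)).index = h) {χ : IrrCharacter G} (hχ : χ ∈ D.ext)
    (hok : ok (dg χ) (iv χ t) = true) : Adm h (fun d => modu h p d qs) ok (D.sv χ, iv χ t) :=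
  adm_of_okv (by
    rw [natAbs_sv, ← hh]
    exact D.okv_ok hG (hN ▸ hq) ht h1 (D.blk_of_ext hχ).1 (D.blk_of_ext hχ).2)
    (by rwa [natAbs_sv])

theorem vi_ok {m : ℕ} (hN : Nat.card G = N) (hB : N ≤ 65536 * 65536) (hq : Qs N qs)
    (ht : t * t = 1) (h1 : t ≠ 1) (hh : (centralizer ({t} : Set G)).index = h) (hc : D.c = 1)
    (hm : D.Y.card = m) (hi : t * x * t⁻¹ = x⁻¹)
    (hb : base + ∑ χ ∈ D.blk, (iv χ t).natAbs * (iv χ t).natAbs ≤ N / h)
    (hl : ↑l = D.xd) (hfx : ↑fx ≤ D.xr t) (hok : ∀ χ, ok (dg χ) (iv χ t) = true)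
    (hs : vi N h p m base qs ok fx F l = true) : ∃ w : List (ℤ × ℤ), ↑w = D.xr t ∧ F w = true := by
  have ht' := not_dvd_orderOf ht hp.out D.odd
  refine D.vs4_ok hN hB (isRat_of_sq ht) ht' hh hc hm hb hl hfx
    (fun χ hχ => D.adm_t hG hN hq ht h1 hh hχ (hok χ)) (fun w hw => ⟨0, ?_, le_rfl, dvd_rfl⟩) hs
  have h2 := (D.lin_qx (isRat_of_sq ht) ht' hw).2
  rw [reg_eq D.ox (D.cent_of_c hc), Finset.sum_singleton, mul_one, hc, card_cent hN hh, hN,
    Nat.cast_one, one_mul, pairs_of_inverts D.ox D.odd (D.cent_of_c hc) ht hi] at h2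
  rw [← h2]; push_cast; ring

theorem vt_ok {e c : ℕ} (hN : Nat.card G = N) (hB : N ≤ 65536 * 65536) (hq : Qs N qs)
    (ht : t * t = 1) (h1 : t ≠ 1) (hh : (centralizer ({t} : Set G)).index = h) (he : D.e = e)
    (hc : D.c = c) (hb : base + ∑ χ ∈ D.blk, (iv χ t).natAbs * (iv χ t).natAbs ≤ N / h)
    (hl : ↑l = D.xd) (hfx : ↑fx ≤ D.xr t) (hok : ∀ χ, ok (dg χ) (iv χ t) = true)
    (hs : vt N h p e c base qs ok fx F l = true) :
    ∃ w : List (ℤ × ℤ), ↑w = D.xr t ∧ F w = true := by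
  have ht' := not_dvd_orderOf ht hp.out D.odd
  obtain ⟨m, hm⟩ := pairs_sq D.ox D.odd D.nsq ht
  have h2 : m ≤ c := by
    have := Finset.sum_le_card_nsmul _ _ _ fun y hy => pairs_le D.ox ht ht hy
    rw [hm, D.card_C, smul_eq_mul, ← BD.c, hc, mul_left_comm c] at this
    exact Nat.mul_self_le_mul_self_iff.1 (Nat.le_of_mul_le_mul_left this hp.out.pos)
  have h3 : ∀ w : List (ℤ × ℤ), ↑w = D.xr t →
      c * qx N w = (p * (m * m) * (N / h * (N / h)) : ℕ) := fun w hw => by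
    have := (D.lin_qx (isRat_of_sq ht) ht' hw).2
    rw [hm, card_cent hN hh, hN, hc] at this
    rw [← this]; push_cast; ring
  have h4 : 0 < c := hc ▸ D.c_pos
  obtain ⟨w, h5, h6⟩ := D.vs4_ok hN hB (isRat_of_sq ht) ht' hh hc (by rw [D.cardY_eq, he]) hb hl hfx
    (fun χ hχ => D.adm_t hG hN hq ht h1 hh hχ (hok χ)) (fun w hw => by
      have h5 := h3 w hw
      by_cases h6 : e % 2 = 0
      · rw [beq_iff_eq.2 h6]
        have h7 : 0 < N / h := card_cent hN hh ▸ Nat.card_pos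
        generalize N / h * (N / h) = C at *
        obtain ⟨a, ha⟩ := Int.eq_ofNat_of_zero_le (show 0 ≤ qx N w from
          nonneg_of_mul_nonneg_right (h5 ▸ Int.natCast_nonneg _) (by exact_mod_cast h4))
        rw [ha, ← Nat.cast_mul, Nat.cast_inj] at h5
        have h8 : a ≤ p * C * c := Nat.le_of_mul_le_mul_left (by
          rw [h5]; nlinarith [Nat.mul_le_mul h2 h2, Nat.zero_le (p * C)]) h4
        refine ⟨p * C * c - a, by rw [ha, Nat.cast_sub h8]; simp, Nat.sub_le _ _, ?_⟩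
        rcases Nat.eq_zero_or_pos C with rfl | h9
        · simp
        refine div_gcd_dvd (Nat.mul_pos hp.out.pos h9) ?_
        rw [Nat.mul_sub, h5, mul_right_comm p (m * m)]
        exact Nat.dvd_sub ((dvd_mul_right _ _).mul_left _) (dvd_mul_right _ _)
      · rw [beq_eq_false_iff_ne.2 h6]
        rw [Finset.sum_eq_zero fun y hy => pairs_eq_zero D.ox D.odd (by rw [D.he]; omega) ht ht hy]
          at hm
        rw [← hm] at h5
        exact ⟨0, by simpa [h4.ne'] using h5, le_rfl, dvd_rfl⟩) hs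
  rw [show sqB N (N / h) c p w = true from List.any_eq_true.2
    ⟨m, List.mem_range.2 (by omega), beq_iff_eq.2 (h3 w h5)⟩] at h6
  exact ⟨w, h5, h6⟩

end BD

end Cfsg.Agent.Math
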