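import Mathlib
import Cfsg.Agent.Math.Ext3

/-!
Admissible rows at rational elements of prime order and linear relations between characters.
-/

set_option autoImplicit false
set_option linter.style.haveILetI false
set_option linter.unusedSectionVars false

namespace Cfsg.Agent.Math

open Subgroup Cfsg.Agent.Small Cfsg.Agent.Grp Cfsg.Agent.Grp.SelfCent Cfsg.Agent.Char
open Cfsg.Agent.Char.SelfC Cfsg.Agent.Char.Euclid Cfsg.Agent.Block Cfsg.Agent.Small.Sieve

def fs {α : Type*} (l : List α) (h : l.Nodup) : Finset α := ⟨l, Multiset.coe_nodup.2 h⟩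

theorem mem_fs {α : Type*} {l : List α} {h : l.Nodup} {a : α} : a ∈ fs l h ↔ a ∈ l := Iff.rfl

variable {G : Type*} [Group G] [Finite G] {p : ℕ} [hp : Fact p.Prime] {x : G}

theorem mem_norm {g : G} {k : ℕ} (h : g * x * g⁻¹ = x ^ k) :
    g ∈ normalizer ((zpowers x : Subgroup G) : Set G) :=
  mem_normalizer_fintype fun n hn => by
    obtain ⟨j, rfl⟩ := mem_zpowers_iff.1 hn
    rw [← conj_zpow, h]
    exact zpow_mem (npow_mem_zpowers x k) j

theorem ne_one_of_dg {χ : IrrCharacter G} (h : dg χ ≠ 1) : χ ≠ irrOne G :=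
  fun h' => h (h' ▸ dg_irrOne)

theorem dg_dvd (χ : IrrCharacter G) : dg χ ∣ Nat.card G := χ.2.deg_dvd_card (dg_cast χ).symm

theorem dg_sq_le (χ : IrrCharacter G) : dg χ * dg χ ≤ Nat.card G := by
  rw [← sum_rows_deg (1 : G)]
  exact Multiset.single_le_sum (fun _ _ => Nat.zero_le _) _
    (Multiset.mem_map_of_mem (fun r : ℕ × ℤ => r.1 * r.1) (row_mem 1 χ))

theorem adm_r [IsSimpleGroup G] (h2 : p ≠ 2) (hq2 : ¬ p ^ 2 ∣ Nat.card G) (hg : IsRat x)
    (ho : orderOf x = p) {h : ℕ} (hh : (centralizer ({x} : Set G)).index = h)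
    {ok : ℕ → ℤ → Bool} {χ : IrrCharacter G} (hχ : χ ≠ irrOne G)
    (hok : ok (dg χ) (iv χ x) = true) {v : ℤ} (hv : v.natAbs = dg χ) :
    Adm h (fun _ => p) (fun d a => (!(d % p == 0) || a == 0) && ok d a) (v, iv χ x) := by
  have h1 := dvd_iv_one_sub hp.out hg (ho ▸ pow_orderOf_eq_one x) χ
  have h3 := abs_iv_le hg χ
  have h4 := iv_zero ho hq2 (χ := χ)
  have h5 := dg_pos χ
  rw [iv_one] at h1 h3
  refine ⟨?_, ?_, ?_, ?_⟩ <;> simp only [hv]
  · have h6 : iv χ x ≠ dg χ := fun h => apply_ne_of_simple hχ (ne_one ho) (by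
      rw [hg.cast, h, ← dg_cast]; simp)
    have h7 : iv χ x ≠ -dg χ := fun h => by
      rw [h, sub_neg_eq_add, ← two_mul, ← Nat.cast_ofNat, ← Nat.cast_mul,
        Int.natCast_dvd_natCast, hp.out.dvd_mul, Nat.prime_dvd_prime_iff_eq hp.out Nat.prime_two]
        at h1
      have := h4 (h1.resolve_left h2)
      omega
    have := abs_le.1 h3
    omega
  · have := Int.natAbs_dvd_natAbs.2 (iv_one_dvd hg χ)
    rwa [iv_one, Int.natAbs_mul, Int.natAbs_natCast, Int.natAbs_natCast, hh] at this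
  · exact h1
  · rw [hok, Bool.and_true]
    by_cases h : p ∣ dg χ
    · simp [h4 h]
    · simp [mt Nat.dvd_of_mod_eq_zero h]

namespace BD

variable (D : BD p x)

theorem wt_rel (hc : D.c = 1) (he : 1 < D.e) {χ φ ψ : IrrCharacter G} {a b : ℤ}
    (h : ∀ g, orderOf g = p → χ.1 g + a * φ.1 g + b * ψ.1 g = 0) :
    wt p D.e (dg χ) + a * wt p D.e (dg φ) + b * wt p D.e (dg ψ) = 0 := by
  have h1 : ∑ g ∈ sset G p, χ.1 g + a * ∑ g ∈ sset G p, φ.1 g + b * ∑ g ∈ sset G p, ψ.1 g = 0 := by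
    rw [Finset.mul_sum, Finset.mul_sum, ← Finset.sum_add_distrib, ← Finset.sum_add_distrib]
    exact Finset.sum_eq_zero fun g hg =>
      h g (orderOf_eq_of_dvd D.ox (D.cent_of_c hc) (mem_sset.1 hg))
  apply Int.cast_injective (α := ℂ)
  apply mul_right_cancel₀ D.sset_ne
  push_cast
  linear_combination D.Y.card * h1 - D.wt_eq hc he χ - a * D.wt_eq hc he φ - b * D.wt_eq hc he ψ

theorem mem_Y (hc : D.c = 1) {χ : IrrCharacter G} (h : dg χ % p ≠ 0) (h1 : dg χ % p ≠ 1)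
    (h2 : dg χ % p + 1 ≠ p) : χ ∈ D.Y :=
  (D.mem_blk.1 (D.mem_blk_of hc (mt Nat.mod_eq_zero_of_dvd h))).resolve_left fun h' => by
    have := D.mod_X h'
    omega

theorem sg_of_sv {χ : IrrCharacter G} {v : ℤ} (h : D.sv χ = v) :
    D.sg χ = v.sign ∧ dg χ = v.natAbs := h ▸ ⟨(D.sign_sv χ).symm, (D.natAbs_sv χ).symm⟩

theorem index_of_c {N h : ℕ} (hN : Nat.card G = N) {c : ℕ} (hc : D.c = c) (hh : h * (p * c) = N) :
    (centralizer ({x} : Set G)).index = h := by
  have := (centralizer ({x} : Set G)).index_mul_card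
  rw [D.card_C, hc, hN, ← hh] at this
  exact Nat.eq_of_mul_eq_mul_right (Nat.mul_pos hp.out.pos (hc ▸ D.c_pos)) this

theorem rws_fullx {g : G} (hg' : ¬ p ∣ orderOf g) {w : List (ℤ × ℤ)} (hw : ↑w = D.xr g) {m : ℕ}
    (hm : D.Y.card = m) : (((1, 1) :: fullx p m w : List (ℕ × ℤ)) : Multiset (ℕ × ℤ)) = D.rws g := by
  classical
  rw [← Multiset.cons_coe, D.fullx_eq hg' hw hm, rws, Finset.erase_val]
  conv_rhs => rw [← Multiset.cons_erase (show irrOne G ∈ D.blk.val from D.mem_blk.2 (Or.inl D.h1))]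
  rw [Multiset.map_cons, row, dg_irrOne, iv_irrOne]

end BD

end Cfsg.Agent.Math
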