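import Mathlib
import Cfsg.Agent.Math.Ext4
import Cfsg.Agent.Class.LinearBasic

/-!
Lower bounds for degrees in a principal block from elements commuting with two others.
-/

set_option autoImplicit false
set_option linter.style.haveILetI false
set_option linter.unusedSectionVars false

namespace Cfsg.Agent.Math

open Subgroup Cfsg.Agent.Small Cfsg.Agent.Grp Cfsg.Agent.Grp.SelfCent Cfsg.Agent.Char
open Cfsg.Agent.Char.SelfC Cfsg.Agent.Char.Euclid Cfsg.Agent.Block Cfsg.Agent.Small.Sieve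

variable {G : Type*} [Group G] [Finite G] {p : ℕ} [hp : Fact p.Prime] {x : G}

theorem exists_mult {H : Type*} [Group H] [Fintype H] {Φ : H → ℂ} (hΦ : IsCharacter H Φ) :
    ∃ n : ℕ, ∑ y, Φ y = Nat.card H * n := by
  obtain ⟨n, hn⟩ := hΦ.exists_nat_inner isCharacter_one
  rw [classInner_one_right, inv_mul_eq_iff_eq_mul₀ (card_ne_zero _)] at hn
  exact ⟨n, hn⟩

theorem dvd_mult {Φ : G → ℂ} (hΦ : IsCharacter G Φ) (hx : orderOf x = p) {U : Subgroup G}
    [Fintype U] (hc : U ≤ centralizer {x}) {b n : ℤ}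
    (hb : ∀ z ∈ zpowers x, z ≠ 1 → ∀ y ∈ U, Φ (z * y) = b)
    (hn : ∑ y : U, Φ y = Nat.card U * n) : (p : ℤ) ∣ n - b := by
  haveI := Fintype.ofFinite (zpowers x)
  obtain ⟨m, hm⟩ := exists_mult (hΦ.comp ((zpowers x).subtype.noncommCoprod U.subtype fun a b => by
    obtain ⟨_, j, rfl⟩ := a
    exact (show Commute (b : G) x from mem_centralizer_singleton_iff.1 (hc b.2)).symm.zpow_left j))
  rw [Fintype.sum_prod_type, Nat.card_prod, card_zp hx] at hm
  have h1 := sum_subgroup_eq (P := zpowers x) (f := fun z => ∑ y : U, Φ (z * y))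
    (c := Nat.card U * b) fun z h1 h2 => by
      rw [Finset.sum_congr rfl fun (y : U) _ => hb z h1 h2 y y.2]; simp
  simp only [one_mul, hn, card_zp hx] at h1
  change ∑ z : zpowers x, ∑ y : U, Φ (z * y) = _ at hm
  refine ⟨m - b, Int.cast_injective (α := ℂ) (mul_left_cancel₀ (card_ne_zero U) ?_)⟩
  push_cast at hm ⊢
  linear_combination hm - h1

theorem mult_lt [IsSimpleGroup G] {χ : IrrCharacter G} (hχ : χ ≠ irrOne G) {U : Subgroup G}
    [Fintype U] {u : G} (hu : u ∈ U) (h1 : u ≠ 1) {n : ℕ}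
    (hn : ∑ y : U, χ.1 y = Nat.card U * n) : n < dg χ := by
  have h2 : ∀ y, (χ.1 y).re ≤ dg χ := fun y => (Complex.re_le_norm _).trans (by
    simpa [← dg_cast] using χ.2.isCharacter.norm_le y)
  have h3 : (χ.1 u).re < dg χ := lt_of_le_of_ne (h2 u) fun h => by
    have h4 := χ.2.isCharacter.norm_le u
    rw [← dg_cast, Complex.natCast_re, ← h] at h4
    refine apply_ne_of_simple hχ h1 (Complex.ext (by rw [h, ← dg_cast]; rfl) ?_)
    rw [← dg_cast, Complex.natCast_im]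
    exact Complex.re_eq_norm.1 (le_antisymm (Complex.re_le_norm _) h4) |>.2.symm
  have h4 := Finset.sum_lt_sum (s := Finset.univ) (f := fun y : U => (χ.1 y).re)
    (g := fun _ => (dg χ : ℝ)) (fun y _ => h2 y) ⟨⟨u, hu⟩, Finset.mem_univ _, h3⟩
  rw [← Complex.re_sum, hn, Finset.sum_const, Finset.card_univ, ← Nat.card_eq_fintype_card,
    nsmul_eq_mul, ← Nat.cast_mul, Complex.natCast_re, ← Nat.cast_mul, Nat.cast_lt] at h4
  exact Nat.lt_of_mul_lt_mul_left h4

theorem le_two_mul_dg [IsSimpleGroup G] (h1 : p ∣ Nat.card G) (h2 : ¬ p ^ 2 ∣ Nat.card G)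
    (h3 : p * (p ^ 2 - 1) < Nat.card G) {χ : IrrCharacter G} (hχ : χ ≠ irrOne G) :
    p ≤ 2 * dg χ := by
  obtain ⟨x, hx⟩ := exists_prime_orderOf_dvd_card' p h1
  have h4 := hp.out.two_le
  by_contra h
  have hn : ¬ (zpowers x).Normal := fun hn => by
    rcases hn.eq_bot_or_eq_top with h4 | h4
    · exact ne_one hx (zpowers_eq_bot.1 h4)
    · have := card_zp hx
      rw [h4, card_top] at this
      rw [this] at h3
      have : 4 ≤ p ^ 2 := by nlinarith
      exact absurd h3 (not_lt.2 (Nat.le_mul_of_pos_right _ (by omega)))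
  obtain ⟨-, -, -, ψ, hψ, hψ1⟩ := ModSl2.core hx h2 hn χ.2.isCharacter
    (fun g hg => by by_contra h5; exact apply_ne_of_simple hχ h5 hg)
    (by change 2 * dg χ + 1 ≤ p; omega)
  have h5 := Nat.card_le_card_of_injective _ ((MonoidHom.ker_eq_bot_iff _).1
    (ψ.normal_ker.eq_bot_or_eq_top.resolve_right fun h4 =>
      hψ1 (MonoidHom.mem_ker.1 (h4 ▸ mem_top x))))
  have h6 : Nat.card (Matrix.ProjectiveSpecialLinearGroup (Fin 2) (ZMod p)) ≤
      Nat.card (Matrix.SpecialLinearGroup (Fin 2) (ZMod p)) :=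
    Nat.card_le_card_of_surjective _ (QuotientGroup.mk_surjective)
  have h7 := Class.card_units_mul_card_SL (ι := Fin 2) (R := ZMod p)
  rw [Matrix.card_GL_field, Nat.card_units, Nat.card_zmod, ZMod.card, Fin.prod_univ_two,
    Fin.val_zero, Fin.val_one, pow_zero, pow_one, show p ^ 2 - p = (p - 1) * p by
      rw [Nat.sub_one_mul, sq], mul_left_comm] at h7
  have := Nat.eq_of_mul_eq_mul_left (by omega) h7
  rw [mul_comm] at h3
  omega

namespace BD

variable (D : BD p x)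

theorem dvd_mult {χ : IrrCharacter G} (hχ : χ ∈ D.blk) {U : Subgroup G} [Fintype U]
    (hc : U ≤ centralizer {x}) (hU : ¬ p ∣ Nat.card U) {n : ℕ}
    (hn : ∑ y : U, χ.1 y = Nat.card U * n) : (p : ℤ) ∣ dg χ - n := by
  have h1 : ∀ y ∈ U, ¬ p ∣ orderOf y := fun y hy h => hU (h.trans (orderOf_dvd_natCard U hy))
  rcases D.mem_blk.1 hχ with h | h
  · have := Int.dvd_sub (D.degX χ h).symm.dvd (Math.dvd_mult χ.2.isCharacter D.ox hc (n := n)
      (fun z h2 h3 y hy => D.valX χ h z h2 h3 y (hc hy) (h1 y hy)) hn)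
    rwa [sub_sub_sub_cancel_right] at this
  · have h2 := Int.dvd_sub D.mod_Θ.symm.dvd (Math.dvd_mult D.isCharacter_Θ D.ox hc
      (n := D.Y.card * n) (b := -D.δ)
      (fun z h2 h3 y hy => by rw [D.Θ_apply, D.sumY z h2 h3 y (hc hy) (h1 y hy)]; simp) (by
        rw [Finset.sum_congr rfl fun (y : U) _ => D.Θ_regular h (h1 y y.2), ← Finset.mul_sum, hn]
        push_cast; ring))
    rw [sub_sub_sub_cancel_right, Nat.cast_mul, ← mul_sub] at h2
    rw [D.dg_Y h]
    exact ((Nat.prime_iff_prime_int.1 hp.out).dvd_or_dvd h2).resolve_left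
      fun h => D.not_dvd_cardY (Int.natCast_dvd_natCast.1 h)

theorem rat_Y {χ : IrrCharacter G} (hχ : χ ∈ D.blk) (h1 : dg χ % p ≠ 1) (h2 : dg χ % p + 1 ≠ p)
    {u : G} (hu : ¬ p ∣ orderOf u) : ∃ a : ℤ, χ.1 u = a := by
  have h3 : ∀ ψ ∈ D.blk, dg ψ = dg χ → ψ ∈ D.Y := fun ψ h h' =>
    (D.mem_blk.1 h).resolve_left fun h4 => by have := D.mod_X h4; rw [h'] at this; omega
  have h4 := h3 χ hχ rfl
  refine exists_int_of_forall_ringEquiv (χ.2.isCharacter.isIntegral u) fun σ => ?_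
  obtain ⟨θ, h5, h6⟩ : ∃ θ ∈ D.Y, galIrr σ θ ∈ D.blk := by
    by_contra! h
    have h5 : ∑ y ∈ reg p x, ∑ θ ∈ D.Y, θ.1 (x * y) = 0 := by
      rw [Finset.sum_comm]
      refine Finset.sum_eq_zero fun θ hθ => σ.injective ?_
      have := (D.mem_blk.not.1 (h θ hθ))
      simpa using D.sum_reg_out (fun h => this (Or.inl h)) fun h => this (Or.inr h)
    rw [Finset.sum_congr rfl fun y hy => D.sumY x (mem_zpowers x) (ne_one D.ox) y (mem_reg.1 hy).1
      (mem_reg.1 hy).2, Finset.sum_const, nsmul_eq_mul, mul_eq_zero, Nat.cast_eq_zero, neg_eq_zero,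
      Int.cast_eq_zero] at h5
    rcases h5 with h5 | h5
    · exact D.c_pos.ne' h5
    · have := D.signY; omega
  rw [D.agree χ h4 θ h5 u hu, ← galIrr_apply]
  exact D.agree _ (h3 _ h6 (by
    rw [D.dg_Y h4, ← D.dg_Y h5]
    exact charDegree_eq_of_eq (by rw [galIrr_apply, ← dg_cast, map_natCast]))) θ h5 u hu

variable [IsSimpleGroup G]

theorem le_dg_three {r : ℕ} (hr : r.Prime) (h1 : r ∣ D.e) (h2 : ¬ r ∣ p * D.c) (h3 : 3 ∣ D.c)
    (h4 : ∀ k, 0 < k → 3 ^ k ∣ p * D.c → 3 ^ k % r ≠ 1) (hN : ¬ r ^ 2 ∣ Nat.card G) (h5 : r ≠ 2)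
    {χ : IrrCharacter G} (hχ : χ ∈ D.blk) (hχ1 : χ ≠ irrOne G) (hd : r ∣ dg χ) :
    p * r ≤ dg χ ∧ (dg χ % p ≠ 1 → dg χ % p + 1 ≠ p → 2 * (p * r) ≤ dg χ) := by
  classical
  haveI := Fact.mk hr
  haveI := Fact.mk Nat.prime_three
  obtain ⟨y, hy⟩ := exists_prime_orderOf_dvd_card'
    (G := normalizer ((zpowers x : Subgroup G) : Set G)) r (D.card_N ▸ h1.mul_left _)
  rw [← orderOf_coe] at hy
  obtain ⟨u, a1, a2, a3⟩ := M11Ord.exists_comm (q := 3) hy (L := centralizer {x}) (by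
    rw [← centralizer_zpowers]
    exact le_normalizer_of_normal_subgroupOf (centralizer_le_normalizer _) y.2)
    (D.card_C ▸ h2) (D.card_C ▸ h3.mul_left _) (D.card_C ▸ h4)
  haveI := Fintype.ofFinite (zpowers u)
  have a4 := card_zp a2
  have a5 : ∀ q : ℕ, q.Prime → ¬ q ∣ D.c → ¬ q ∣ 3 := fun q h h' h'' => h' (h''.trans h3)
  have a6 := a5 r hr fun h => h2 (h.mul_left _)
  have a7 := a5 p hp.out D.not_dvd_c
  obtain ⟨n, hn⟩ := exists_mult (χ.2.isCharacter.restrict (zpowers u))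
  have b1 := D.dvd_mult hχ (zpowers_le.2 a1) (a4 ▸ a7) hn
  have b2 := Math.dvd_mult χ.2.isCharacter hy (U := zpowers u) (b := 0) (n := n)
    (zpowers_le.2 (mem_centralizer_singleton_iff.2 a3.symm)) (fun z c1 c2 v c3 => by
      have c4 : orderOf z = r := by rw [← Nat.card_zpowers, zp_eq hy c1 c2, card_zp hy]
      have c5 : Commute z v := by
        obtain ⟨i, rfl⟩ := c1
        obtain ⟨j, rfl⟩ := c3
        exact a3.zpow_zpow i j
      rw [χ.2.eq_zero_of_pow_dvd (n := 1) hr (dg_cast χ).symm hN (by rwa [pow_one]) (by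
        rw [c5.orderOf_mul_eq_mul_orderOf_of_coprime, c4]
        · exact dvd_mul_right _ _
        · exact c4 ▸ (hr.coprime_iff_not_dvd.2 fun h =>
            a6 (h.trans (a4 ▸ orderOf_dvd_natCard _ c3)))), Int.cast_zero]) hn
  have b3 := mult_lt hχ1 (mem_zpowers u) (ne_one a2) hn
  have b4 : ((p * r : ℕ) : ℤ) ∣ dg χ - n := by
    rw [Nat.cast_mul]
    exact (Nat.isCoprime_iff_coprime.2 ((Nat.coprime_primes hp.out hr).2 fun h =>
      h2 (h ▸ dvd_mul_right _ _))).mul_dvd b1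
        (Int.dvd_sub (Int.natCast_dvd_natCast.2 hd) (by simpa using b2))
  refine ⟨by have := Int.le_of_dvd (by omega) b4; omega, fun c1 c2 => ?_⟩
  obtain ⟨a, ha⟩ := D.rat_Y hχ c1 c2 (u := u) (a2 ▸ a7)
  rw [sum_subgroup_eq (c := a) fun z c3 c4 => by
    obtain ⟨k, rfl⟩ := (mem_powers_iff_mem_zpowers.2 c3 : ∃ k : ℕ, u ^ k = z)
    rw [χ.2.isGen.pow_eq_of_rat u (q := a) (by simpa using ha) (a2 ▸ Nat.coprime_comm.1
      (Nat.prime_three.coprime_iff_not_dvd.2 fun h =>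
        c4 (orderOf_dvd_iff_pow_eq_one.1 (a2 ▸ h)))), ha], a4, ← dg_cast] at hn
  have b5 : (dg χ : ℤ) + (3 - 1) * a = 3 * n := by exact_mod_cast hn
  have b6 : ((2 * (p * r) : ℕ) : ℤ) ∣ dg χ - n := by
    rw [Nat.cast_mul]
    exact (Nat.isCoprime_iff_coprime.2 (((Nat.coprime_primes Nat.prime_two hp.out).2
      D.odd.symm).mul_right ((Nat.coprime_primes Nat.prime_two hr).2 h5.symm))).mul_dvd
        (by omega) b4
  have := Int.le_of_dvd (by omega) b6
  omega

theorem ne_pred (hG : ¬ IsMulCommutative G) (hc : D.c = 1) (he : (p - 1) / D.e % 2 = 1)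
    {χ : IrrCharacter G} (hχ : χ ∈ D.blk) (hχ1 : χ ≠ irrOne G) : dg χ + 1 ≠ p := fun h => by
  have h2 : 2 < p := lt_of_le_of_ne hp.out.two_le D.odd.symm
  have h3 : dg χ % p = dg χ := Nat.mod_eq_of_lt (by omega)
  rcases D.mem_blk.1 hχ with h4 | h4
  · refine (D.degSol hG).parX hc he _ (mem_degs.2 ⟨χ, h4, hχ1, rfl⟩) ?_
    have := D.mod_X h4
    change D.ε χ * dg χ = _
    rcases this with h5 | h5
    · omega
    · rw [h5.1]; omega
  · obtain ⟨l, hl⟩ := Quotient.exists_rep (degs D.toB0Data)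
    replace hl : (l : Multiset ℤ) = degs D.toB0Data := hl
    have h5 := (D.data hG).2.2.1
    have h6 := D.mod_Y
    refine (D.degSol hG).parY hc he ?_
    rw [← D.dg_Y h4, h3] at h6
    rw [← hl, Multiset.sum_coe, D.one_add_sum hl, ← D.dg_Y h4, (h6.resolve_right (by omega)).1,
      show p - 1 = D.e by omega, Nat.div_self (by omega)]
    omega

end BD

end Cfsg.Agent.Math
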