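import Mathlib
import Cfsg.Agent.Math.Kit3

/-!
A simple group of order 95040: the character degrees.
-/

set_option autoImplicit false
set_option linter.style.haveILetI false
set_option linter.unusedSectionVars false

namespace Cfsg.Agent.Math.M12

open Subgroup Cfsg.Agent.Small Cfsg.Agent.Char Cfsg.Agent.Char.Euclid Cfsg.Agent.Small.Sieve

attribute [local irreducible] ds vs2 imp divs opts

instance f5 : Fact (Nat.Prime 5) := ⟨by norm_num⟩
instance f11 : Fact (Nat.Prime 11) := ⟨by norm_num⟩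

def bt : List (ℕ × ℕ) := [(2, 6), (3, 3), (5, 1), (11, 1)]

theorem qs : Qs 95040 [5, 11] := by
  intro q hq
  simp only [List.mem_cons, List.not_mem_nil, or_false] at hq
  rcases hq with rfl | rfl <;> norm_num

variable {G : Type*} [Group G] [Finite G] [IsSimpleGroup G] (hN : Nat.card G = 95040)
include hN

theorem hG : ¬ IsMulCommutative G := not_comm_of_card (by rw [hN]; norm_num)

theorem six_le {χ : IrrCharacter G} (h : χ ≠ irrOne G) : Nat.ble 6 (dg χ) = true := by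
  have := lt_two_mul_dg (hG hN) (p := 11) (by norm_num) (by rw [hN]; norm_num)
    (by rw [hN]; norm_num) (by rw [hN]; norm_num) h
  rw [Nat.ble_eq]; omega

theorem data11 {x : G} (D : BD 11 x) : D.k = 1728 ∧ D.e = 5 ∧ D.c = 1 := by
  have h := D.opts_ok (hG hN) hN (B := 309) (by norm_num) (f := fun o =>
    imp (o ≠ (144, 10, 6) ∧ o ≠ (1728, 5, 1))
      (ds 309 95040 11 o.1 o.2.1 o.2.2 bt (Nat.ble 6) fun _ => false)) (by decide +kernel)
  by_contra h1
  by_cases h2 : (D.k, D.e, D.c) = (144, 10, 6)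
  · simp only [Prod.mk.injEq] at h2
    obtain ⟨h2, h3, h4⟩ := h2
    obtain ⟨t, t1, t2, t3, t4⟩ := D.exists_comm_invol (r := 5) (by norm_num) (by rw [h3]; norm_num)
      (by rw [h4]; norm_num) (by rw [h4]; norm_num)
      (h4 ▸ BD.two_pow_ne (c := 11 * 6) (by decide) (by norm_num))
    obtain ⟨l, -, h5⟩ := D.ds_ok (hG hN) hN (B := 309) (bts := bt) (F := fun _ => false)
      (X := fun d => !(d % 5 == 0) || Nat.blt (2 * 11 * 5) d) (by norm_num) h2 h3 h4
      (fun χ h5 h6 => D.lt_dg (hG hN) (by norm_num) (by norm_num)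
        (by norm_num) (by rw [hN]; norm_num) t2 t1 t3 t4 h5 h6) (by decide +kernel)
    exact Bool.false_ne_true h5
  · obtain ⟨l, -, h5⟩ := D.ds_ok (hG hN) hN (by norm_num) rfl rfl rfl (fun χ _ h => six_le hN h)
      (imp_ok h ⟨h2, by simpa using h1⟩)
    exact Bool.false_ne_true h5

theorem four {t : G} (ht : t * t = 1) (h1 : t ≠ 1) :
    4 ∣ 95040 / (centralizer ({t} : Set G)).index :=
  card_cent hN rfl ▸ four_dvd_cent (by rw [hN]; norm_num) ht h1

theorem relW11 {x : G} (D : BD 11 x) {p : ℕ} [Fact p.Prime] {y : G} (E : BD p y) (hp : p ≠ 11)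
    {l : List ℤ} (hl : ↑l = degs E.toB0Data) : relW 11 5 l = true := by
  obtain ⟨hk, he, hc⟩ := data11 hN D
  exact he ▸ E.relW_ok D hc (by rw [he]; norm_num) hp hl

def lA : List ℤ := [45, -54, -120, 144]
def lB : List ℤ := [-10, 45, -120, 144]

theorem invol {x : G} (D : BD 11 x) : ∃ l : List ℤ, ↑l = degs D.toB0Data ∧ ∀ t : G, t * t = 1 → t ≠ 1 →
    (l = lA ∧ (2 ∣ (centralizer ({t} : Set G)).index ∨ (centralizer ({t} : Set G)).index = 495)) ∨
      (l = lB ∧ 5 ∣ (centralizer ({t} : Set G)).index) := by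
  obtain ⟨hk, he, hc⟩ := data11 hN D
  obtain ⟨l, hl, h⟩ := D.ds_ok (hG hN) hN (B := 309) (bts := bt) (F := fun l =>
    (divs 95040 309).all fun h => imp (11 ∣ h ∧ 4 ∣ 95040 / h) (vs2 95040 11 2 h 0 [5, 11] Nat.beq
      (fun _ => decide ((l = lA ∧ (2 ∣ h ∨ h = 495)) ∨ (l = lB ∧ 5 ∣ h))) l))
    (by norm_num) hk he hc (fun χ _ h => six_le hN h) (by decide +kernel)
  refine ⟨l, hl, fun t ht h1 => ?_⟩
  obtain ⟨w, hw, h⟩ := D.vs2_ok (hG hN) hN (by norm_num) qs ht h1 rfl (by rw [D.cardY_eq, he])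
    (D.base_zero ht) hl (D.Q_zero hN ht (by rw [he])) (imp_ok (divs_ok hN (by norm_num) h _)
      ⟨D.dvd_idx (by rw [hc]; norm_num) ht h1, four hN ht h1⟩)
  exact of_decide_eq_true h

theorem data5 {x : G} (D : BD 11 x) {y : G} (E : BD 5 y) :
    ↑lA = degs D.toB0Data ∧ E.e = 4 ∧ (E.c = 12 ∨ (E.k = 2376 ∧ E.c = 2)) ∧
      ∃ z : G, z ≠ 1 ∧ z * z = 1 ∧ (centralizer ({z} : Set G)).index = 495 := by
  obtain ⟨hk, he, hc⟩ := data11 hN D
  obtain ⟨l, hl, h⟩ := invol hN D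
  obtain ⟨z, z1, z2, z3⟩ := exists_central_invol (G := G) (by rw [hN]; norm_num)
  obtain ⟨l', hl', h1⟩ := E.ds_ok (hG hN) hN (by norm_num) rfl rfl rfl (fun χ _ h => by
      rw [six_le hN h, D.inb_fdeg hc hl (m := 2) (by rw [D.cardY_eq, he])]; rfl)
    (imp_ok (E.opts_ok (hG hN) hN (B := 309) (by norm_num) (List.all_eq_true.1
      (by decide +kernel : ([lA, lB].all fun l => (opts 309 95040 5).eraseDups.all fun o =>
        imp (¬ 11 ∣ o.2.2) (ds 309 95040 5 o.1 o.2.1 o.2.2 bt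
          (fun d => Nat.ble 6 d && BD.inb 11 (fdeg 2 l) d) fun l' => imp (relW 11 5 l')
            (decide (o.2.1 = 4 ∧ (o.2.2 = 12 ∨ (o.1 = 2376 ∧ o.2.2 = 2)))))) = true) l
      (by rcases h z z2 z1 with ⟨rfl, -⟩ | ⟨rfl, -⟩ <;> simp)))
      (E.not_dvd_c' D (by rw [hc]; norm_num) (by norm_num)))
  obtain ⟨h2, h3⟩ := of_decide_eq_true (imp_ok h1 (relW11 hN D E (by norm_num) hl'))
  obtain ⟨t, t1, t2, -, t3⟩ := E.exists_invol' (by
    rcases h3 with h3 | h3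
    · rw [show E.c = 12 from h3]; norm_num
    · rw [show E.c = 2 from h3.2])
  obtain rfl := ((h t t2 t1).resolve_right fun h => t3 h.2).1
  refine ⟨hl, h2, h3, z, z1, z2, ?_⟩
  rcases h z z2 z1 with ⟨-, h⟩ | ⟨h, -⟩
  · exact h.resolve_left z3
  · exact absurd h (by decide)

theorem at5 {x : G} (D : BD 11 x) {y : G} (E : BD 5 y) : ∃ b d : ℤ,
    ↑[(1, 1), (45, 0), (54, b), (120, 0), (144, d), (16, 1 - b + d), (16, 1 - b + d)] = D.rws y ∧
      5 ∣ 54 - b ∧ 5 ∣ 144 - d ∧ (54 : ℤ) ∣ (centralizer ({y} : Set G)).index * b := by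
  obtain ⟨hk, he, hc⟩ := data11 hN D
  obtain ⟨hl, e5, -⟩ := data5 hN D E
  have hy := E.isRat (by rw [e5])
  obtain ⟨w, hw, h1⟩ := D.exists_w hl y
  simp only [lA, List.map_eq_cons_iff, List.map_eq_nil_iff] at h1
  obtain ⟨⟨_, a⟩, _, rfl, rfl, ⟨_, b⟩, _, rfl, rfl, ⟨_, c⟩, _, rfl, rfl, ⟨_, d⟩, _, rfl, rfl, rfl⟩ :=
    h1
  have h2 := D.full_eq hw hy (by rw [E.ox]; norm_num) (m := 2) (by rw [D.cardY_eq, he])
  have h3 : ∀ r ∈ D.rws y, (5 ∣ r.1 → r.2 = 0) ∧ 5 ∣ (r.1 : ℤ) - r.2 ∧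
      (r.1 : ℤ) ∣ (centralizer ({y} : Set G)).index * r.2 := fun r hr => by
    obtain ⟨χ, -, rfl⟩ := D.exists_of_mem hr
    refine ⟨iv_zero E.ox E.nsq, ?_, ?_⟩
    · exact iv_one χ ▸ dvd_iv_one_sub (by norm_num) hy (orderOf_dvd_iff_pow_eq_one.1 E.ox.dvd) χ
    · exact iv_one χ ▸ iv_one_dvd hy χ
  rw [← h2] at h3
  obtain rfl : a = 0 := (h3 (45, a) (by simp [full])).1 (by norm_num)
  obtain rfl : c = 0 := (h3 (120, c) (by simp [full])).1 (by norm_num)
  refine ⟨b, d, Eq.trans ?_ h2, (h3 (54, b) (by simp [full])).2.1,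
    (h3 (144, d) (by simp [full])).2.1, (h3 (54, b) (by simp [full])).2.2⟩
  simp [full, yv, sD, show Int.sign 16 = 1 from rfl, show Int.sign 45 = 1 from rfl,
    show Int.sign 144 = 1 from rfl, show Int.sign 54 = 1 from rfl, sub_eq_add_neg, add_assoc]

theorem c5 {x : G} (D : BD 11 x) {y : G} (E : BD 5 y) : E.k = 2376 ∧ E.c = 2 := by
  obtain ⟨hl, e5, h, -⟩ := data5 hN D E
  refine h.resolve_left fun h => ?_
  obtain ⟨b, d, h1, h2, h3, h4⟩ := at5 hN D E
  have h5 := sum_map_le (fun r => r.2.natAbs * r.2.natAbs) (h1 ▸ D.rws_le y)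
  have h6 := E.card_G
  rw [sum_rows_sq (E.isRat (by rw [e5])), E.card_C, h] at h5
  rw [hN, h, e5] at h6
  rw [E.index_C', e5, show E.k = 396 by omega] at h4
  simp only [Multiset.map_coe, Multiset.sum_coe, List.map_cons, List.sum_cons, List.map_nil,
    List.sum_nil] at h5
  zify at h5
  simp only [abs_mul_abs_self] at h5
  obtain rfl : b = -6 := by
    have : -8 < b ∧ b < 8 := by
      constructor <;> nlinarith [mul_self_nonneg d, mul_self_nonneg (1 - b + d)]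
    norm_num at h4
    omega
  have : -5 < d ∧ d < 5 := by constructor <;> nlinarith [mul_self_nonneg (7 + d)]
  obtain rfl | rfl : d = -1 ∨ d = 4 := by omega
  all_goals norm_num at h5

def r11 : List (ℕ × ℤ) := [(1, 1), (16, 4), (16, 4), (45, 5), (54, 6), (120, 0), (144, 4)]
def r5 : List (ℕ × ℤ) := [(1, 1), (66, 6), (99, -1), (144, 4), (176, -4)]

omit hN in
theorem chkT : ds 309 95040 5 2376 4 2 bt (fun d => Nat.ble 6 d && BD.inb 11 (fdeg 2 lA) d)
    (fun l => imp (relW 11 5 l) ((divs 95040 309).all fun h =>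
      imp (¬ 5 ∣ h ∧ 11 ∣ h ∧ 4 ∣ 95040 / h) (vs2 95040 11 2 h 0 [5, 11] Nat.beq (fun w =>
        vs2 95040 5 1 h 0 [5, 11] (BD.Qg 2 (2 * (5 * 2)) (95040 / h)) (fun v =>
          imp (nd 11 (full 1 v) ≤ full 2 w ∧ sq2 (full 1 v ∪ full 2 w) ≤ 95040 / h)
            (decide (h = 396 ∧ (r11 : Multiset (ℕ × ℤ)) = full 2 w ∧
              (r5 : Multiset (ℕ × ℤ)) = full 1 v))) l) lA))) = true := by
  decide +kernel

theorem atT {x : G} (D : BD 11 x) {y : G} (E : BD 5 y) : ∃ t : G, t ≠ 1 ∧ t * t = 1 ∧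
    (centralizer ({t} : Set G)).index = 396 ∧ ↑r11 = D.rws t ∧ ↑r5 = E.rws t := by
  obtain ⟨hk, he, hc⟩ := data11 hN D
  obtain ⟨hl, e5, -⟩ := data5 hN D E
  obtain ⟨k5, c5⟩ := c5 hN D E
  have hY : D.Y.card = 2 := by rw [D.cardY_eq, he]
  have hY' : E.Y.card = 1 := by rw [E.cardY_eq, e5]
  obtain ⟨t, h1, ht, -, h2⟩ := E.exists_invol' (by rw [c5])
  obtain ⟨l, hl', h⟩ := E.ds_ok (hG hN) hN (by norm_num) k5 e5 c5 (fun χ _ h => by
    rw [six_le hN h, D.inb_fdeg hc hl hY]; rfl) chkT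
  obtain ⟨w, hw, h⟩ := D.vs2_ok (hG hN) hN (by norm_num) qs ht h1 rfl hY (D.base_zero ht) hl
    (D.Q_zero hN ht (by rw [he])) (imp_ok (divs_ok hN (by norm_num)
      (imp_ok h (relW11 hN D E (by norm_num) hl')) _)
      ⟨h2, D.dvd_idx (by rw [hc]; norm_num) ht h1, four hN ht h1⟩)
  obtain ⟨v, hv, h⟩ := E.vs2_ok (hG hN) hN (by norm_num) qs ht h1 rfl hY' (E.base_zero ht) hl'
    (E.Q_gen hN ht c5 rfl) h
  have h3 := of_decide_eq_true (imp_ok h (by
    rw [E.full_eq' hv ht hY', D.full_eq' hw ht hY, ← card_cent hN rfl]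
    exact ⟨D.filter_le E hc t, sq2_le ht (Multiset.union_le (E.rws_le t) (D.rws_le t))⟩))
  rw [E.full_eq' hv ht hY', D.full_eq' hw ht hY] at h3
  exact ⟨t, h1, ht, h3⟩

def sY : List (ℕ × ℤ) := [(1, 1), (16, 1), (16, 1), (45, 0), (54, -1), (66, 1), (99, -1), (120, 0),
  (144, -1), (176, 1)]

def tA : List (ℕ × ℤ) := sY ++ [(11, 1), (11, 1), (55, 0), (55, 0), (55, 0)]
def tB : List (ℕ × ℤ) := sY ++ [(44, -1), (55, 0), (66, 1)]

theorem rowsY {x : G} (D : BD 11 x) {y : G} (E : BD 5 y) :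
    rows y = ↑tA ∨ rows y = ↑tB := by
  obtain ⟨hk, he, hc⟩ := data11 hN D
  obtain ⟨hl, e5, -⟩ := data5 hN D E
  obtain ⟨k5, c5⟩ := c5 hN D E
  have hy := E.isRat (by rw [e5])
  have y1 := Cfsg.Agent.Grp.SelfCent.ne_one E.ox
  obtain ⟨t, -, -, -, -, h1⟩ := atT hN D E
  have h2 := E.rws_self (by rw [e5]) t
  rw [← h1, e5, show Multiset.map (fun r : ℕ × ℤ => (r.1, wt 5 4 r.1)) r5 =
    ↑[(1, (1 : ℤ)), (66, 1), (99, -1), (144, -1), (176, 1)] by decide +kernel] at h2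
  obtain ⟨b, d, h3, h4, -⟩ := at5 hN D E
  have hC : ((rows y).map fun r => r.2.natAbs * r.2.natAbs).sum = 10 := by
    rw [sum_rows_sq hy, E.card_C, c5]
  have h5 : d = -1 := by
    have := Multiset.mem_of_le (D.filter_le E hc y) (a := (144, -1)) (by rw [h2]; decide)
    rw [← h3] at this
    simpa [eq_comm] using this
  subst h5
  have h6 : b = -1 := by
    have h7 := sum_map_le (fun r => r.2.natAbs * r.2.natAbs) (h3 ▸ D.rws_le y)
    rw [hC] at h7
    simp only [Multiset.map_coe, Multiset.sum_coe, List.map_cons, List.sum_cons, List.map_nil,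
      List.sum_nil] at h7
    zify at h7
    simp only [abs_mul_abs_self] at h7
    have : -3 < b ∧ b < 3 := by constructor <;> nlinarith [mul_self_nonneg (1 - b + -1)]
    omega
  subst h6
  have h7 : (sY : Multiset (ℕ × ℤ)) ≤ rows y := by
    refine le_trans ?_ (Multiset.union_le (D.rws_le y) (E.rws_le y))
    rw [← h3, h2]; decide +kernel
  obtain ⟨R, hR⟩ := Multiset.le_iff_exists_add.1 h7
  have a1 := sum_rows_deg y
  have a2 := sum_rows_mul hy y1
  rw [hR, Multiset.map_add, Multiset.sum_add] at hC a1 a2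
  rw [show (Multiset.map (fun r : ℕ × ℤ => r.2.natAbs * r.2.natAbs) sY).sum = 8 by decide] at hC
  rw [show (Multiset.map (fun r : ℕ × ℤ => r.1 * r.1) sY).sum = 85723 by decide +kernel, hN] at a1
  rw [show (Multiset.map (fun r : ℕ × ℤ => (r.1 : ℤ) * r.2) sY).sum = -22 by decide +kernel] at a2
  have a3 : R.filter (¬ 11 ∣ ·.1) = 0 := by
    have := D.rws_eq_filter hc y
    rw [hR, Multiset.filter_add, ← h3, show Multiset.filter (fun r : ℕ × ℤ => ¬ 11 ∣ r.1) sY =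
      ↑[(1, (1 : ℤ)), (45, 0), (54, -1), (120, 0), (144, -1), (16, 1 - -1 + -1),
        (16, 1 - -1 + -1)] by decide +kernel] at this
    exact left_eq_add.1 this
  obtain ⟨i, j, k, l, rfl⟩ := ms_four R (11, 1) (44, -1) (55, 0) (66, 1) fun r hr => by
    have b1 := Multiset.single_le_sum (fun _ _ => Nat.zero_le _) _
      (Multiset.mem_map_of_mem (fun r : ℕ × ℤ => r.1 * r.1) hr)
    have b2 := Multiset.single_le_sum (fun _ _ => Nat.zero_le _) _
      (Multiset.mem_map_of_mem (fun r : ℕ × ℤ => r.2.natAbs * r.2.natAbs) hr)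
    have b3 : 11 ∣ r.1 := not_not.1 (Multiset.filter_eq_nil.1 a3 r hr)
    obtain ⟨χ, rfl⟩ := exists_of_mem_rows (hR ▸ Multiset.mem_add.2 (Or.inr hr) : r ∈ rows y)
    have b4 : (5 : ℤ) ∣ dg χ - iv χ y :=
      iv_one χ ▸ dvd_iv_one_sub (by norm_num) hy (orderOf_dvd_iff_pow_eq_one.1 E.ox.dvd) χ
    have b5 : dg χ < 97 := Nat.mul_self_lt_mul_self_iff.1 (by simp only [row] at b1; omega)
    have b6 : (iv χ y).natAbs < 2 := Nat.mul_self_lt_mul_self_iff.1 (by simp only [row] at b2; omega)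
    have b7 := dg_pos χ
    simp only [row, Prod.mk.injEq] at b3 ⊢
    obtain ⟨k, hk⟩ := b3
    have : k < 9 := by omega
    interval_cases k <;> omega
  simp only [Multiset.map_add, Multiset.sum_add, Multiset.map_replicate, Multiset.sum_replicate,
    smul_eq_mul, nsmul_eq_mul] at hC a1 a2
  norm_num at hC a1 a2
  rw [hR]
  obtain ⟨rfl, rfl, rfl, rfl⟩ | ⟨rfl, rfl, rfl, rfl⟩ :
    (i = 2 ∧ j = 0 ∧ k = 3 ∧ l = 0) ∨ (i = 0 ∧ j = 1 ∧ k = 1 ∧ l = 1) := by omega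
  · exact Or.inl rfl
  · exact Or.inr rfl

end Cfsg.Agent.Math.M12
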