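import Mathlib
import Cfsg.Agent.Math.M12a

/-!
A simple group of order 95040: a character of degree 11.
-/

set_option autoImplicit false
set_option linter.style.haveILetI false
set_option linter.unusedSectionVars false

namespace Cfsg.Agent.Math.M12

open Subgroup Cfsg.Agent.Small Cfsg.Agent.Char Cfsg.Agent.Char.Euclid

def cond (l : List (ℕ × ℤ)) (a b n : ℤ) : Prop := (l.map (·.2)).sum = a ∧
  (l.map fun r => wt 11 5 r.1).sum = 2 * b ∧ l.countP (·.1 == 1) = n

instance (l : List (ℕ × ℤ)) (a b c : ℤ) : Decidable (cond l a b c) := by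
  unfold cond; infer_instance

def c1 : List (ℕ × ℤ) := [(99, -1), (66, 1), (55, 0), (54, -1), (45, 0), (16, 1), (11, 1)]

variable {G : Type*} [Group G] [Fintype G] [IsSimpleGroup G] (hN : Nat.card G = 95040)
include hN

theorem table {x : G} (D : BD 11 x) {y : G} (E : BD 5 y) :
    rows y = ↑tA ∧ ∀ χ : IrrCharacter G, dg χ ≠ 16 → fsInd χ.1 = 1 := by
  obtain ⟨-, he, hc⟩ := data11 hN D
  obtain ⟨hl, -, -, z, z1, z2, z3⟩ := data5 hN D E
  obtain ⟨t, t1, t2, t3, -⟩ := atT hN D E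
  have hY : D.Y.card = 2 := by rw [D.cardY_eq, he]
  have hd : D.d = 16 := by
    have := congrArg Int.natAbs (D.one_add_sum hl)
    rw [natAbs_sign_mul D.signY] at this
    exact this.symm
  have h1 := le_card_sqrt t2 t1 z2 z1 (by omega)
  obtain ⟨h2, h3⟩ := fs_count D.Y fun θ hθ => D.fsInd_Y hc (by omega) hY hθ
  rw [Finset.sum_congr rfl fun θ hθ => D.dg_Y hθ, Finset.sum_const, hY, hd, sum_dg y] at h2 h3
  rcases rowsY hN D E with h | h
  · refine ⟨h, fun χ h4 => by_contra fun h5 => ?_⟩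
    have := h3 χ (fun h => h4 (hd ▸ D.dg_Y h)) h5
    rw [h, show (Multiset.map (·.1) (tA : Multiset (ℕ × ℤ))).sum = 924 by decide +kernel] at this
    simp only [smul_eq_mul] at this
    omega
  · rw [h, show (Multiset.map (·.1) (tB : Multiset (ℕ × ℤ))).sum = 902 by decide +kernel] at h2
    simp only [smul_eq_mul] at h2
    omega

theorem main : ∃ χ : IrrCharacter G, dg χ = 11 ∧ fsInd χ.1 = 1 ∧
    IsIrrCharacter G (altSq χ.1) ∧ classInner (symSq χ.1) χ.1 = 1 ∧ altSq χ.1 ≠ χ.1 ∧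
    classInner (χ.1 * χ.1) χ.1 = 1 ∧ classInner (χ.1 * χ.1) (χ.1 * χ.1) = 4 := by
  classical
  have h0 := M12.hG hN
  obtain ⟨x, ⟨D⟩⟩ := exists_BD h0 11 (by rw [hN]; norm_num) (by rw [hN]; norm_num) (by norm_num)
  obtain ⟨y, ⟨E⟩⟩ := exists_BD h0 5 (by rw [hN]; norm_num) (by rw [hN]; norm_num) (by norm_num)
  obtain ⟨-, e11, c11⟩ := data11 hN D
  obtain ⟨-, e5, -⟩ := data5 hN D E
  obtain ⟨t, t1, t2, -, t3, t4⟩ := atT hN D E
  obtain ⟨hR, hν⟩ := table hN D E
  have hy := E.isRat (by rw [e5])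
  have hy2 : IsConj y (y * y) := E.isConj_of_mem (by rw [e5]) (mul_mem (mem_zpowers y)
    (mem_zpowers y)) (Cfsg.Agent.Grp.SelfCent.ne_one (orderOf_sq (by norm_num) E.ox))
  have hc : ∀ {Φ l} {a b : ℤ} {n : ℕ}, Dec y Φ l → Φ y = a → (∀ g, orderOf g = 11 → Φ g = b) →
      classInner Φ (irrOne G) = n → cond l a b n :=
    fun h a1 a2 a3 => ⟨h.val hy a1, by simpa [e11] using h.wt D c11 (by omega) a2, by
      rw [h.count dg_irrOne (dg_eq_one h0)] at a3; exact_mod_cast a3⟩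
  have hT : ∀ χ : IrrCharacter G, dg χ ≤ 99 → row y χ ∈ c1 ++ [(1, 1)] := fun χ h =>
    (by decide : ∀ r ∈ tA, r.1 ≤ 99 → r ∈ c1 ++ [(1, 1)]) _ (Multiset.mem_coe.1 (hR ▸ row_mem y χ)) h
  have vy : ∀ χ : IrrCharacter G, dg χ = 11 → χ.1 y = 1 := fun χ h => by
    rw [hy.cast, show iv χ y = 1 from (by decide : ∀ r ∈ c1 ++ [(1, 1)], r.1 = 11 → r.2 = 1) _
      (hT χ (by omega)) h, Int.cast_one]
  have vt : ∀ χ : IrrCharacter G, ¬ 11 ∣ dg χ → row t χ ∈ r11 := fun χ h =>
    (D.dg_mem t3 c11 χ).resolve_left h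
  have v54 : ∀ χ : IrrCharacter G, dg χ = 54 → iv χ t = 6 := fun χ h =>
    (by decide : ∀ r ∈ r11, r.1 = 54 → r.2 = 6) _ (vt χ (by omega)) h
  have hr : ∀ χ : IrrCharacter G, dg χ = 11 → ∀ g, (χ.1 g).im = 0 := fun χ h => by
    by_contra h1
    exact zero_ne_one ((fsInd_eq_zero_of_not_real χ.2 h1).symm.trans (hν χ (by omega)))
  have key : ∀ χ : IrrCharacter G, dg χ = 11 → Dec y (altSq χ.1) [(55, 0)] ∧
      Dec y (symSq χ.1) [(1, 1), (11, 1), (54, -1)] := fun χ hd => by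
    have v11 := D.val_zero c11 (χ := χ) (by rw [hd])
    obtain ⟨k1, k2⟩ := inner_sq_one χ.2 (hν χ (by omega))
    obtain ⟨l, a1, a2⟩ := dec_of_ks2 (isCharacter_altSq χ.2.isCharacter)
      (altSq_one χ (c := 55) (by rw [hd]; rfl)) (fun ψ h _ => hT ψ (by omega))
      (F := fun l => imp (cond l 0 0 (0 : ℕ)) (decide (l = [(55, 0)]))) (by decide +kernel)
    obtain ⟨l', b1, b2⟩ := dec_of_ks2 (isCharacter_symSq χ.2.isCharacter)
      (symSq_one χ (c := 66) (by rw [hd]; rfl)) (fun ψ h _ => hT ψ (by omega))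
      (F := fun l => imp (cond l 1 0 (1 : ℕ)) (decide (l = [(1, 1), (11, 1), (54, -1)])))
      (by decide +kernel)
    obtain rfl := of_decide_eq_true (imp_ok a2 (hc a1 (by
      rw [altSq, ← χ.2.isClassFunction.eq_of_isConj hy2, vy χ hd]; simp)
      (altSq_ord (by norm_num) v11 (by norm_num)) k2))
    obtain rfl := of_decide_eq_true (imp_ok b2 (hc b1 (by
      rw [symSq, ← χ.2.isClassFunction.eq_of_isConj hy2, vy χ hd]; simp)
      (symSq_ord (by norm_num) v11 (by norm_num)) k1))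
    exact ⟨a1, b1⟩
  have key2 : ∀ χ : IrrCharacter G, dg χ = 11 → ∃ ψ : IrrCharacter G, dg ψ = 11 ∧
      classInner (symSq χ.1) ψ.1 = 1 ∧ iv χ t ^ 2 = 2 * iv ψ t + 3 := fun χ hd => by
    obtain ⟨ψ1, _, k1, k2, k3⟩ := (key χ hd).2.cons
    obtain ⟨ψ2, _, k4, k5, rfl⟩ := k2.cons
    obtain ⟨ψ3, _, k6, k7, rfl⟩ := k5.cons
    obtain rfl := dg_eq_one h0 ψ1 (congrArg Prod.fst k1)
    have k8 : dg ψ2 = 11 := congrArg Prod.fst k4
    have k9 : dg ψ3 = 54 := congrArg Prod.fst k6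
    rw [k7.nil, add_zero] at k3
    refine ⟨ψ2, k8, ?_, ?_⟩
    · rw [k3, classInner_add_left, classInner_add_left, ψ2.2.inner_self,
        inner_eq_zero_of_dg (by rw [dg_irrOne]; omega), inner_eq_zero_of_dg (by omega)]
      simp
    · have k11 := congrFun k3 t
      rw [symSq, t2, ← dg_cast, hd] at k11
      simp only [Pi.add_apply, (isRat_of_sq t2).cast, v54 ψ3 k9, iv_irrOne] at k11
      apply Int.cast_injective (α := ℂ)
      push_cast at k11 ⊢
      linear_combination 2 * k11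
  obtain ⟨χ, hd, hs⟩ : ∃ χ : IrrCharacter G, dg χ = 11 ∧ classInner (symSq χ.1) χ.1 = 1 := by
    by_contra hn
    have h2 : (rows y).countP (·.1 = 11) = 2 := by rw [hR]; decide +kernel
    rw [rows, Multiset.countP_map] at h2
    obtain ⟨a, b, hab, h3⟩ := Finset.card_eq_two.1
      (show (Finset.univ.filter fun χ : IrrCharacter G => dg χ = 11).card = 2 from h2)
    have h4 : ∀ ψ, dg ψ = 11 ↔ ψ = a ∨ ψ = b := fun ψ => by simpa using Finset.ext_iff.1 h3 ψ
    have da := (h4 a).2 (Or.inl rfl)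
    have db := (h4 b).2 (Or.inr rfl)
    obtain ⟨a', a1, a2, a3⟩ := key2 a da
    obtain ⟨b', b1, b2, b3⟩ := key2 b db
    obtain rfl := ((h4 a').1 a1).resolve_left fun h => hn ⟨a, da, h ▸ a2⟩
    obtain rfl := ((h4 b').1 b1).resolve_right fun h => hn ⟨a', db, h ▸ b2⟩
    have c2 := (b'.2.isCharacter.mul a'.2.isCharacter).sub_irr b'.2
      (inner_mul_ne (hr b' da) (Or.inr (by rw [a2]; exact one_ne_zero)))
    have c3 := c2.sub_irr a'.2 (by
      rw [classInner_sub_left, b'.2.inner_eq_zero a'.2 fun h => hab (Subtype.ext h), sub_zero,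
        mul_comm]
      exact inner_mul_ne (hr a' db) (Or.inr (by rw [b2]; exact one_ne_zero)))
    obtain ⟨l, d1, d2⟩ := dec_of_ks2 (t := y) c3 (n := 99) (by
        simp only [Pi.sub_apply, Pi.mul_apply, ← dg_cast, da, db]; norm_num)
      (fun ψ h _ => hT ψ h) (F := fun l => imp ((l.map (·.2)).sum = -1 ∧
        (l.map fun r => wt 11 5 r.1).sum = 0)
        (decide ((1, 1) ∈ l ∨ l = [(99, -1)] ∨ l = [(45, 0), (54, -1)]))) (by decide +kernel)
    have d3 : iv b' t * iv a' t - iv b' t - iv a' t = 3 := by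
      have : (iv b' t - iv a' t) * (iv b' t + iv a' t + 2) = 0 := by linear_combination a3 - b3
      rcases mul_eq_zero.1 this with h | h
      · rw [sub_eq_zero.1 h] at a3 ⊢; linear_combination a3
      · have h5 : (iv b' t + 1) ^ 2 = 0 := by linear_combination a3 + 2 * h
        have h6 : iv b' t = -1 := by simpa [add_eq_zero_iff_eq_neg] using h5
        rw [h6, show iv a' t = -1 by omega]; norm_num
    have d4 : (b'.1 * a'.1 - b'.1 - a'.1) t = (3 : ℤ) := by
      simp only [Pi.sub_apply, Pi.mul_apply, (isRat_of_sq t2).cast]; exact_mod_cast d3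
    rcases of_decide_eq_true (imp_ok d2 ⟨d1.val hy (by
      simp only [Pi.sub_apply, Pi.mul_apply, vy b' da, vy a' db]; norm_num), by
        simpa [e11] using d1.wt D c11 (by omega) (b := 0) fun g hg => by
          simp [D.val_zero c11 (χ := b') (by rw [da]) g hg,
            D.val_zero c11 (χ := a') (by rw [db]) g hg]⟩) with h | rfl | rfl
    · obtain ⟨ψ, k1, k2⟩ := d1.exists_of_mem h
      obtain rfl := dg_eq_one h0 ψ (congrArg Prod.fst k1)
      refine k2 ?_
      rw [classInner_sub_left, classInner_sub_left, inner_eq_zero_of_dg (χ := a')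
        (by rw [dg_irrOne]; omega), inner_eq_zero_of_dg (χ := b') (by rw [dg_irrOne]; omega),
        classInner_mul_left, sub_zero, sub_zero]
      simp only [irrOne_apply, mul_one, (conj_eq_self_iff_im _).2 (hr a' db)]
      exact b'.2.inner_eq_zero a'.2 fun h => hab (Subtype.ext h)
    · obtain ⟨ψ, _, k1, k2, k3⟩ := d1.cons
      obtain ⟨φ, hφ, hu⟩ := unique_of_countP (t := y) (d := 99) (by rw [hR]; decide +kernel)
      obtain ⟨ψ', -, k4⟩ := E.exists_of_mem (t := t) (r := (99, -1)) (by rw [← t4]; decide)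
      rw [k3, k2.nil, add_zero, (isRat_of_sq t2).cast, hu ψ (congrArg Prod.fst k1),
        ← hu ψ' (congrArg Prod.fst k4), show iv ψ' t = -1 from congrArg Prod.snd k4] at d4
      norm_num at d4
    · obtain ⟨ψ, _, k1, k2, k3⟩ := d1.cons
      obtain ⟨ψ', _, k4, k5, rfl⟩ := k2.cons
      have k6 : dg ψ = 45 := congrArg Prod.fst k1
      rw [k3, k5.nil, add_zero, Pi.add_apply, (isRat_of_sq t2).cast, (isRat_of_sq t2).cast,
        v54 ψ' (congrArg Prod.fst k4), show iv ψ t = 5 from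
          (by decide : ∀ r ∈ r11, r.1 = 45 → r.2 = 5) _ (vt ψ (by omega)) k6] at d4
      norm_num at d4
  obtain ⟨a1, b1⟩ := key χ hd
  have a4 := a1.irr rfl
  have a5 : dg ⟨_, a4⟩ = 55 :=
    Cfsg.Agent.Block.charDegree_eq_of_eq (altSq_one χ (c := 55) (by rw [hd]; rfl))
  have a3 : classInner (altSq χ.1) χ.1 = 0 := inner_eq_zero_of_dg (χ := ⟨_, a4⟩) (by omega)
  refine ⟨χ, hd, hν χ (by omega), a4, hs, fun h => ?_, ?_, ?_⟩
  · rw [h, χ.2.inner_self] at a3; simp at a3
  · rw [← symSq_add_altSq, classInner_add_left, a3, hs]; simp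
  · rw [← symSq_add_altSq, (b1.add a1).norm (by decide)]; simp

end Cfsg.Agent.Math.M12
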