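import Mathlib
import Cfsg.Agent.Math.Ext3

/-!
A simple group of order 244823040: the numerical data and the easier searches.
-/

set_option autoImplicit false
set_option Elab.async false

namespace Cfsg.Agent.Math.M24

open Cfsg.Agent.Small.Sieve

attribute [local irreducible] dsA dsS dsY vt vi vr imp divs opts

def dvs : List ℕ := [15456, 15360, 15180, 15120, 14784, 14720, 14490, 14168, 14080, 13860, 13824, 13662, 13440,
  13248, 12880, 12672, 12420, 12320, 12144, 12096, 11880, 11776, 11592, 11520, 11385, 11264,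
  11088, 11040, 10752, 10626, 10560, 10395, 10304, 10120, 10080, 9936, 9856, 9660, 9504, 9240,
  9216, 9108, 8960, 8855, 8832, 8694, 8640, 8448, 8316, 8280, 8096, 8064, 7920, 7728, 7680, 7590,
  7560, 7392, 7360, 7245, 7168, 7084, 7040, 6930, 6912, 6831, 6720, 6624, 6440, 6336, 6210, 6160,
  6072, 6048, 5940, 5888, 5796, 5760, 5632, 5544, 5520, 5376, 5313, 5280, 5152, 5120, 5060, 5040,
  4968, 4928, 4830, 4752, 4620, 4608, 4554, 4480, 4416, 4347, 4320, 4224, 4158, 4140, 4048, 4032,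
  3960, 3864, 3840, 3795, 3780, 3696, 3680, 3584, 3542, 3520, 3465, 3456, 3360, 3312, 3220, 3168,
  3105, 3080, 3072, 3036, 3024, 2970, 2944, 2898, 2880, 2816, 2772, 2760, 2688, 2640, 2576, 2560,
  2530, 2520, 2484, 2464, 2415, 2376, 2310, 2304, 2277, 2240, 2208, 2160, 2112, 2079, 2070, 2024,
  2016, 1980, 1932, 1920, 1890, 1848, 1840, 1792, 1771, 1760, 1728, 1680, 1656, 1610, 1584, 1540,
  1536, 1518, 1512, 1485, 1472, 1449, 1440, 1408, 1386, 1380, 1344, 1320, 1288, 1280, 1265, 1260,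
  1242, 1232, 1188, 1155, 1152, 1120, 1104, 1080, 1056, 1035, 1024, 1012, 1008, 990, 966, 960,
  945, 924, 920, 896, 880, 864, 840, 828, 805, 792, 770, 768, 759, 756, 736, 720, 704, 693, 690,
  672, 660, 644, 640, 630, 621, 616, 594, 576, 560, 552, 540, 528, 512, 506, 504, 495, 483, 480,
  462, 460, 448, 440, 432, 420, 414, 396, 385, 384, 378, 368, 360, 352, 345, 336, 330, 322, 320,
  315, 308, 297, 288, 280, 276, 270, 264, 256, 253, 252, 240, 231, 230, 224, 220, 216, 210, 207,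
  198, 192, 189, 184, 180, 176, 168, 165, 161, 160, 154, 144, 140, 138, 135, 132, 128, 126, 120,
  115, 112, 110, 108, 105, 99, 96, 92, 90, 88, 84, 80, 77, 72, 70, 69, 66, 64, 63, 60, 56, 55,
  54, 48, 46, 45, 44, 42, 40, 36, 35, 33, 32, 30, 28, 27, 24, 23, 22, 21, 20, 18, 16, 15, 14, 12,
  11, 10, 9, 8, 7, 6, 5, 4, 3, 2, 1]

def bts : List (ℕ × ℕ) := [(2, 10), (3, 3), (5, 1), (7, 1), (11, 1), (23, 1)]

def qs : List ℕ := [5, 7, 11, 23]

def dall : List ℕ := dvs.flatMap fun d => [d, 244823040 / d]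

theorem divs_eq : divs 244823040 15647 = dall := by decide +kernel

theorem hdvs : Dvs 244823040 dvs := fun d h1 h2 => by
  have h3 := mem_divs h1 (by norm_num) (show 244823040 ≤ 15647 * 15647 by norm_num)
  have h4 : (dall.all fun d => Nat.blt 244823040 (d * d) || dvs.any (Nat.beq d)) = true := by
    decide +kernel
  have h5 := List.all_eq_true.1 h4 d (divs_eq ▸ h3)
  simp only [Bool.or_eq_true, Nat.blt_eq, List.any_eq_true, Nat.beq_eq] at h5
  obtain ⟨a, h6, rfl⟩ := h5.resolve_left (by omega)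
  exact h6

theorem hbts : Bts 244823040 bts := by
  intro q hq
  simp only [bts, List.mem_cons, List.not_mem_nil, or_false] at hq
  rcases hq with rfl | rfl | rfl | rfl | rfl | rfl <;> norm_num

theorem hqs : Qs 244823040 qs := by
  intro q hq
  simp only [qs, List.mem_cons, List.not_mem_nil, or_false] at hq
  rcases hq with rfl | rfl | rfl | rfl <;> norm_num

def X23 (d : ℕ) : Bool := Nat.ble 12 d && okd 23 11 10644480 d

def X (d : ℕ) : Bool := X23 d && okd 11 10 22256640 d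

def big (p r d : ℕ) : Bool := !(d % r == 0) || Nat.blt (2 * p * r) d

abbrev uniq (v : ℤ) (l : List ℤ) : Prop := v ∈ l ∧ (l.map Int.natAbs).count v.natAbs = 1

theorem chkA : ((opts 15647 244823040 23).all fun o => imp (o ≠ (967680, 11, 1))
    (dsA dvs bts 244823040 23 o (fun d => Nat.ble 12 d &&
      imp (11 ∣ o.2.1 ∧ o.2.2 ∣ 576 ∧ 2 ∣ o.2.2) (big 23 11 d)) 1 1 fun _ => false)) = true := by
  decide +kernel

theorem chkB1 : ((opts 15647 244823040 7).all fun o => imp (11 ∣ o.2.2 ∧ ¬ 23 ∣ o.2.2)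
    (dsA dvs bts 244823040 7 o X23 23 11 fun l => decide (uniq (-69) l))) = true := by
  decide +kernel

def o11 : List (ℕ × ℕ × ℕ) := [(15456, 5, 288), (57960, 2, 192), (695520, 2, 16), (185472, 5, 24), (2225664, 5, 2),
  (185472, 10, 12)]

theorem opts11 : ((opts 15647 244823040 11).all fun o =>
    imp (¬ 7 ∣ o.2.2 ∧ ¬ 23 ∣ o.2.2 ∧ o ≠ (2225664, 10, 1)) (bif decide (o ∈ o11) then true else
      dsA dvs bts 244823040 11 o X23 23 11 fun l => decide (5 ∣ o.2.2 ∧ uniq 23 l))) = true := by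
  decide +kernel

def o5 : List (ℕ × ℕ × ℕ) := [(506, 2, 48384), (506, 4, 24192), (1771, 2, 13824), (1771, 4, 6912), (3036, 2, 8064),
  (3036, 4, 4032), (6831, 2, 3584), (6831, 4, 1792), (8096, 2, 3024), (8096, 4, 1512),
  (10626, 2, 2304), (10626, 4, 1152), (18216, 2, 1344), (18216, 4, 672), (28336, 2, 864),
  (28336, 4, 432), (48576, 2, 504), (48576, 4, 252), (63756, 2, 384), (63756, 4, 192),
  (109296, 2, 224), (109296, 4, 112), (170016, 2, 144), (170016, 4, 72), (291456, 2, 84),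
  (291456, 4, 42), (382536, 2, 64), (382536, 4, 32), (453376, 2, 54), (1020096, 2, 24),
  (1020096, 4, 12), (1748736, 2, 14), (6120576, 2, 4), (6120576, 4, 2)]

theorem opts5 : ((opts 15647 244823040 5).all fun o =>
    imp (¬ 11 ∣ o.2.2 ∧ ¬ 23 ∣ o.2.2 ∧ 2 ∣ o.2.2) (decide (o ∈ o5))) = true := by
  decide +kernel

def H19 : List ℕ := [276, 552, 736, 828, 1104, 1472, 1656, 1932, 2208, 2944, 4416, 5152, 5888, 6624, 8832, 10304,
  13248, 15456, 17664]

theorem chkH : (dall.all fun h => imp (¬ 11 ∣ h ∧ ¬ 5 ∣ h ∧ 23 ∣ h ∧ 4 ∣ 244823040 / h ∧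
    opt2 true h (isq (244823040 / h) 16 65536) 11 qs 3840 ≠ []) (decide (h ∈ H19))) = true := by
  decide +kernel

def L5 : List (List ℤ) :=
  [[1771, -2024, -5544, 5796], [506, -759, -5544, 5796], [736, 1771, 3036, -5544]]

theorem chkC0 : (o5.all fun o => dsA dvs bts 244823040 5 o X 23 11 fun l => imp (relx 11 10 l)
    (decide (o.2.1 = 4 ∧ ((o.2.2 = 192 ∧ 5796 ∈ l) ∨ o.2.2 = 12) ∧ l ∈ L5))) = true := by
  decide +kernel

/-- index of the centraliser, values of the characters of degree 5544 and 5796, and the sum of the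
squares of the two remaining values -/
def T : List (ℕ × ℤ × ℤ × ℕ) := [(18216, -56, 56, 6497), (21252, -36, -24, 97), (21252, 24, 36, 697), (28336, -36, 36, 2777),
  (31878, -56, -44, 2197), (31878, -16, -4, 6697), (31878, 24, 36, 697), (31878, 64, -4, 2857),
  (42504, -36, -24, 97), (42504, -36, 36, 2777), (42504, 24, -24, 1217), (42504, 24, 36, 697),
  (63756, -36, -24, 97), (63756, -16, -44, 377), (63756, 4, 16, 2897), (63756, 24, 36, 697),
  (63756, 44, 16, 977), (85008, -36, -24, 97), (85008, 24, -24, 1217), (85008, 24, 36, 697),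
  (127512, -16, 16, 657)]

def bs (q : ℕ) (w : List (ℤ × ℤ)) : ℕ :=
  (w.map fun r => if q ∣ r.1.natAbs then r.2.natAbs * r.2.natAbs else 0).sum

theorem chkC1 : (dall.all fun h => imp (11 ∣ h ∧ 23 ∣ h ∧ ¬ 5 ∣ h ∧ 4 ∣ 244823040 / h ∧
    244823040 ≤ h * h) (L5.all fun l => vt 244823040 h 5 4 12 0 qs (fb 11 2) [] (fun w =>
      decide (∃ r ∈ w, r.1 = 5796 ∧ ∀ r' ∈ w, r'.1 = -5544 → (h, r'.2, r.2, bs 253 w) ∈ T))
      l)) = true := by
  decide +kernel

theorem chkTri : (dvs.all fun a => imp (X a ∧ v9 a) (dvs.all fun b => imp (X b ∧ v9 b)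
    (([1, -1] : List ℤ).all fun i => ([1, -1] : List ℤ).all fun j =>
      imp (5544 + i * a + j * b = 0 ∧ 2 + i * wt 23 11 a + j * wt 23 11 b = 0 ∧
        i * wt 11 10 a + j * wt 11 10 b = 0) (decide ((a = 5796 ∧ b = 252 ∧ i = -1 ∧ j = 1) ∨
        (a = 252 ∧ b = 5796 ∧ i = 1 ∧ j = -1) ∨ a = 990 ∨ b = 990 ∨
        (a = 2772 ∧ b = 2772 ∧ i = j)))))) = true := by
  decide +kernel

/-- the degrees of the principal 23-block -/
noncomputable def d23 (pre : List ℤ) (F : List ℤ → Bool) : Bool :=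
  dsY dvs 244823040 23 11 10644480 1 (5796 * 5796) X 11 10 pre fun l => imp (cong l) (F l)

noncomputable def t23 (s : ℕ × ℤ × ℤ × ℕ) (fx : List (ℤ × ℤ)) (F : List (ℤ × ℤ) → Bool)
    (l : List ℤ) : Bool :=
  vt 244823040 s.1 23 11 1 (s.2.2.1.natAbs * s.2.2.1.natAbs + s.2.2.2) qs (fb 11 2) fx F l

def admT (h : ℕ) (r : ℤ × ℤ) : Bool := admB h (fun d => modu h 11 d qs) (fb 11 2) r

def admR (r : ℤ × ℤ) : Bool :=
  admB 4080384 (fun _ => 5) (fun d a => (!(d % 5 == 0) || a == 0) && fb 11 5 d a) r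

def c1 : List (ℕ × ℤ) := [(252, 12), (231, -9), (45, 5), (23, -1)]

def sml (l : List (ℕ × ℤ)) : Bool := l.all fun r => Nat.blt 276 r.1 || decide (r ∈ c1)

def fxs (a : ℤ) (w : List (ℤ × ℤ)) : List (ℤ × ℤ) := (-5796, a) ::
  ((fullx 23 2 w).filter (¬ 11 ∣ ·.1)).map fun r => (wt 11 10 r.1 * r.1, r.2)

/-- the final search in the principal 11-block -/
noncomputable def fin (s : ℕ × ℤ × ℤ × ℕ) (w : List (ℤ × ℤ)) : Bool :=
  dsS dvs 244823040 11 22256640 1 (((fullx 23 2 w).filter (11 ∣ ·.1)).map fun r => r.1 * r.1).sum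
    (fun d => d % 23 == 0 && X d) 23 11 ((fxs s.2.2.1 w).map (·.1)) fun l => imp (cong l)
    (vi 244823040 s.1 11 1 (s.2.2.2 + (((fullx 23 2 w).filter (11 ∣ ·.1)).map fun r =>
      r.2.natAbs * r.2.natAbs).sum) qs (fb 11 2) (fxs s.2.2.1 w) (fun w' => sml (fullx 23 2 w) &&
        sml (fullx 11 1 w') && decide ((fullx 11 1 w').countP (·.1 = 23) = 1)) l)

noncomputable def good (P : List ℤ → Bool) (S : List (ℕ × ℤ × ℤ × ℕ)) : Bool :=
  d23 [5544, -252] fun l => imp (P l) (vr 244823040 4080384 23 2 5 0 (fb 11 5)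
    [(5544, -1), (-252, 2)] (fun _ => S.all fun s => imp (admT s.1 (-252, s.2.2.1 - s.2.1))
      (t23 s [(5544, s.2.1), (-252, s.2.2.1 - s.2.1)] (fin s) l)) l)

end Cfsg.Agent.Math.M24
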