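import Mathlib
import Cfsg.Agent.Math.M24Def

/-!
A simple group of order 244823040: searches in the principal 11-block.
-/

set_option autoImplicit false
set_option Elab.async false

namespace Cfsg.Agent.Math.M24

open Cfsg.Agent.Small.Sieve

attribute [local irreducible] dsA dsS dsY vt vi vr imp d23 t23 good fin

theorem chkB3 : ([(15456, 5, 288), (57960, 2, 192), (695520, 2, 16)].all fun o : ℕ × ℕ × ℕ =>
    dsA dvs bts 244823040 11 o X23 23 11 fun l => dall.all fun h =>
      imp (¬ 11 ∣ h ∧ 23 ∣ h ∧ 4 ∣ 244823040 / h) (vt 244823040 h 11 o.2.1 o.2.2 0 qs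
        (fun _ _ => true) [] (fun _ => false) l)) = true := by
  decide +kernel

theorem chkB4 : ([(185472, 5, 24), (2225664, 5, 2)].all fun o : ℕ × ℕ × ℕ =>
    dsA dvs bts 244823040 11 o (fun d => X23 d && big 11 5 d) 23 11 fun l => dall.all fun h =>
      imp (¬ 11 ∣ h ∧ ¬ 5 ∣ h ∧ 23 ∣ h ∧ 4 ∣ 244823040 / h) (vt 244823040 h 11 o.2.1 o.2.2 0 qs
        (fun _ _ => true) [] (fun _ => false) l)) = true := by
  decide +kernel

end Cfsg.Agent.Math.M24
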