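import Mathlib
import Cfsg.Agent.Math.M24Def

/-!
A simple group of order 244823040: searches in the principal 11-block.
-/

set_option autoImplicit false
set_option Elab.async false

namespace Cfsg.Agent.Math.M24

open Cfsg.Agent.Small.Sieve

attribute [local irreducible] dsA dsS dsY vt vi vr imp d23 t23 good fin

noncomputable def s11 (F : List ℤ → Bool) : Bool :=
  dsS dvs 244823040 11 1854720 12 0 (fun d => X23 d && big 11 5 d) 23 11 [] F

theorem chkB5 : s11 (fun l => decide (3840 ∈ l)) = true := by decide +kernel

theorem chkB5a : s11 (vt 244823040 5152 11 10 12 0 qs (fun _ _ => true) [] fun _ => false) =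
    true := by decide +kernel

theorem chkB5b : s11 (vt 244823040 10304 11 10 12 0 qs (fun _ _ => true) [] fun _ => false) =
    true := by decide +kernel

theorem chkB5c : s11 (vt 244823040 15456 11 10 12 0 qs (fun _ _ => true) [] fun _ => false) =
    true := by decide +kernel

end Cfsg.Agent.Math.M24
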