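import Mathlib
import Cfsg.Agent.Math.M24Def

/-!
A simple group of order 244823040: searches in the principal 5-block.
-/

set_option autoImplicit false
set_option Elab.async false

namespace Cfsg.Agent.Math.M24

open Cfsg.Agent.Small.Sieve

attribute [local irreducible] dsA dsS dsY vt vi vr imp d23 t23 good fin

noncomputable def s5 (o : ℕ × ℕ × ℕ) : Bool :=
  dsA dvs bts 244823040 5 o X23 23 11 fun l => bif decide (7 ∣ o.2.2) then decide (uniq (-24) l)
    else H19.all fun h => vt 244823040 h 5 o.2.1 o.2.2 0 qs (fun _ _ => true) []
      (fun _ => decide (h = 5152 ∨ h = 10304 ∨ h = 15456)) l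

theorem chkB6a : (o5.all fun o => imp (o.1 < 500000) (s5 o)) = true := by decide +kernel

theorem chkB6b : (o5.all fun o => imp (¬ o.1 < 500000) (s5 o)) = true := by decide +kernel

end Cfsg.Agent.Math.M24
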