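import Mathlib
import Cfsg.Agent.Math.M24c1
import Cfsg.Agent.Math.M24c2
import Cfsg.Agent.Math.M24c3

/-!
A simple group of order 244823040: the normalisers of the Sylow subgroups for 23 and 11.
-/

set_option autoImplicit false
set_option linter.style.haveILetI false
set_option linter.unusedSectionVars false

namespace Cfsg.Agent.Math.M24

open Subgroup Cfsg.Agent.Small Cfsg.Agent.Char Cfsg.Agent.Char.Euclid Cfsg.Agent.Small.Sieve

attribute [local irreducible] dsA dsS dsY vt vi vr imp divs opts dall dvs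

instance f5 : Fact (Nat.Prime 5) := ⟨by norm_num⟩
instance f7 : Fact (Nat.Prime 7) := ⟨by norm_num⟩
instance f11 : Fact (Nat.Prime 11) := ⟨by norm_num⟩
instance f23 : Fact (Nat.Prime 23) := ⟨by norm_num⟩

variable {G : Type*} [Group G] [Finite G] [IsSimpleGroup G] (hN : Nat.card G = 244823040)
include hN

theorem hG : ¬ IsMulCommutative G := not_comm_of_card (by rw [hN]; norm_num)

theorem le_dg {χ : IrrCharacter G} (h : χ ≠ irrOne G) : Nat.ble 12 (dg χ) = true := by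
  have := lt_two_mul_dg (hG hN) (p := 23) (by norm_num) (by rw [hN]; norm_num)
    (by rw [hN]; norm_num) (by rw [hN]; norm_num) h
  rw [Nat.ble_eq]; omega

theorem opt_ok {p : ℕ} [Fact p.Prime] {x : G} (D : BD p x) {f : ℕ × ℕ × ℕ → Bool}
    (h : (opts 15647 244823040 p).all f = true) : f (D.k, D.e, D.c) = true :=
  List.all_eq_true.1 h _ (D.mem_opts (hG hN) hN (by norm_num))

theorem idx_ok {f : ℕ → Bool} (h : dall.all f = true) (H : Subgroup G) : f H.index = true :=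
  divs_ok hN (by norm_num) (divs_eq ▸ h) H

theorem data23 {x : G} (D : BD 23 x) : D.k = 967680 ∧ D.e = 11 ∧ D.c = 1 := by
  by_contra h1
  obtain ⟨l, -, h⟩ := D.dsA_ok (hG hN) hN hdvs hbts (fun χ h5 h6 => by
    rw [le_dg hN h6, Bool.true_and, imp]
    by_cases h2 : 11 ∣ D.e ∧ D.c ∣ 576 ∧ 2 ∣ D.c
    · obtain ⟨t, t1, t2, t3, t4⟩ := D.exists_comm_invol (r := 11) (by norm_num) h2.1
        (fun h => absurd (h.trans (Nat.mul_dvd_mul_left _ h2.2.1)) (by norm_num)) h2.2.2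
        fun k h3 h4 => BD.two_pow_ne (c := 23 * 576) (by decide) (by norm_num) k h3
          (h4.trans (Nat.mul_dvd_mul_left _ h2.2.1))
      rw [big, D.lt_dg (hG hN) (by norm_num) (by norm_num) (by norm_num) (by rw [hN]; norm_num)
        t2 t1 t3 t4 h5 h6, Bool.or_true]
    · rw [decide_eq_false h2]; rfl) D.rel_one (imp_ok (opt_ok hN D chkA) (by simpa using h1))
  exact Bool.false_ne_true h

theorem four {t : G} (ht : t * t = 1) (h1 : t ≠ 1) :
    4 ∣ 244823040 / (centralizer ({t} : Set G)).index :=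
  card_cent hN rfl ▸ four_dvd_cent (by rw [hN]; norm_num) ht h1

variable {x : G} (D : BD 23 x)
include D

theorem okd23 {χ : IrrCharacter G} (h : χ ≠ irrOne G) : X23 (dg χ) = true := by
  obtain ⟨hk, he, hc⟩ := data23 hN D
  have := D.okd_ok hc χ
  rw [hk, he] at this
  rw [X23, le_dg hN h, this]; rfl

theorem rel23 {p : ℕ} [Fact p.Prime] {y : G} (E : BD p y) (hp : p ≠ 23) :
    ((23 - 1) / 11 : ℕ) + (E.xd.map (wq 23 11)).sum = 0 :=
  E.rel_xd D (data23 hN D).2.2 (data23 hN D).2.1 (by norm_num) hp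

theorem idx23 {t : G} (ht : t * t = 1) (h1 : t ≠ 1) : 23 ∣ (centralizer ({t} : Set G)).index :=
  D.dvd_idx (by rw [(data23 hN D).2.2]; norm_num) ht h1

theorem nd23 {p : ℕ} [Fact p.Prime] {y : G} (E : BD p y) (hp : p ≠ 23) : ¬ 23 ∣ E.c :=
  E.not_dvd_c' D (by
    rw [(data23 hN D).2.2, Nat.dvd_one]; exact (Fact.out : p.Prime).ne_one) hp

theorem nd7 {y : G} (E : BD 11 y) : ¬ 7 ∣ E.c := by
  obtain ⟨z, ⟨K⟩⟩ := exists_BD (hG hN) 7 (by rw [hN]; norm_num) (by rw [hN]; norm_num)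
    (by norm_num)
  refine E.not_dvd_c' K (fun h => ?_) (by norm_num)
  obtain ⟨l, hl, h1⟩ := K.dsA_ok (hG hN) hN hdvs hbts (fun χ _ h => okd23 hN D h)
    (rel23 hN D K (by norm_num)) (imp_ok (opt_ok hN K chkB1) ⟨h, nd23 hN D K (by norm_num)⟩)
  have h2 := of_decide_eq_true h1
  exact absurd (K.rat_le_x hl h2.1 (by norm_num) h2.2 (by norm_num) (by norm_num) h) (by norm_num)

theorem not12 {y : G} (E : BD 11 y) (hk : E.k = 185472) (he : E.e = 10) (hc : E.c = 12) {t : G}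
    (t1 : t ≠ 1) (t2 : t * t = 1) (t3 : 11 ∣ Nat.card (centralizer ({t} : Set G)))
    (t4 : 5 ∣ Nat.card (centralizer ({t} : Set G)))
    (hX : ∀ χ ∈ E.blk, χ ≠ irrOne G → (X23 (dg χ) && big 11 5 (dg χ)) = true) : False := by
  have h1 : ∀ {F}, s11 F = true → ∃ l : List ℤ, ↑l = E.xd ∧ F l = true := fun h =>
    E.dsS_ok (hG hN) hN hdvs (by omega) (by rw [hk, he]) hc (Finset.empty_subset _) rfl
      (fun χ h _ => hX χ (E.blk_of_ext h).1 (E.blk_of_ext h).2) (rel23 hN D E (by norm_num))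
      (E.base_dg hN ∅ (by simp)) h
  have h2 : ∀ {h}, s11 (vt 244823040 h 11 10 12 0 qs (fun _ _ => true) [] fun _ => false) = true →
      (centralizer ({t} : Set G)).index ≠ h := fun h hh => by
    obtain ⟨l, hl, h⟩ := h1 h
    obtain ⟨w, -, h⟩ := E.vt_ok (hG hN) hN (by norm_num) hqs t2 t1 hh he hc
      (E.base_iv hN (isRat_of_sq t2) hh ∅ (by simp)) hl (Multiset.zero_le _) (fun _ => rfl) h
    exact Bool.false_ne_true h
  obtain ⟨l, hl, h3⟩ := h1 chkB5
  obtain ⟨χ, h4, h5⟩ := E.of_mem_xd hl (of_decide_eq_true h3)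
  have h6 := E.okv_ok (hG hN) (hN ▸ hqs) t2 t1 (E.blk_of_ext h4).1 (E.blk_of_ext h4).2
  rw [← E.natAbs_sv, h5] at h6
  have h7 := of_decide_eq_true (imp_ok (idx_ok hN chkH (centralizer ({t} : Set G)))
    ⟨not_dvd_index' (by rw [hN]; norm_num) t3, not_dvd_index' (by rw [hN]; norm_num) t4,
      idx23 hN D t2 t1, four hN t2 t1, List.ne_nil_of_mem (mem_opt2 h6
        (Nat.mul_self_le_mul_self_iff.1 (le_trans ?_ (le_isq _ _ ((Nat.div_le_self _ _).trans
          (by norm_num))))))⟩)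
  · obtain ⟨u, ⟨H⟩⟩ := exists_BD (hG hN) 5 (by rw [hN]; norm_num) (by rw [hN]; norm_num)
      (by norm_num)
    have h8 := List.all_eq_true.1 chkB6a _ (of_decide_eq_true (imp_ok (opt_ok hN H opts5)
      ⟨H.not_dvd_c' E (by rw [hc]; norm_num) (by norm_num), nd23 hN D H (by norm_num),
        H.dvd_c Nat.prime_two (by norm_num) (orderOf_eq_prime (by rw [sq, t2]) t1) t4⟩))
    have h9 := List.all_eq_true.1 chkB6b _ (of_decide_eq_true (imp_ok (opt_ok hN H opts5)
      ⟨H.not_dvd_c' E (by rw [hc]; norm_num) (by norm_num), nd23 hN D H (by norm_num),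
        H.dvd_c Nat.prime_two (by norm_num) (orderOf_eq_prime (by rw [sq, t2]) t1) t4⟩))
    obtain ⟨l, hl, h⟩ := H.dsA_ok (hG hN) hN hdvs hbts (fun χ _ h => okd23 hN D h)
      (rel23 hN D H (by norm_num)) ((em _).elim (imp_ok h8) (imp_ok h9))
    by_cases h10 : 7 ∣ H.c
    · rw [decide_eq_true h10] at h
      have h2 := of_decide_eq_true h
      exact absurd (H.rat_le_x hl h2.1 (by norm_num) h2.2 (by norm_num) (by norm_num) h10)
        (by norm_num)
    rw [decide_eq_false h10] at h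
    obtain ⟨w, -, h⟩ := H.vt_ok (hG hN) hN (by norm_num) hqs t2 t1 rfl rfl rfl
      (H.base_iv hN (isRat_of_sq t2) rfl ∅ (by simp)) hl (Multiset.zero_le _) (fun _ => rfl)
      (List.all_eq_true.1 h _ h7)
    rcases of_decide_eq_true h with h | h | h
    exacts [h2 chkB5a h, h2 chkB5b h, h2 chkB5c h]
  · exact le_trans (Finset.single_le_sum (f := fun χ => (iv χ t).natAbs * (iv χ t).natAbs)
      (fun _ _ => Nat.zero_le _) (E.blk_of_ext h4).1) ((Nat.le_add_left _ _).trans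
        (E.base_iv hN (isRat_of_sq t2) rfl ∅ (by simp)))

theorem data11 {y : G} (E : BD 11 y) : E.k = 2225664 ∧ E.e = 10 ∧ E.c = 1 := by
  by_contra h1
  have h2 := imp_ok (opt_ok hN E opts11) ⟨nd7 hN D E, nd23 hN D E (by norm_num), by simpa using h1⟩
  by_cases h3 : (E.k, E.e, E.c) ∈ o11
  swap
  · rw [decide_eq_false h3] at h2
    obtain ⟨l, hl, h⟩ := E.dsA_ok (hG hN) hN hdvs hbts (fun χ _ h => okd23 hN D h)
      (rel23 hN D E (by norm_num)) h2
    obtain ⟨h4, h5, h6⟩ := of_decide_eq_true h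
    exact absurd (E.rat_le_x hl h5 (by norm_num) h6 (by norm_num) (by norm_num) h4) (by norm_num)
  rcases List.mem_append.1 (show _ ∈ [(15456, 5, 288), (57960, 2, 192), (695520, 2, 16)] ++
    [(185472, 5, 24), (2225664, 5, 2), (185472, 10, 12)] from h3) with h3 | h3
  · obtain ⟨t, t1, t2, -, t4⟩ := E.exists_invol' (by simp at h3; omega)
    obtain ⟨l, hl, h⟩ := E.dsA_ok (hG hN) hN hdvs hbts (fun χ _ h => okd23 hN D h)
      (rel23 hN D E (by norm_num)) (List.all_eq_true.1 chkB3 _ h3)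
    obtain ⟨w, -, h⟩ := E.vt_ok (hG hN) hN (by norm_num) hqs t2 t1 rfl rfl rfl
      (E.base_iv hN (isRat_of_sq t2) rfl ∅ (by simp)) hl (Multiset.zero_le _) (fun _ => rfl)
      (imp_ok (idx_ok hN h _) ⟨t4, idx23 hN D t2 t1, four hN t2 t1⟩)
    exact Bool.false_ne_true h
  have h4 : 5 ∣ E.e ∧ E.c ∣ 24 ∧ 2 ∣ E.c := by
    simp only [List.mem_cons, Prod.mk.injEq, List.not_mem_nil, or_false] at h3
    rcases h3 with h | h | h <;> rw [h.2.1, h.2.2] <;> norm_num
  obtain ⟨t, t1, t2, t3, t4⟩ := E.exists_comm_invol (r := 5) (by norm_num) h4.1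
    (fun h => absurd (h.trans (Nat.mul_dvd_mul_left _ h4.2.1)) (by norm_num)) h4.2.2
    fun k h3 h5 => BD.two_pow_ne (c := 11 * 24) (by decide) (by norm_num) k h3
      (h5.trans (Nat.mul_dvd_mul_left _ h4.2.1))
  have hX : ∀ χ ∈ E.blk, χ ≠ irrOne G → (X23 (dg χ) && big 11 5 (dg χ)) = true :=
    fun χ h5 h6 => by
      rw [okd23 hN D h6, big, E.lt_dg (hG hN) (by norm_num) (by norm_num) (by norm_num)
        (by rw [hN]; norm_num) t2 t1 t3 t4 h5 h6]; rfl
  rcases List.mem_append.1 (show _ ∈ [(185472, 5, 24), (2225664, 5, 2)] ++ [(185472, 10, 12)]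
    from h3) with h3 | h3
  · obtain ⟨l, hl, h⟩ := E.dsA_ok (hG hN) hN hdvs hbts hX (rel23 hN D E (by norm_num))
      (List.all_eq_true.1 chkB4 _ h3)
    obtain ⟨w, -, h⟩ := E.vt_ok (hG hN) hN (by norm_num) hqs t2 t1 rfl rfl rfl
      (E.base_iv hN (isRat_of_sq t2) rfl ∅ (by simp)) hl (Multiset.zero_le _) (fun _ => rfl)
      (imp_ok (idx_ok hN h _) ⟨not_dvd_index' (by rw [hN]; norm_num) t3,
        not_dvd_index' (by rw [hN]; norm_num) t4, idx23 hN D t2 t1, four hN t2 t1⟩)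
    exact Bool.false_ne_true h
  · simp only [List.mem_singleton, Prod.mk.injEq] at h3
    exact not12 hN D E h3.1 h3.2.1 h3.2.2 t1 t2 t3 t4 hX

end Cfsg.Agent.Math.M24
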