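import Mathlib
import Cfsg.Agent.Math.Ext4
import Cfsg.Agent.Math.M24a

/-!
A simple group of order 244823040: the principal 5-block and the 3-block of the character of
degree 5544.
-/

set_option autoImplicit false
set_option linter.style.haveILetI false
set_option linter.unusedSectionVars false

namespace Cfsg.Agent.Math.M24

open Subgroup Cfsg.Agent.Small Cfsg.Agent.Char Cfsg.Agent.Char.Euclid Cfsg.Agent.Small.Sieve

attribute [local irreducible] dsA dsS dsY vt vi vr imp divs opts dall dvs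

theorem filt {α β : Type*} {L : List β} {A : Finset α} {g : α → β}
    (h : (L : Multiset β) = A.val.map g) (P : β → Prop) [DecidablePred P] :
    ((L.filter (P ·) : List β) : Multiset β) = (A.filter fun a => P (g a)).val.map g := by
  rw [← Multiset.filter_coe, h, Multiset.filter_map]; rfl

theorem sum_of {α β : Type*} {L : List β} {A : Finset α} {g : α → β}
    (h : (L : Multiset β) = A.val.map g) (f : β → ℕ) : (L.map f).sum = ∑ a ∈ A, f (g a) := by
  rw [← Multiset.sum_coe, ← Multiset.map_coe, h, Multiset.map_map]; rfl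

/-- generators of order 2 and 5 of a Frobenius complement for an element of order 11 -/
structure Fr {G : Type*} [Group G] (y t r : G) : Prop where
  t1 : t ≠ 1
  t2 : t * t = 1
  ti : t * y * t⁻¹ = y⁻¹
  tN : t ∈ normalizer ((zpowers y : Subgroup G) : Set G)
  rN : r ∈ normalizer ((zpowers y : Subgroup G) : Set G)
  ro : orderOf r = 5
  tr : Commute r t

theorem Fr.to {G : Type*} [Group G] {y t r : G} (F : Fr y t r) : orderOf t = 2 :=
  orderOf_eq_prime (by rw [sq, F.t2]) F.t1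

def Out (G : Type*) [Group G] [Finite G] : Prop :=
  (∀ ψ : IrrCharacter G, dg ψ ≤ 276 → dg ψ ∈ [253, 252, 231, 45, 23, 1]) ∧
    ∃ χ : IrrCharacter G, dg χ = 23 ∧ ∀ ψ, dg ψ = 23 → ψ = χ

variable {G : Type*} [Group G] [Finite G] [IsSimpleGroup G] (hN : Nat.card G = 244823040)
  {x y : G} (D : BD 23 x) (E : BD 11 y)
include hN

theorem fac3 : (Nat.card G).factorization 3 = 3 := by
  rw [hN, fac_eq (by norm_num)]; norm_num

include D

theorem sv23 {χ : IrrCharacter G} (h : dg χ = 5544 ∨ dg χ = 252) :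
    χ ∈ D.ext ∧ χ ≠ D.th ∧ D.sv χ = if dg χ % 23 = 1 then (dg χ : ℤ) else -dg χ :=
  have := data23 hN D
  D.ext_of_mod this.2.2 (by omega) (by omega) (by omega) (by omega)

theorem cardY23 : D.Y.card = 2 := by rw [D.cardY_eq, (data23 hN D).2.1]

include E

theorem okX {χ : IrrCharacter G} (h : χ ≠ irrOne G) : X (dg χ) = true := by
  obtain ⟨hk, he, hc⟩ := data11 hN D E
  have := E.okd_ok hc χ
  rw [hk, he] at this
  rw [X, okd23 hN D h, this]; rfl

theorem rel11 {p : ℕ} [Fact p.Prime] {z : G} (H : BD p z) (hp : p ≠ 11) :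
    ((11 - 1) / 10 : ℕ) + (H.xd.map (wq 11 10)).sum = 0 :=
  H.rel_xd E (data11 hN D E).2.2 (data11 hN D E).2.1 (by norm_num) hp

theorem sv11 {χ : IrrCharacter G} (h : dg χ = 5796 ∨ dg χ = 252) :
    χ ∈ E.ext ∧ E.sv χ = -dg χ := by
  obtain ⟨-, he, hc⟩ := data11 hN D E
  have := E.ext_of_not_dvd hc (by omega) (χ := χ) (ne_one_of_dg (by omega)) (by omega)
  refine ⟨this.1, this.2.trans ?_⟩
  rcases h with h | h <;> rw [h] <;> rfl

theorem cardY11 : E.Y.card = 1 := by rw [E.cardY_eq, (data11 hN D E).2.1]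

theorem exists_fr : ∃ t r, Fr y t r := by
  obtain ⟨-, he, hc⟩ := data11 hN D E
  have h0 : ∀ a b : ℕ, y ^ a = y ^ b ↔ a % 11 = b % 11 := fun a b => by
    rw [pow_eq_pow_iff_modEq, E.ox]; rfl
  obtain ⟨g, g1, g2⟩ := E.exists_frob hc (by omega) (k := 2) (n := 10)
    (by simpa using (h0 2 0).not.2 (by norm_num)) (by simpa using (h0 2 1).not.2 (by norm_num))
    (((h0 (2 ^ 10) 1).2 (by norm_num)).trans (pow_one y))
  have h1 : ∀ j, 2 ^ j % 11 ≠ 1 % 11 → g ^ j ≠ 1 := fun j h h' => h ((h0 _ _).1 (by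
    rw [← g2, h']; simp))
  exact ⟨g ^ 5, g ^ 2, h1 5 (by norm_num), by rw [← pow_add, g1], by
    rw [g2, eq_inv_iff_mul_eq_one, ← pow_succ, ← pow_zero y, h0]; rfl, mem_norm (g2 5),
    mem_norm (g2 2), orderOf_eq_prime (by rw [← pow_mul, g1]) (h1 2 (by norm_num)),
    Commute.pow_pow_self g 2 5⟩

theorem d23_ok {θ : IrrCharacter G} (hθ : dg θ = 5796) {s : List (IrrCharacter G)} (hs : s.Nodup)
    (h1 : ∀ χ ∈ s, dg χ = 5544 ∨ dg χ = 252) {pre : List ℤ} (hpre : pre = s.map D.sv)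
    {F : List ℤ → Bool} (h : d23 pre F = true) : ∃ l : List ℤ, ↑l = D.xd ∧ F l = true := by
  obtain ⟨hk, he, hc⟩ := data23 hN D
  obtain ⟨l, hl, h⟩ := D.dsY_ok (hG hN) hN hdvs he (by rw [hk, he]) hc (s := fs s hs)
    (fun χ h => (sv23 hN D (h1 χ h)).1) (fun h => (sv23 hN D (h1 _ h)).2.1 rfl) (congrArg _ hpre)
    (fun χ h _ => okX hN D E (D.blk_of_ext h).2) (rel11 hN D E D (by norm_num))
    (by simpa [hθ] using D.base_dg hN {θ} (by simp [hθ])) h
  exact ⟨l, hl, imp_ok h (D.cong_ok (fac3 hN) hc hl)⟩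

variable {t r : G} (F : Fr y t r) (H : BD 5 r)
include F

theorem fb2 (χ : IrrCharacter G) : fb 11 2 (dg χ) (iv χ t) = true :=
  have := data11 hN D E
  E.fb_ok this.2.2 (by omega) Nat.prime_two (by norm_num) F.to F.tN (isRat_of_sq F.t2) χ

theorem fb5 (hr : IsRat r) (χ : IrrCharacter G) : fb 11 5 (dg χ) (iv χ r) = true :=
  have := data11 hN D E
  E.fb_ok this.2.2 (by omega) (by norm_num) (by norm_num) F.ro F.rN hr χ

include H

theorem data5 : H.e = 4 ∧ ∃ l ∈ L5, ↑l = H.xd ∧ ((H.c = 192 ∧ 5796 ∈ l) ∨ H.c = 12) := by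
  obtain ⟨l, hl, h⟩ := H.dsA_ok (hG hN) hN hdvs hbts (fun χ _ h => okX hN D E h)
    (rel23 hN D H (by norm_num)) (List.all_eq_true.1 chkC0 _ (of_decide_eq_true (imp_ok
      (opt_ok hN H opts5) ⟨H.not_dvd_c' E (by rw [(data11 hN D E).2.2]; norm_num) (by norm_num),
        nd23 hN D H (by norm_num), H.dvd_c Nat.prime_two (by norm_num) F.to
          (F.ro ▸ orderOf_dvd_cent F.tr)⟩)))
  obtain ⟨h1, h2, h3⟩ := of_decide_eq_true (imp_ok h (H.relx_ok (rel11 hN D E H (by norm_num)) hl))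
  exact ⟨h1, l, h3, hl, h2⟩

theorem cases3 (he : H.e = 4) (h3 : 3 ∣ H.c) {χ : IrrCharacter G} (hχ : χ ∈ H.ext)
    (hv : H.sv χ = -5544) :
    (∃ θ φ : IrrCharacter G, dg θ = 5796 ∧ dg φ = 252 ∧
      ∀ g, IsRat g → ¬ 3 ∣ orderOf g → iv θ g = iv φ g + iv χ g) ∨
    ∃ φ ψ : IrrCharacter G, [χ, φ, ψ].Nodup ∧ dg φ = 5544 ∧ dg ψ = 5544 ∧
      ∀ g, ¬ 3 ∣ orderOf g → iv φ g = iv χ g ∧ iv ψ g = iv χ g := by
  obtain ⟨s1, hd⟩ := H.sg_of_sv hv
  replace hd : dg χ = 5544 := hd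
  obtain ⟨φ, ψ, a1, a2, a3, a4, a5, h | ⟨a, b, ha, hb, h1, h2⟩⟩ :=
    tri (fac3 hN) (χ := χ) (by rw [hd]; rfl)
  · refine Or.inr ⟨φ, ψ, by simp [a1.symm, a2.symm, a3], ?_, ?_, fun g hg => ?_⟩
    · exact hd ▸ Block.charDegree_eq_of_eq (by rw [(h 1 (by simp)).1, dg_cast])
    · exact hd ▸ Block.charDegree_eq_of_eq (by rw [(h 1 (by simp)).2, dg_cast])
    · simp only [iv, h g hg, and_self]
  have h4 : ∀ g, IsRat g → ¬ 3 ∣ orderOf g → iv χ g + a * iv φ g + b * iv ψ g = 0 :=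
    fun g hg hg' => by
      have := h1 g hg'
      rw [hg.cast, hg.cast, hg.cast] at this
      exact_mod_cast this
  have h5 : ∀ ρ : IrrCharacter G, v9 (dg ρ) = true → dg ρ ∈ dvs ∧ X (dg ρ) = true := fun ρ h =>
    ⟨hdvs _ (hN ▸ dg_dvd ρ) (hN ▸ dg_sq_le ρ),
      okX hN D E (ne_one_of_dg fun h' => by rw [h'] at h; exact absurd h (by decide))⟩
  have h6 := h4 1 isRat_one (by simp)
  have h7 := D.wt_rel (data23 hN D).2.2 (by rw [(data23 hN D).2.1]; norm_num)
    fun g hg => h1 g (by rw [hg]; norm_num)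
  have h8 := E.wt_rel (data11 hN D E).2.2 (by rw [(data11 hN D E).2.1]; norm_num)
    fun g hg => h1 g (by rw [hg]; norm_num)
  rw [(data23 hN D).2.1, hd] at h7
  rw [(data11 hN D E).2.1, hd, show wt 11 10 5544 = 0 from rfl, zero_add] at h8
  simp only [iv_one, hd] at h6
  have h9 := of_decide_eq_true (imp_ok (List.all_eq_true.1 (List.all_eq_true.1 (imp_ok
    (List.all_eq_true.1 (imp_ok (List.all_eq_true.1 chkTri _ (h5 φ a4).1) ⟨(h5 φ a4).2, a4⟩) _
      (h5 ψ a5).1) ⟨(h5 ψ a5).2, a5⟩) a (by simpa using ha)) b (by simpa using hb)) ⟨h6, h7, h8⟩)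
  have h10 : ∀ (ρ : IrrCharacter G) (c : ℤ), (∀ g, 3 ∣ orderOf g → χ.1 g = c * ρ.1 g) →
      dg ρ ≠ 990 := fun ρ c h h' => by
    obtain ⟨u, u1, u2⟩ := H.exists_cent Nat.prime_three h3
    have u3 : orderOf (r * u) = 5 * 3 := by
      rw [u2.symm.orderOf_mul_eq_mul_orderOf_of_coprime (by rw [F.ro, u1]; norm_num), F.ro, u1]
    have := h (r * u) (by rw [u3]; norm_num)
    rw [H.val_ext hχ (by rw [hv]; rfl) (mem_zpowers r) (Grp.SelfCent.ne_one F.ro)
      (mem_centralizer_singleton_iff.2 u2) (by rw [u1]; norm_num),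
      ρ.2.eq_zero_of_pow_dvd (n := 1) (p := 5) (by norm_num) (dg_cast ρ).symm
        (by rw [hN]; norm_num) (by rw [h']; norm_num) (by rw [u3]; norm_num), s1] at this
    simp at this
  rcases h9 with ⟨b1, b2, rfl, rfl⟩ | ⟨b1, b2, rfl, rfl⟩ | b1 | b1 | ⟨b1, b2, rfl⟩
  · exact Or.inl ⟨φ, ψ, b1, b2, fun g hg hg' => by have := h4 g hg hg'; omega⟩
  · exact Or.inl ⟨ψ, φ, b2, b1, fun g hg hg' => by have := h4 g hg hg'; omega⟩
  · exact absurd b1 (h10 φ a fun g hg => (h2 g hg).1)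
  · exact absurd b1 (h10 ψ b fun g hg => (h2 g hg).2)
  · have c1 : ∀ ρ : IrrCharacter G, dg ρ = 2772 → iv ρ r = iv D.th r := fun ρ h =>
      D.iv_Y (by rw [F.ro]; norm_num)
        (D.mem_Y (data23 hN D).2.2 (by omega) (by omega) (by omega))
    have := h4 r (H.isRat (by omega)) (by rw [F.ro]; norm_num)
    rw [c1 φ b1, c1 ψ b2, H.iv_ext (by omega) hχ, s1] at this
    rw [show Int.sign (-5544) = -1 from rfl] at this
    rcases ha with rfl | rfl <;> omega

end Cfsg.Agent.Math.M24
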