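import Mathlib
import Cfsg.Agent.Math.M24Def

/-!
A simple group of order 244823040: searches in the principal 23-block and 11-block.
-/

set_option autoImplicit false
set_option Elab.async false

namespace Cfsg.Agent.Math.M24

open Cfsg.Agent.Small.Sieve

attribute [local irreducible] dsA dsS dsY vt vi vr imp d23 t23 good fin

theorem chkC2 : d23 [5544, -252] (vr 244823040 255024 23 2 5 0 (fb 11 5) [(5544, -1)]
    fun _ => false) = true := by decide +kernel

theorem chkC3 : d23 [5544, 5544, 5544] (vr 244823040 255024 23 2 5 0 (fb 11 5)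
    [(5544, -1), (5544, -1), (5544, -1)] fun _ => false) = true := by decide +kernel

theorem chkC4 : d23 [5544, 5544, 5544] (fun l => T.all fun s =>
    t23 s [(5544, s.2.1), (5544, s.2.1), (5544, s.2.1)] (fun _ => false) l) = true := by
  decide +kernel

theorem chkC5 : dsS dvs 244823040 11 22256640 1 (5544 * 5544) X 23 11 [-5796, -252, -5796]
    (fun l => imp (cong l) ((List.range 503).all fun i =>
      imp (admR (-252, (i : ℤ) - 251) ∧ admR (-5796, (i : ℤ) - 251 + -1))
      (vr 244823040 4080384 11 1 5 0 (fb 11 5) [(-5796, 1), (-252, (i : ℤ) - 251),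
        (-5796, (i : ℤ) - 251 + -1)] (fun _ => T.all fun s => (List.range 503).all fun j =>
          imp (admT s.1 (-252, (j : ℤ) - 251) ∧ admT s.1 (-5796, (j : ℤ) - 251 + s.2.1))
          (vi 244823040 s.1 11 1 (s.2.1.natAbs * s.2.1.natAbs + s.2.2.2) qs (fb 11 2)
            [(-5796, s.2.2.1), (-252, (j : ℤ) - 251), (-5796, (j : ℤ) - 251 + s.2.1)]
            (fun _ => false) l)) l))) = true := by
  decide +kernel

end Cfsg.Agent.Math.M24
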