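import Mathlib
import Cfsg.Agent.Math.M24Def

/-!
A simple group of order 244823040: the main search.
-/

set_option autoImplicit false
set_option Elab.async false

namespace Cfsg.Agent.Math.M24

open Cfsg.Agent.Small.Sieve

attribute [local irreducible] dsA dsS dsY vt vi vr imp d23 t23 good fin

theorem chkG3 : good (fun l => decide (l.count (-3840) ≠ 2)) [(31878, 24, 36, 697)] = true := by
  decide +kernel

theorem chkG4 : good (fun _ => true) ((T.drop 7).take 5) = true := by decide +kernel

theorem chkG5 : good (fun _ => true) (T.drop 12) = true := by decide +kernel

end Cfsg.Agent.Math.M24
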