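import Mathlib
import Cfsg.Agent.Math.M24b
import Cfsg.Agent.Math.M24c4
import Cfsg.Agent.Math.M24c5
import Cfsg.Agent.Math.M24c6
import Cfsg.Agent.Math.M24c7

/-!
A simple group of order 244823040: the small character degrees.
-/

set_option autoImplicit false
set_option linter.style.haveILetI false
set_option linter.unusedSectionVars false

namespace Cfsg.Agent.Math.M24

open Subgroup Cfsg.Agent.Small Cfsg.Agent.Char Cfsg.Agent.Char.Euclid Cfsg.Agent.Small.Sieve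

attribute [local irreducible] dsA dsS dsY vt vi vr imp divs opts dall dvs

theorem range_ok {f : ℕ → Bool} (h : (List.range 503).all f = true) {a : ℤ} (ha : a.natAbs < 252) :
    ∃ i : ℕ, (i : ℤ) - 251 = a ∧ f i = true :=
  ⟨(a + 251).toNat, by omega, List.all_eq_true.1 h _ (List.mem_range.2 (by omega))⟩

noncomputable abbrev st {G : Type*} [Group G] (t : G) (a b : ℤ) (S : Finset (IrrCharacter G)) :
    ℕ × ℤ × ℤ × ℕ :=
  ((centralizer ({t} : Set G)).index, a, b, ∑ χ ∈ S, (iv χ t).natAbs * (iv χ t).natAbs)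

theorem base_cons {G : Type*} [Group G] [Finite G] {p : ℕ} [Fact p.Prime] {x : G} (D : BD p x)
    (hN : Nat.card G = 244823040) {t : G} (ht : t * t = 1) {θ : IrrCharacter G} (hθ : p ∣ dg θ)
    (hθ' : ¬ 253 ∣ dg θ) (hp : p ∣ 253) {S : Finset (IrrCharacter G)} (hS : ∀ χ ∈ S, 253 ∣ dg χ) :
    (iv θ t).natAbs * (iv θ t).natAbs + ∑ χ ∈ S, (iv χ t).natAbs * (iv χ t).natAbs +
      ∑ χ ∈ D.blk, (iv χ t).natAbs * (iv χ t).natAbs ≤
        244823040 / (centralizer ({t} : Set G)).index := by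
  have := D.base_iv hN (isRat_of_sq ht) rfl (S.cons θ fun h => hθ' (hS θ h)) fun χ h =>
    (Finset.mem_cons.1 h).elim (fun h => h ▸ hθ) fun h => hp.trans (hS χ h)
  rwa [Finset.sum_cons] at this

variable {G : Type*} [Group G] [Finite G] [IsSimpleGroup G] (hN : Nat.card G = 244823040)
  {x y : G} (D : BD 23 x) (E : BD 11 y) {t r : G} (F : Fr y t r)
include hN D E F

theorem vr23 (hr : IsRat r) {h : ℕ} (hh : (centralizer ({r} : Set G)).index = h)
    {s : List (IrrCharacter G)} (hs : s.Nodup) (h1 : ∀ χ ∈ s, dg χ = 5544 ∨ dg χ = 252)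
    {fx : List (ℤ × ℤ)} (hfx : fx = s.map fun χ => (D.sv χ, iv χ r)) {l : List ℤ}
    (hl : ↑l = D.xd) {Φ : List (ℤ × ℤ) → Bool}
    (h : vr 244823040 h 23 2 5 0 (fb 11 5) fx Φ l = true) : ∃ w, Φ w = true :=
  (D.vr_ok hN (by norm_num) (by norm_num) (by norm_num) (by norm_num) hr F.ro hh
    (data23 hN D).2.2 (cardY23 hN D) (D.base_iv hN hr hh ∅ (by simp)) hl
    (hfx ▸ D.fx_le (s := fs s hs) (fun χ h => (sv23 hN D (h1 χ h)).1) r) (fb5 hN D E F hr) h).imp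
    fun _ h => h.2

variable {a b : ℤ} {θ : IrrCharacter G} (hθ : dg θ = 5796) (hb : iv θ t = b)
  {S : Finset (IrrCharacter G)} (hS : ∀ χ ∈ S, 253 ∣ dg χ)
include hθ hb hS

theorem t23_ok {s : List (IrrCharacter G)} (hs : s.Nodup)
    (h1 : ∀ χ ∈ s, dg χ = 5544 ∨ dg χ = 252) {fx : List (ℤ × ℤ)}
    (hfx : fx = s.map fun χ => (D.sv χ, iv χ t)) {l : List ℤ} (hl : ↑l = D.xd)
    {Φ : List (ℤ × ℤ) → Bool} (h : t23 (st t a b S) fx Φ l = true) :
    ∃ w : List (ℤ × ℤ), ↑w = D.xr t ∧ Φ w = true :=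
  D.vt_ok (hG hN) hN (by norm_num) hqs F.t2 F.t1 rfl (data23 hN D).2.1 (data23 hN D).2.2
    (hb ▸ base_cons D hN F.t2 (by rw [hθ]; norm_num) (by rw [hθ]; norm_num) (by norm_num) hS) hl
    (hfx ▸ D.fx_le (s := fs s hs) (fun χ h => (sv23 hN D (h1 χ h)).1) t) (fb2 hN D E F) h

theorem fin_ok {w : List (ℤ × ℤ)} (hw : ↑w = D.xr t) (h : fin (st t a b S) w = true) : Out G := by
  classical
  obtain ⟨hk, he, hc⟩ := data11 hN D E
  have c23 := (data23 hN D).2.2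
  have ht : ∀ {p}, 2 < p → ¬ p ∣ orderOf t := fun h h' => by
    have := Nat.le_of_dvd (by norm_num) (F.to ▸ h'); omega
  have h1 := D.fullx_eq (ht (by norm_num)) hw (cardY23 hN D)
  set A := D.blk.erase (irrOne G) with hA
  have h2 : ∀ χ ∈ A, χ ≠ irrOne G ∧ ¬ 23 ∣ dg χ := fun χ h =>
    ⟨(Finset.mem_erase.1 h).1, D.not_dvd_dg (Finset.mem_erase.1 h).2⟩
  have h3 : θ ∉ A.filter fun χ => ¬ 11 ∣ (row t χ).1 := fun h =>
    (h2 θ (Finset.mem_filter.1 h).1).2 (by rw [hθ]; norm_num)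
  have h4 : ∀ χ ∈ A.filter fun χ => ¬ 11 ∣ (row t χ).1,
      χ ∈ E.ext ∧ E.sv χ = wt 11 10 (dg χ) * dg χ := fun χ h =>
    E.ext_of_not_dvd hc (by omega) (h2 χ (Finset.mem_filter.1 h).1).1 (Finset.mem_filter.1 h).2
  have h5 := sv11 hN D E (Or.inl hθ)
  have h6 : (A.filter fun χ => ¬ 11 ∣ (row t χ).1).cons θ h3 ⊆ E.ext := fun χ h =>
    (Finset.mem_cons.1 h).elim (fun h => h ▸ h5.1) fun h => (h4 χ h).1
  have h7 : (fxs b w : Multiset (ℤ × ℤ)) = ((A.filter fun χ => ¬ 11 ∣ (row t χ).1).cons θ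
      h3).val.map fun χ => (E.sv χ, iv χ t) := by
    rw [Finset.cons_val, Multiset.map_cons, h5.2, hθ, hb, fxs, ← Multiset.cons_coe,
      ← Multiset.map_coe, filt h1, Multiset.map_map]
    exact congrArg _ (Multiset.map_congr rfl fun χ h => by rw [(h4 χ h).2]; rfl)
  have h8 := filt h1 (11 ∣ ·.1)
  obtain ⟨l, hl, h⟩ := E.dsS_ok (hG hN) hN hdvs (by omega) (by rw [hk, he]) hc h6
    (by rw [← Multiset.map_coe, h7, Multiset.map_map]; rfl) (fun χ h h' => by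
      rw [okX hN D E (E.blk_of_ext h).2, Bool.and_true, beq_iff_eq]
      by_contra h9
      exact h' (Finset.mem_cons.2 (Or.inr (Finset.mem_filter.2 ⟨Finset.mem_erase.2
        ⟨(E.blk_of_ext h).2, D.mem_blk_of c23 (mt Nat.mod_eq_zero_of_dvd h9)⟩,
          E.not_dvd_dg (E.blk_of_ext h).1⟩)))) (rel23 hN D E (by norm_num))
    (by rw [sum_of h8]; exact E.base_dg hN _ fun χ h => (Finset.mem_filter.1 h).2) h
  obtain ⟨w', hw', h⟩ := E.vi_ok (hG hN) hN (by norm_num) hqs F.t2 F.t1 rfl hc (cardY11 hN D E)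
    F.ti (by
      have h9 := E.base_iv hN (isRat_of_sq F.t2) rfl (S.disjUnion (A.filter fun χ =>
        11 ∣ (row t χ).1) (Finset.disjoint_left.2 fun χ h h' =>
          (h2 χ (Finset.mem_filter.1 h').1).2 ((by norm_num : 23 ∣ 253).trans (hS χ h))))
        fun χ h => (Finset.mem_disjUnion.1 h).elim
          (fun h => (by norm_num : 11 ∣ 253).trans (hS χ h)) fun h => (Finset.mem_filter.1 h).2
      rw [Finset.sum_disjUnion] at h9
      rw [sum_of h8]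
      exact h9) hl (h7 ▸ E.fx_le h6 t) (fb2 hN D E F)
    (imp_ok h (E.cong_ok (fac3 hN) hc hl))
  simp only [Bool.and_eq_true, decide_eq_true_eq] at h
  have h9 : ∀ (L : List (ℕ × ℤ)) (ψ : IrrCharacter G), sml L = true → row t ψ ∈ (1, 1) :: L →
      dg ψ ≤ 276 → dg ψ ∈ [253, 252, 231, 45, 23, 1] := fun L ψ h h' h10 => by
    rcases List.mem_cons.1 h' with h' | h'
    · rw [show dg ψ = 1 from congrArg Prod.fst h']; decide
    · have := List.all_eq_true.1 h _ h'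
      rw [Bool.or_eq_true, Nat.blt_eq, decide_eq_true_eq] at this
      exact (by decide : ∀ r ∈ c1, r.1 ∈ [253, 252, 231, 45, 23, 1]) _
        (this.resolve_left (not_lt.2 h10))
  refine ⟨fun ψ h10 => ?_, E.unique (E.rws_fullx (ht (by norm_num)) hw' (cardY11 hN D E)) hc
    (by norm_num) (by rw [Multiset.coe_countP, List.countP_cons, h.2]; rfl)⟩
  by_cases h11 : 11 ∣ dg ψ
  by_cases h12 : 23 ∣ dg ψ
  · have := dg_pos ψ
    rw [show dg ψ = 253 by omega]; decide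
  · exact h9 _ ψ h.1.1 (D.row_mem_fullx (ht (by norm_num)) hw (cardY23 hN D) c23 h12) h10
  · exact h9 _ ψ h.1.2 (E.row_mem_fullx (ht (by norm_num)) hw' (cardY11 hN D E) hc h11) h10

variable (hr : IsRat r) (hh : (centralizer ({r} : Set G)).index = 4080384)
  {χ φ : IrrCharacter G} (hχ : dg χ = 5544) (hφ : dg φ = 252) (ha : iv χ t = a)
  (r1 : iv χ r = -1) (r2 : iv θ r = 1)
include hr hh hχ hφ ha r1 r2

theorem good_ok (h1 : iv θ r = iv φ r + iv χ r) (h2 : iv θ t = iv φ t + iv χ t)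
    {P : List ℤ → Bool} {L : List (ℕ × ℤ × ℤ × ℕ)} (h : good P L = true)
    (hP : ∀ l : List ℤ, ↑l = D.xd → P l = true) (hL : st t a b S ∈ L) : Out G := by
  have a1 : [χ, φ].Nodup := by simpa using fun h : χ = φ => by rw [h] at hχ; omega
  have a2 : ∀ ρ ∈ [χ, φ], dg ρ = 5544 ∨ dg ρ = 252 := by simp [hχ, hφ]
  have a3 : D.sv χ = 5544 := by rw [(sv23 hN D (Or.inl hχ)).2.2, hχ]; rfl
  have a4 : D.sv φ = -252 := by rw [(sv23 hN D (Or.inr hφ)).2.2, hφ]; rfl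
  have a5 : iv φ t = b - a := by omega
  obtain ⟨l, hl, h⟩ := d23_ok hN D E hθ a1 a2 (by simp [a3, a4]) h
  obtain ⟨_, h⟩ := vr23 hN D E F hr hh a1 a2 (by simp [a3, a4, r1]; omega) hl (imp_ok h (hP l hl))
  have a6 := sv11 hN D E (Or.inr hφ)
  have a7 := (E.adm_t (hG hN) hN hqs F.t2 F.t1 rfl a6.1 (fb2 hN D E F φ)).admB
  rw [a6.2, hφ, a5] at a7
  obtain ⟨w, hw, h⟩ := t23_ok hN D E F hθ hb hS a1 a2 (by simp [a3, a4, ha, a5]) hl
    (imp_ok (List.all_eq_true.1 h _ hL) a7)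
  exact fin_ok hN D E F hθ hb hS hw h

theorem bad {θ' : IrrCharacter G} (hθ' : dg θ' = 5796) (h0 : θ ≠ θ')
    (h1 : iv θ' r = iv φ r + iv χ r) (h2 : iv θ' t = iv φ t + iv χ t) (hT : st t a b S ∈ T) : False := by
  obtain ⟨hk, he, hc⟩ := data11 hN D E
  have a1 : [θ, φ, θ'].Nodup := by
    simpa [h0] using (⟨fun h => by rw [h] at hθ; omega, fun h => by rw [h] at hφ; omega⟩ :
      θ ≠ φ ∧ φ ≠ θ')
  obtain ⟨b1, b2⟩ := sv11 hN D E (Or.inl hθ)
  obtain ⟨b3, b4⟩ := sv11 hN D E (Or.inr hφ)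
  obtain ⟨b5, b6⟩ := sv11 hN D E (Or.inl hθ')
  rw [hθ] at b2
  rw [hφ] at b4
  rw [hθ'] at b6
  have a2 : fs _ a1 ⊆ E.ext := fun ρ h => by
    simp only [mem_fs, List.mem_cons, List.not_mem_nil, or_false] at h
    rcases h with rfl | rfl | rfl <;> assumption
  obtain ⟨l, hl, h⟩ := E.dsS_ok (hG hN) hN hdvs (by omega) (by rw [hk, he]) hc a2
    (by simp [fs, b2, b4, b6]) (fun χ h _ => okX hN D E (E.blk_of_ext h).2)
    (rel23 hN D E (by norm_num)) (by simpa [hχ] using E.base_dg hN {χ} (by simp [hχ])) chkC5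
  have a3 : ∀ ρ ∈ E.ext, Adm 4080384 (fun _ => 5)
      (fun d a => (!(d % 5 == 0) || a == 0) && fb 11 5 d a) (E.sv ρ, iv ρ r) := fun ρ h =>
    adm_r (by norm_num) (by rw [hN]; norm_num) hr F.ro hh (E.blk_of_ext h).2 (fb5 hN D E F hr ρ)
      (E.natAbs_sv ρ)
  have a4 := fun ρ (h : ρ ∈ E.ext) => E.adm_t (hG hN) hN hqs F.t2 F.t1 rfl h (fb2 hN D E F ρ)
  obtain ⟨i, hi, h⟩ := range_ok (imp_ok h (E.cong_ok (fac3 hN) hc hl)) (a := iv φ r)
    (by simpa [b4] using (a3 φ b3).lt)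
  rw [hi, ← r1, ← h1] at h
  obtain ⟨_, -, h⟩ := E.vr_ok hN (by norm_num) (by norm_num) (by norm_num) (by norm_num) hr F.ro hh
    hc (cardY11 hN D E) (E.base_iv hN hr hh ∅ (by simp)) hl
    ((le_of_eq (by simp [fs, b2, b4, b6, r2])).trans (E.fx_le a2 r)) (fb5 hN D E F hr)
    (imp_ok h ⟨b4 ▸ (a3 φ b3).admB, b6 ▸ (a3 θ' b5).admB⟩)
  obtain ⟨j, hj, h⟩ := range_ok (List.all_eq_true.1 h _ hT) (a := iv φ t)
    (by simpa [b4] using (a4 φ b3).lt)
  simp only [hj, ← ha, ← h2] at h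
  obtain ⟨_, -, h⟩ := E.vi_ok (hG hN) hN (by norm_num) hqs F.t2 F.t1 rfl hc (cardY11 hN D E) F.ti
    (base_cons E hN F.t2 (by rw [hχ]; norm_num) (by rw [hχ]; norm_num) (by norm_num) hS) hl
    ((le_of_eq (by simp [fs, b2, b4, b6, hb])).trans (E.fx_le a2 t)) (fb2 hN D E F)
    (imp_ok h ⟨b4 ▸ (a4 φ b3).admB, b6 ▸ (a4 θ' b5).admB⟩)
  exact Bool.false_ne_true h

omit F hθ hb hS hr hh hχ hφ ha r1 r2 D E in
theorem out : Out G := by
  classical
  obtain ⟨x, ⟨D⟩⟩ := exists_BD (hG hN) 23 (by rw [hN]; norm_num) (by rw [hN]; norm_num)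
    (by norm_num)
  obtain ⟨y, ⟨E⟩⟩ := exists_BD (hG hN) 11 (by rw [hN]; norm_num) (by rw [hN]; norm_num)
    (by norm_num)
  obtain ⟨t, r, F⟩ := exists_fr hN D E
  obtain ⟨H⟩ := exists_BD' (hG hN) F.ro (by rw [hN]; norm_num) (by norm_num)
  obtain ⟨he, l, h1, hl, h2⟩ := data5 hN D E F H
  have hr := H.isRat (by omega)
  obtain ⟨χ, hχ, hv⟩ := H.of_mem_xd hl ((by decide : ∀ l ∈ L5, -5544 ∈ l) l h1)
  have hd : dg χ = 5544 := (H.sg_of_sv hv).2
  have r1 : iv χ r = -1 := by rw [H.iv_ext (by omega) hχ, (H.sg_of_sv hv).1]; rfl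
  have h3 := cases3 hN D E F H he (by rcases h2 with ⟨h, -⟩ | h <;> rw [h] <;> norm_num) hχ hv
  have a1 : ∀ ρ, dg ρ = 5544 → D.sv ρ = 5544 := fun ρ h => by
    rw [(sv23 hN D (Or.inl h)).2.2, h]; rfl
  have o3 : ¬ 3 ∣ orderOf r := by rw [F.ro]; norm_num
  have o2 : ¬ 3 ∣ orderOf t := by rw [F.to]; norm_num
  rcases h2 with ⟨hc, h2⟩ | hc
  · obtain ⟨θ, -, h4⟩ := H.of_mem_xd hl h2
    have hθ : dg θ = 5796 := (H.sg_of_sv h4).2
    have hh := H.index_of_c hN hc (h := 255024) (by norm_num)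
    rcases h3 with ⟨-, φ, -, hφ, -⟩ | ⟨φ, ψ, b1, b2, b3, b4⟩
    · obtain ⟨l, hl, h⟩ := d23_ok hN D E hθ (s := [χ, φ])
        (by simpa using fun h : χ = φ => by rw [h] at hd; omega) (by simp [hd, hφ])
        (by simp [a1 χ hd, (sv23 hN D (Or.inr hφ)).2.2, hφ]) chkC2
      obtain ⟨_, h⟩ := vr23 hN D E F hr hh (s := [χ]) (by simp) (by simp [hd])
        (by simp [a1 χ hd, r1]) hl h
      exact absurd h Bool.false_ne_true
    · obtain ⟨l, hl, h⟩ := d23_ok hN D E hθ b1 (by simp [hd, b2, b3])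
        (by simp [a1 χ hd, a1 φ b2, a1 ψ b3]) chkC3
      obtain ⟨_, h⟩ := vr23 hN D E F hr hh b1 (by simp [hd, b2, b3])
        (by simp [a1 χ hd, a1 φ b2, a1 ψ b3, b4 r o3, r1]) hl h
      exact absurd h Bool.false_ne_true
  have hh := H.index_of_c hN hc (h := 4080384) (by norm_num)
  obtain ⟨hk, e11, c11⟩ := data11 hN D E
  obtain ⟨w, hw, h⟩ := H.vt_ok (hG hN) hN (by norm_num) hqs F.t2 F.t1 rfl he hc
    (H.base_iv hN (isRat_of_sq F.t2) rfl ∅ (by simp)) hl (Multiset.zero_le _) (fb2 hN D E F)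
    (List.all_eq_true.1 (imp_ok (idx_ok hN chkC1 _) ⟨E.dvd_idx (by omega) F.t2 F.t1,
      idx23 hN D F.t2 F.t1, not_dvd_index' (by rw [hN]; norm_num)
        (F.ro ▸ orderOf_dvd_cent F.tr), four hN F.t2 F.t1, by
          have := index_mul_pairs_le t y
          rwa [pairs_of_inverts E.ox E.odd (E.cent_of_c c11) F.t2 F.ti, E.index_C', hk, e11]
            at this⟩) l h1)
  obtain ⟨_, h4, h5, h6⟩ := of_decide_eq_true h
  obtain ⟨θ, h7, rfl⟩ := H.of_mem_xr hw h4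
  have hθ : dg θ = 5796 := (H.sg_of_sv h5).2
  have r2 : iv θ r = 1 := by rw [H.iv_ext (by omega) h7, (H.sg_of_sv h5).1]; rfl
  have hT := h6 _ (H.mem_xr hχ hw) hv
  rw [bs, H.sum_x hw, ← Finset.sum_filter] at hT
  have hS : ∀ ρ ∈ H.ext.filter fun ρ => 253 ∣ (H.sv ρ).natAbs, 253 ∣ dg ρ := fun ρ h =>
    H.natAbs_sv ρ ▸ (Finset.mem_filter.1 h).2
  rcases h3 with ⟨θ', φ, b1, b2, b3⟩ | ⟨φ, ψ, b1, b2, b3, b4⟩
  · by_cases h0 : θ = θ'
    swap
    · exact (bad hN D E F hθ rfl hS hr hh hd b2 rfl r1 r2 b1 h0 (b3 r hr o3)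
        (b3 t (isRat_of_sq F.t2) o2) hT).elim
    subst h0
    have g := @good_ok G _ _ _ hN _ _ D E _ _ F _ _ _ hθ rfl _ hS hr hh _ _ hd b2 rfl r1 r2
      (b3 r hr o3) (b3 t (isRat_of_sq F.t2) o2)
    rw [show T = T.take 6 ++ ([(31878, 24, 36, 697)] ++ ((T.drop 7).take 5 ++ T.drop 12)) from rfl,
      List.mem_append, List.mem_append, List.mem_append] at hT
    rcases hT with hT | hT | hT | hT
    · exact g chkG1 (fun _ _ => rfl) hT
    · by_cases h8 : D.xd.count (-3840) = 2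
      · exact g chkG2 (fun l hl => decide_eq_true (by rwa [← hl, Multiset.coe_count] at h8)) hT
      · exact g chkG3 (fun l hl => decide_eq_true (by rwa [← hl, Multiset.coe_count] at h8)) hT
    · exact g chkG4 (fun _ _ => rfl) hT
    · exact g chkG5 (fun _ _ => rfl) hT
  · obtain ⟨l, hl, h⟩ := d23_ok hN D E hθ b1 (by simp [hd, b2, b3])
      (by simp [a1 χ hd, a1 φ b2, a1 ψ b3]) chkC4
    obtain ⟨_, -, h⟩ := t23_ok hN D E F hθ rfl hS b1 (by simp [hd, b2, b3])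
      (by simp [a1 χ hd, a1 φ b2, a1 ψ b3, b4 t o2]) hl (List.all_eq_true.1 h _ hT)
    exact absurd h Bool.false_ne_true

end Cfsg.Agent.Math.M24
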