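import Cfsg.Agent.Char.M11Ord7
import Cfsg.Agent.Math.Rows

/-!
Simplicity from the number of Sylow subgroups, and the number of Sylow subgroups from `nse`.
-/

set_option linter.dupNamespace false
set_option linter.unusedSectionVars false
set_option linter.style.haveILetI false
open Cfsg MulAction Subgroup

namespace Cfsg.Agent.Math.Nse
open Cfsg.Agent.Char Cfsg.Agent.Small Cfsg.Agent.Grp.SelfCent Cfsg.Agent.Char.M11Ord

variable {G : Type*} [Group G] [Finite G] {p : ℕ} [hp : Fact p.Prime]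

omit hp in
theorem hq_of {m B : ℕ} (hB : m ≤ B * B)
    (h : ∀ d ∈ Sieve.divs m B, d % p = 1 → ¬ IsPrimePow d) :
    ∀ d ∈ Nat.divisors m, IsPrimePow d → d % p ≠ 1 := fun d hd h1 h2 =>
  h d (Sieve.mem_divs (Nat.mem_divisors.1 hd).1 (Nat.pos_of_ne_zero (Nat.mem_divisors.1 hd).2) hB)
    h2 h1

theorem simple_of_cent {m n r : ℕ} (hG : Nat.card G = p * m) (hm : ¬ p ∣ m) (hr : r.Prime)
    (hq : ∀ d ∈ Nat.divisors m, IsPrimePow d → d % p ≠ 1) {x : G} (hx : orderOf x = p)
    (hC : centralizer ({x} : Set G) = zpowers x) (hn : n * r = m) (h1n : n ≠ 1)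
    (hn1 : n % p = 1)
    (he : (zpowers x).relIndex (normalizer ((zpowers x : Subgroup G) : Set G)) = r) :
    IsSimpleGroup G := by
  have hm0 : m ≠ 0 := fun h => hm (h ▸ dvd_zero p)
  have h1 : ∀ S : Subgroup G, S.Normal → ¬ p ∣ Nat.card S → S = ⊥ := fun S hS h => by
    by_contra hne
    obtain ⟨q, hq', hd⟩ := Nat.exists_prime_and_dvd (mt card_eq_one.1 hne)
    haveI := Fact.mk hq'
    obtain ⟨g, h1, h2, h3⟩ := exists_comm hx (L := S) (by simp [normalizer_eq_top]) h hd
      fun k hk h4 => hq _ (Nat.mem_divisors.2 ⟨(Nat.Coprime.dvd_mul_left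
        (((Nat.Prime.coprime_iff_not_dvd hp.out).2 fun h5 => h (h5.trans h4)).symm)).1
          (hG ▸ h4.trans S.card_subgroup_dvd_card), hm0⟩) (hq'.isPrimePow.pow hk.ne')
    rw [eq_one_of_commute hx hC h h1 h3.symm.eq, orderOf_one] at h2
    exact hq'.one_lt.ne h2
  refine isSimpleGroup_of_perfect hx hC ?_ (h1 _ inferInstance (Grp.not_dvd_card_pPrimeCore p G))
  have h3 := mem_commutator hx hC (he ▸ hr.one_lt.ne')
  have h4 := index_dvd_of_mem hx hC _ h3
  rw [he, Nat.dvd_prime hr] at h4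
  refine index_eq_one.1 (h4.resolve_right fun h5 => ?_)
  have h6 := (_root_.commutator G).card_mul_index
  have hx' : orderOf (⟨x, h3⟩ : _root_.commutator G) = p := by rw [← orderOf_coe, hx]
  have hC' := centralizer_subgroup hC _ h3
  have h7 : Nat.card (_root_.commutator G) = p * n := by
    rw [h5, hG, ← hn, ← mul_assoc] at h6; exact Nat.eq_of_mul_eq_mul_right hr.pos h6
  obtain ⟨P, hP⟩ := exists_sylow hx' hC'
  obtain ⟨n', e, c, k1, k2, k3, -, -, k4, k5⟩ := sylow_data h7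
    (fun h => hm (hn ▸ h.mul_right _)) P
  rw [hP, card_normalizer hx'] at k4
  rw [hP, centralizer_zpowers, hC', card_zp hx'] at k5
  obtain rfl : c = 1 := (Nat.eq_of_mul_eq_mul_left hp.out.pos ((mul_one p).trans k5)).symm
  rw [mul_one] at k1 k4
  have k6 : e = 1 := by
    have := Nat.le_of_dvd (by have := hp.out.two_le; omega) k3
    rw [← k1, Nat.mul_mod, k2, one_mul, Nat.mod_mod, Nat.mod_eq_of_lt
      (by have := hp.out.two_le; omega)] at hn1
    exact hn1
  replace k4 := (Nat.eq_of_mul_eq_mul_left hp.out.pos k4).trans k6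
  have h8 := index_commutator_of_eq_one hx' hC' k4
  have h9 := h1 ((_root_.commutator (_root_.commutator G)).map (Subgroup.subtype _)) inferInstance
    (by rw [card_map_of_injective (subtype_injective _)]
        exact not_dvd_card_commutator_of_eq_one hx' hC' k4)
  rw [map_eq_bot_iff_of_injective _ (subtype_injective _)] at h9
  rw [h9, index_bot, h7] at h8
  exact h1n (Nat.eq_of_mul_eq_mul_left hp.out.pos (h8.trans (mul_one p).symm))

theorem simple_of_sylow {m r : ℕ} (hG : Nat.card G = p * m) (hm : ¬ p ∣ m) (hr : r.Prime)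
    (h2 : r ≠ 2) (hp2 : p ≠ 2) (hm2 : 2 ∣ m)
    (hq : ∀ d ∈ Nat.divisors m, IsPrimePow d → d % p ≠ 1)
    (hn : Nat.card (Sylow p G) * r = m) : IsSimpleGroup G := by
  haveI : Fact (Nat.Prime 2) := ⟨Nat.prime_two⟩
  have hm0 : m ≠ 0 := fun h => hm (h ▸ dvd_zero p)
  obtain ⟨P⟩ : Nonempty (Sylow p G) := inferInstance
  obtain ⟨n, e, c, k1, k2, k3, hn', hP, hN, hC⟩ := sylow_data hG hm P
  obtain ⟨x, hx, hxP⟩ := exists_zpowers_eq_sylow P hP
  rw [hn'] at hn
  have hn0 : 0 < n := Nat.pos_of_ne_zero fun h => hm0 (by rw [← hn, h, zero_mul])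
  have h5 : e * c = r := Nat.eq_of_mul_eq_mul_left hn0 (k1.trans hn.symm)
  have hCx : Nat.card (centralizer ({x} : Set G)) = p * c := by
    rw [← hC, ← hxP, centralizer_zpowers]
  have hr2 : ¬ 2 ∣ r := fun h => h2 ((Nat.prime_dvd_prime_iff_eq Nat.prime_two hr).1 h).symm
  rcases (Nat.dvd_prime hr).1 (Dvd.intro_left e h5) with rfl | rfl
  · refine simple_of_cent hG hm hr hq hx (eq_of_le_of_card_ge
      (zpowers_le.2 (mem_centralizer_singleton_iff.2 rfl)) ?_).symm hn ?_ k2 ?_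
    · rw [hCx, card_zp hx, mul_one]
    · rintro rfl; exact hr2 (by rwa [← hn, one_mul] at hm2)
    · rw [← hxP, card_normalizer hx, h5] at hN
      exact Nat.eq_of_mul_eq_mul_left hp.out.pos hN
  obtain rfl : e = 1 := Nat.eq_of_mul_eq_mul_right hr.pos (h5.trans (one_mul _).symm)
  have k1 := (eq_of_le_of_card_ge (centralizer_le_normalizer ((P : Subgroup G) : Set G))
    (by rw [hN, hC, one_mul])).ge
  have k2 := (MonoidHom.ker_transferSylow_isComplement' P k1).card_mul_card
  set L := (MonoidHom.transferSylow P k1).ker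
  have k3 : Nat.card L = m := by
    rw [hP, hG, mul_comm] at k2; exact Nat.eq_of_mul_eq_mul_left hp.out.pos k2
  obtain ⟨g, -, k5, k6⟩ := exists_comm hx (L := L) (q := 2) (by simp [normalizer_eq_top])
    (by rwa [k3]) (by rwa [k3]) fun k hk h4 =>
      hq _ (Nat.mem_divisors.2 ⟨k3 ▸ h4, hm0⟩) (Nat.prime_two.isPrimePow.pow hk.ne')
  have := orderOf_dvd_natCard _ (mem_centralizer_singleton_iff.2 k6.symm)
  rw [k5, hCx, Nat.prime_two.dvd_mul] at this
  exact (this.elim (fun h => hp2 ((Nat.prime_dvd_prime_iff_eq Nat.prime_two hp.out).1 h).symm)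
    hr2).elim

theorem card_ord {m : ℕ} (hG : Nat.card G = p * m) (hm : ¬ p ∣ m) :
    Nat.card {g : G // orderOf g = p} = Nat.card (Sylow p G) * (p - 1) ∧
      Nat.card (Sylow p G) % p = 1 := by
  obtain ⟨P⟩ : Nonempty (Sylow p G) := inferInstance
  obtain ⟨n, e, c, k1, k2, k3, hn', hP, hN, hC⟩ := sylow_data hG hm P
  exact ⟨card_orderOf_eq_prime P hP, hn' ▸ k2⟩

theorem sylow_eq {M : Type*} [Group M] [Finite M] {y : M} (hy : orderOf y = p)
    (hC : centralizer ({y} : Set M) = zpowers y) (hp2 : p ≠ 2) {m : ℕ} (hG : Nat.card G = p * m)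
    (hm : ¬ p ∣ m) (h : ∃ n, Nat.card {g : G // orderOf g = p} = Nat.card {g : M // orderOf g = n}) :
    Nat.card (Sylow p G) = (normalizer ((zpowers y : Subgroup M) : Set M)).index := by
  obtain ⟨k, hk⟩ := h
  obtain ⟨h1, h2⟩ := card_ord hG hm
  have hp3 : 2 < p := lt_of_le_of_ne hp.out.two_le (Ne.symm hp2)
  obtain ⟨P, hP⟩ := exists_sylow hy hC
  have h3 : ¬ p ∣ Nat.card {g : M // orderOf g = k} := by
    rw [← hk, h1, hp.out.dvd_mul]
    rintro (h | h)
    · rw [Nat.mod_eq_zero_of_dvd h] at h2; omega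
    · exact absurd (Nat.le_of_dvd (by omega) h) (by omega)
  have h4 : k = p := by
    by_contra h4
    by_cases h5 : k = 1
    · subst h5
      have : Nat.card {g : M // orderOf g = 1} = 1 := by simp
      rw [this, h1] at hk
      have := Nat.eq_one_of_mul_eq_one_left hk
      omega
    refine h3 (dvd_card_orderOf fun g hg => ?_)
    have h6 := (centralizer ({g} : Set M)).card_mul_index
    have h7 : p ∣ Nat.card M := hy ▸ orderOf_dvd_natCard y
    refine ((hp.out.dvd_mul).1 (h6 ▸ h7)).resolve_left fun h8 => ?_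
    obtain ⟨u, hu⟩ := exists_prime_orderOf_dvd_card' p h8
    have hu' : orderOf u.1 = p := (orderOf_coe u).trans hu
    have h9 := orderOf_dvd_natCard (⟨g, mem_centralizer_singleton_iff.2
      (mem_centralizer_singleton_iff.1 u.2).symm⟩ : centralizer ({u.1} : Set M))
    rw [card_centralizer hy hC hu', ← orderOf_coe, hg, Nat.dvd_prime hp.out] at h9
    exact h9.elim h5 h4
  subst h4
  rw [h1, card_orderOf_eq_prime P (hP ▸ card_zp hy), P.card_eq_index_normalizer] at hk
  rw [← hP]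
  exact Nat.eq_of_mul_eq_mul_right (by omega) hk

theorem simple_of_nse {M : Type*} [Group M] [Finite M] {y : M} (D : BD p y) (hc : D.c = 1)
    (hr : D.e.Prime) (h2 : D.e ≠ 2) (hcard : Nat.card G = Nat.card M) {m : ℕ}
    (hM : Nat.card M = p * m) (hm2 : 2 ∣ m)
    (hq : ∀ d ∈ Nat.divisors m, IsPrimePow d → d % p ≠ 1)
    (hnse : {c : ℕ | 0 < c ∧ ∃ n : ℕ, c = Nat.card {g : G // orderOf g = n}} =
      {c : ℕ | 0 < c ∧ ∃ n : ℕ, c = Nat.card {g : M // orderOf g = n}}) : IsSimpleGroup G := by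
  have hG := hcard.trans hM
  have hm : ¬ p ∣ m := fun h => D.nsq (by rw [hM, sq]; exact Nat.mul_dvd_mul_left _ h)
  obtain ⟨x, hx⟩ := exists_prime_orderOf_dvd_card' (G := G) p (hG ▸ dvd_mul_right _ _)
  haveI : Nonempty {g : G // orderOf g = p} := ⟨⟨x, hx⟩⟩
  refine simple_of_sylow hG hm hr h2 D.odd hm2 hq ?_
  rw [sylow_eq D.ox (D.cent_of_c hc) D.odd hG hm (hnse.le ⟨Nat.card_pos, p, rfl⟩).2]
  have := D.card_G
  rw [hM, hc, mul_one] at this
  exact (Nat.eq_of_mul_eq_mul_left hp.out.pos this).symm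

end Cfsg.Agent.Math.Nse
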