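import Mathlib
import Cfsg.Agent.Math.M24d
import Cfsg.Agent.Math.M23b
import Cfsg.Agent.Math.Nse

/-!
A simple group of order 244823040 acts 5-transitively on 24 points.
-/

set_option autoImplicit false
set_option linter.style.haveILetI false
set_option linter.unusedSectionVars false

namespace Cfsg.Agent.Math.M24

open Subgroup MulAction Cfsg.Agent.Small Cfsg.Agent.Char Cfsg.Agent.Char.Euclid
open Cfsg.Agent.Perm.Hall4

def cond (l : List (ℕ × ℤ)) (a : ℕ) (b : ℤ) : Prop := l.countP (·.1 == 1) = a ∧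
  (l.map fun r => wt 23 11 r.1).sum = 0 ∧ (l.map fun r => wt 11 10 r.1).sum = b

instance (l : List (ℕ × ℤ)) (a : ℕ) (b : ℤ) : Decidable (cond l a b) := by
  unfold cond; infer_instance

def c0 : List (ℕ × ℤ) := [(253, 253), (252, 252), (231, 231), (45, 45), (23, 23)]

variable {G : Type*} [Group G] [Fintype G] [IsSimpleGroup G] (hN : Nat.card G = 244823040)
include hN

theorem four_trans : ∃ (Ω : Type) (_ : Fintype Ω) (_ : DecidableEq Ω) (_ : MulAction G Ω),
    Fintype.card Ω = 24 ∧ IsMultiplyPretransitive G Ω 4 := by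
  classical
  have h0 := hG hN
  obtain ⟨x, ⟨D⟩⟩ := exists_BD h0 23 (by rw [hN]; norm_num) (by rw [hN]; norm_num) (by norm_num)
  obtain ⟨y, ⟨E⟩⟩ := exists_BD h0 11 (by rw [hN]; norm_num) (by rw [hN]; norm_num) (by norm_num)
  obtain ⟨-, e23, c23⟩ := data23 hN D
  obtain ⟨-, e11, c11⟩ := data11 hN D E
  obtain ⟨h1, χ, hd, hu⟩ := out hN
  have hT : ∀ ψ : IrrCharacter G, dg ψ ≤ 276 → row 1 ψ ∈ c0 ++ [(1, 1)] := fun ψ h => by
    rw [row, iv_one]
    exact (by decide : ∀ d : ℕ, d ∈ [253, 252, 231, 45, 23, 1] → (d, (d : ℤ)) ∈ c0 ++ [(1, 1)]) _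
      (h1 ψ h)
  have hc : ∀ {Φ l} {a : ℕ} {b : ℤ}, Dec (1 : G) Φ l → classInner Φ (irrOne G) = a →
      (∀ g, orderOf g = 23 → Φ g = (0 : ℤ)) → (∀ g, orderOf g = 11 → Φ g = b) → cond l a b :=
    fun h a1 a2 a3 => ⟨by exact_mod_cast (h.count dg_irrOne (dg_eq_one h0)).symm.trans a1,
      by simpa [e23] using h.wt D c23 (by omega) a2, by simpa [e11] using h.wt E c11 (by omega) a3⟩
  have hν := fsInd_eq_one_of_odd_degree χ.2 (real_of_unique (χ := χ) (hd ▸ hu)) (d := 23)
    (by decide) (by rw [← dg_cast, hd])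
  have v23 := D.val_zero c23 (χ := χ) (by rw [hd])
  have v11 := E.val_one c11 (by omega) (χ := χ) (by rw [hd])
  obtain ⟨l, a1, a2⟩ := dec_of_ks2 (isCharacter_altSq χ.2.isCharacter)
    (altSq_one χ (c := 253) (by rw [hd]; rfl)) (fun ψ h _ => hT ψ (by omega))
    (F := fun l => imp (cond l 0 0) (decide (l = [(253, 253)]))) (by decide +kernel)
  obtain rfl := of_decide_eq_true (imp_ok a2 (hc a1 (inner_sq_one χ.2 hν).2
    (altSq_ord (by norm_num) v23 (by norm_num)) (altSq_ord (by norm_num) v11 (by norm_num))))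
  obtain ⟨l, b1, b2⟩ := dec_of_ks2 (isCharacter_symSq χ.2.isCharacter)
    (symSq_one χ (c := 276) (by rw [hd]; rfl)) (fun ψ h _ => hT ψ h)
    (F := fun l => imp (cond l 1 1) (decide (l = [(1, 1), (23, 23), (252, 252)])))
    (by decide +kernel)
  obtain rfl := of_decide_eq_true (imp_ok b2 (hc b1 (inner_sq_one χ.2 hν).1
    (symSq_ord (by norm_num) v23 (by norm_num)) (symSq_ord (by norm_num) v11 (by norm_num))))
  have a3 := a1.count hd hu
  have b3 := b1.count hd hu
  obtain ⟨Ω, _, _, _, k1, k2, -⟩ := exists_action hν (a1.irr rfl) (by rw [b3]; simp) fun h => by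
    rw [h, χ.2.inner_self] at a3; simp at a3
  refine ⟨Ω, _, ‹_›, _, by rw [k1, hd], four_trans_of_char χ.2
    (fun h => ne_one_of_dg (χ := χ) (by omega) (Subtype.ext h)) k2 ?_ ?_⟩
  · rw [← symSq_add_altSq, classInner_add_left, a3, b3]; simp
  · rw [← symSq_add_altSq, (b1.add a1).norm (by decide)]; simp

theorem simple_sub {K : Subgroup G} (hK : Nat.card K = 10200960) : IsSimpleGroup K := by
  obtain ⟨x, hx⟩ := exists_prime_orderOf_dvd_card' (G := K) 23 (by rw [hK]; norm_num)
  obtain ⟨D⟩ := exists_BD' (hG hN) ((orderOf_coe x).trans hx) (by rw [hN]; norm_num) (by norm_num)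
  obtain ⟨m, h1, h2⟩ := sylow_sub D.ox D.nsq x.2
  have h3 : Nat.card (Sylow 23 K) % 23 = 1 := card_sylow_modEq_one 23 K
  rw [D.card_N, (data23 hN D).2.1, (data23 hN D).2.2] at h2
  refine Nse.simple_of_sylow (p := 23) (m := 443520) (r := 11) hK (by norm_num) (by norm_num)
    (by norm_num) (by norm_num) (by norm_num)
    (Nse.hq_of (B := 666) (by norm_num) (by decide +kernel)) ?_
  rcases (by decide : ∀ m ∈ Nat.divisors 253, m = 1 ∨ m = 11 ∨ m = 23 ∨ m = 253) m
    (Nat.mem_divisors.2 ⟨h2, by norm_num⟩) with rfl | rfl | rfl | rfl <;> omega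

theorem stab {Ω : Type} [Fintype Ω] [DecidableEq Ω] [MulAction G Ω] (hΩ : Fintype.card Ω = 24)
    (ht : IsMultiplyPretransitive G Ω 4) (a : Ω) : IsMultiplyPretransitive G Ω 5 ∧
      ∀ z : G, z ≠ 1 → z * z = 1 → z • a = a → (Fx Ω z).card ≤ 8 := by
  classical
  haveI := pretrans_of_mult ht (by omega)
  have h1 : Nat.card (stabilizer G a) = 10200960 := by
    have := (stabilizer G a).index_mul_card
    rw [index_stabilizer_of_transitive, Nat.card_eq_fintype_card, hΩ, hN] at this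
    omega
  haveI := simple_sub hN h1
  obtain ⟨χ, hd, hu, -, -, -, -, a4, a5, -, a6⟩ := M23.main h1
  have h2 : Nat.card (SubMulAction.ofStabilizer G a) = 23 := by
    have := SubMulAction.nat_card_ofStabilizer_add_one_eq G a
    rw [Nat.card_eq_fintype_card (α := Ω), hΩ] at this
    omega
  haveI := (SubMulAction.ofStabilizer.isMultiplyPretransitive (a := a)).1 ht
  have h3 := isMultiplyPretransitive_of_le (G := stabilizer G a)
    (α := SubMulAction.ofStabilizer G a) (m := 2) (n := 3) (by norm_num) (by omega)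
  haveI := pretrans_of_mult h3 (by rw [← Nat.card_eq_fintype_card]; omega)
  haveI : Nontrivial (SubMulAction.ofStabilizer G a) :=
    Finite.one_lt_card_iff_nontrivial.1 (by omega)
  have h4 := congrArg Subtype.val (hu ⟨_, (isIrr_permChar_sub_one_iff _).2 h3⟩
    (Block.charDegree_eq_of_eq (by
      rw [Subtype.coe_mk, Pi.sub_apply, permChar_apply, fixedBy_one_eq_univ, Nat.card_univ, h2]
      norm_num)))
  have h5 : permChar (stabilizer G a) (SubMulAction.ofStabilizer G a) = fun g => 1 + χ.1 g :=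
    funext fun g => by rw [← h4]; simp
  refine ⟨SubMulAction.ofStabilizer.isMultiplyPretransitive.2 (four_trans_of_char χ.2
    (fun h => ne_one_of_dg (χ := χ) (by omega) (Subtype.ext h)) h5 a4 a5), fun z z1 z2 hz => ?_⟩
  have h6 := congrFun h5 ⟨z, hz⟩
  have h7 : (⟨z, hz⟩ : stabilizer G a) * ⟨z, hz⟩ = 1 := Subtype.ext z2
  rw [permChar_apply, (isRat_of_sq h7).cast, a6 _ (fun h => z1 (congrArg Subtype.val h)) h7] at h6
  have h8 := Nat.card_le_card_of_injective (α := (Fx Ω z).erase a)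
    (β := fixedBy (SubMulAction.ofStabilizer G a) (⟨z, hz⟩ : stabilizer G a))
    (fun u => ⟨⟨u.1, (Finset.mem_erase.1 u.2).1⟩, Subtype.ext (mem_Fx.1 (Finset.mem_erase.1 u.2).2)⟩)
    fun u v h => Subtype.ext (congrArg (·.1.1) h)
  rw [Nat.card_eq_finsetCard, Finset.card_erase_of_mem (mem_Fx.2 hz),
    show Nat.card (fixedBy _ _) = 7 by exact_mod_cast h6] at h8
  omega

end Cfsg.Agent.Math.M24
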