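import Mathlib
import Cfsg.Agent.Math.Ext5
import Cfsg.Agent.Math.M24b

/-!
Orders of simple groups dividing 244823040 and divisible by 23, or dividing 443520 and divisible
by 11.
-/

set_option autoImplicit false
set_option linter.style.haveILetI false
set_option linter.unusedSectionVars false
set_option Elab.async false

namespace Cfsg.Agent.Math.Ord24

open Subgroup Cfsg.Agent.Small Cfsg.Agent.Char Cfsg.Agent.Char.Euclid Cfsg.Agent.Small.Sieve
open Cfsg.Agent.Math.M24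

attribute [local irreducible] dsA dsS dsY vt vi vr imp divs opts dall dvs

def allb : List (ℕ × ℕ) := [(2, 1), (2, 2), (2, 3), (2, 4), (2, 5), (2, 6), (2, 7), (2, 8), (2, 9),
  (2, 10), (3, 1), (3, 2), (3, 3), (5, 1), (7, 1), (11, 1), (23, 1)]

def btsOf (s : ℕ) : List (ℕ × ℕ) :=
  allb.filter fun r => s % r.1 ^ r.2 == 0 && !(s % r.1 ^ (r.2 + 1) == 0)

theorem bts_ok (s : ℕ) : Bts s (btsOf s) := fun r hr => by
  simp only [btsOf, List.mem_filter, Bool.and_eq_true, beq_iff_eq, Bool.not_eq_true',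
    beq_eq_false_iff_ne] at hr
  have := (by decide +kernel : ∀ r ∈ allb, r.1.Prime ∧ 0 < r.2) r hr.1
  exact ⟨this.1, this.2, Nat.dvd_of_mod_eq_zero hr.2.1, mt Nat.mod_eq_zero_of_dvd hr.2.2⟩

theorem dvs_ok {s : ℕ} (h : s ∣ 244823040) : Dvs s dvs := fun d h1 h2 =>
  hdvs d (h1.trans h) (h2.trans (Nat.le_of_dvd (by norm_num) h))

theorem mem_dall {s : ℕ} (h : s ∣ 244823040) : s ∈ dall :=
  divs_eq ▸ mem_divs h (by norm_num) (by norm_num)

def ops (s p : ℕ) : List (ℕ × ℕ × ℕ) :=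
  (dall.filter fun k => k % p == 1 && s / p % k == 0 && !(k == 1) && !idxKill s k).flatMap fun k =>
    ((List.range p).filter fun e => Nat.blt 1 e && (p - 1) % e == 0 && s / p % (k * e) == 0).map
      fun e => (k, e, s / p / (k * e))

noncomputable def sA (s p : ℕ) (P : ℕ × ℕ × ℕ → Prop) [DecidablePred P] (X : ℕ × ℕ × ℕ → ℕ → Bool)
    (q f : ℕ) (F : ℕ × ℕ × ℕ → List ℤ → Bool) : Bool :=
  (ops s p).all fun o => imp (P o) (dsA dvs (btsOf s) s p o (X o) q f (F o))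

def X1 (o : ℕ × ℕ × ℕ) (d : ℕ) : Bool := Nat.ble 12 d &&
  imp (11 ∣ o.2.1 ∧ o.2.2 ∣ 576 ∧ 2 ∣ o.2.2) (big 23 11 d) &&
  imp (11 ∣ o.2.1 ∧ o.2.2 ∣ 9 ∧ 3 ∣ o.2.2 ∧ 11 ∣ d) (decide (253 ≤ d ∧ d ≠ 495)) &&
  imp (o.2.2 = 1 ∧ (23 - 1) / o.2.1 % 2 = 1) (decide (d + 1 ≠ 23))

theorem chk1 : (dall.all fun s => imp (23 ∣ s ∧ 64009 ≤ s ∧ s ≠ 10200960 ∧ s ≠ 244823040)
    (sA s 23 (· ∉ [(1680, 11, 1), (1680, 22, 1), (40320, 22, 1)]) X1 1 1 fun _ _ => false)) =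
      true := by
  decide +kernel

noncomputable def c7 (s k e : ℕ) : Bool := sA s 7 (fun o => 11 ∣ o.2.2 ∧ ¬ 23 ∣ o.2.2)
  (fun _ d => Nat.ble 12 d && okd 23 e (k * e) d) 23 e fun _ l => decide (uniq (-69) l)

noncomputable def c11 (s k e : ℕ) : Bool :=
  sA s 11 (fun o => ¬ 7 ∣ o.2.2 ∧ ¬ 23 ∣ o.2.2 ∧ (e = 22 → 2 ∣ o.2.2))
    (fun _ d => Nat.ble 12 d && okd 23 e (k * e) d) 23 e fun o l => decide (e = 22) &&
      dall.all fun h => imp (h ∣ s ∧ ¬ 11 ∣ h ∧ 23 ∣ h ∧ 4 ∣ s / h)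
        (vt s h 11 o.2.1 o.2.2 0 qs (fb 23 2) [] (fun _ => false) l)

def X2 (o : ℕ × ℕ × ℕ) (d : ℕ) : Bool :=
  imp (5 ∣ o.2.1 ∧ o.2.2 ∣ 28 ∧ 2 ∣ o.2.2) (big 11 5 d) &&
  imp (o.2.2 = 1 ∧ (11 - 1) / o.2.1 % 2 = 1) (decide (d + 1 ≠ 11))

theorem chk2 : (dall.all fun s => imp (s ∣ 443520 ∧ 11 ∣ s ∧ 6000 ≤ s ∧ ¬ s ∣ 95040 ∧ s ≠ 443520)
    (sA s 11 (fun _ => True) X2 1 1 fun o _ =>
      decide (o ∈ [(672, 5, 1), (672, 10, 1), (144, 10, 7)]))) = true := by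
  decide +kernel

variable {G : Type*} [Group G] [Finite G] [IsSimpleGroup G] (hG : ¬ IsMulCommutative G)
include hG

theorem sA_ok {s p : ℕ} [hp : Fact p.Prime] (hN : Nat.card G = s) (hs : s ∣ 244823040) {x : G}
    (D : BD p x) {P : ℕ × ℕ × ℕ → Prop} [DecidablePred P] {X : ℕ × ℕ × ℕ → ℕ → Bool} {q f : ℕ}
    {F : ℕ × ℕ × ℕ → List ℤ → Bool} (h : sA s p P X q f F = true) (hP : P (D.k, D.e, D.c))
    (hX : ∀ χ ∈ D.blk, χ ≠ irrOne G → X (D.k, D.e, D.c) (dg χ) = true)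
    (hr : ((q - 1) / f : ℕ) + (D.xd.map (wq q f)).sum = 0) :
    ∃ l : List ℤ, ↑l = D.xd ∧ F (D.k, D.e, D.c) l = true := by
  refine D.dsA_ok hG hN (dvs_ok hs) (bts_ok s) hX hr (imp_ok (List.all_eq_true.1 h _ ?_) hP)
  obtain ⟨h1, h2, h3, h4, h5⟩ := D.data hG
  have h6 : s / p = D.k * D.e * D.c := by
    rw [← hN, D.card_G, Nat.mul_div_cancel_left _ hp.out.pos]
  simp only [ops, List.mem_flatMap, List.mem_filter, List.mem_map, List.mem_range, Nat.blt_eq,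
    Bool.and_eq_true, beq_iff_eq, Bool.not_eq_true', beq_eq_false_iff_ne]
  refine ⟨D.k, ⟨mem_dall (.trans ?_ hs), ⟨⟨h1, ?_⟩, h2.ne'⟩, ?_⟩, D.e, ⟨D.e_lt,
    ⟨h3, Nat.mod_eq_zero_of_dvd h4⟩, by rw [h6, Nat.mul_mod_right]⟩, ?_⟩
  · rw [← hN, D.card_G, mul_assoc]; exact (dvd_mul_right _ _).mul_left _
  · rw [h6, mul_assoc, Nat.mul_mod_right]
  · by_contra h
    exact idxKill_sound (Bool.eq_true_of_not_eq_false h) (hN ▸ h5)
  · rw [h6, Nat.mul_div_cancel_left _ (by positivity)]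

theorem no_c1 {s k e : ℕ} (hN : Nat.card G = s) (hs : s ∣ 244823040) (h0 : 23 ^ 4 ≤ s)
    (hq : Qs s qs) (h4 : 4 ∣ s) {x : G} (D : BD 23 x) (hk : D.k = k) (he : D.e = e) (hc : D.c = 1)
    (a7 : c7 s k e = true) (a11 : c11 s k e = true) : False := by
  have hX : ∀ χ : IrrCharacter G, χ ≠ irrOne G →
      (Nat.ble 12 (dg χ) && okd 23 e (k * e) (dg χ)) = true := fun χ h => by
    have := lt_two_mul_dg hG (p := 23) (by norm_num) (D.card_G ▸ dvd_mul_right _ _) D.nsq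
      (hN ▸ h0) h
    rw [← hk, ← he, D.okd_ok hc, Bool.and_true, Nat.ble_eq]; omega
  have h1 := he ▸ (D.data hG).2.2.1
  have h2 : ∀ {p} [Fact p.Prime] {y : G} (E : BD p y), p ≠ 23 → ¬ 23 ∣ E.c := fun {p} h _ E hp =>
    E.not_dvd_c' D (by rw [hc, Nat.dvd_one]; exact h.out.ne_one) hp
  have b7 := hq 7 (by decide)
  have b11 := hq 11 (by decide)
  have key : ∀ {y : G} (E : BD 11 y), (e = 22 → 2 ∣ E.c) → ∃ l : List ℤ, ↑l = E.xd ∧ _ :=
    fun E h => sA_ok hG hN hs E a11 ⟨by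
      obtain ⟨z, ⟨K⟩⟩ := exists_BD hG 7 (hN ▸ b7.2.2.1) (hN ▸ b7.2.2.2) (by norm_num)
      refine E.not_dvd_c' K (fun h => ?_) (by norm_num)
      obtain ⟨l, hl, h3⟩ := sA_ok hG hN hs K a7 ⟨h, h2 K (by norm_num)⟩ (fun χ _ => hX χ)
        (K.rel_xd D hc he h1 (by norm_num))
      have h5 := of_decide_eq_true h3
      exact absurd (K.rat_le_x hl h5.1 (by norm_num) h5.2 (by norm_num) (by norm_num) h)
        (by norm_num), h2 E (by norm_num), h⟩ (fun χ _ => hX χ) (E.rel_xd D hc he h1 (by norm_num))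
  by_cases h5 : e = 22
  swap
  · obtain ⟨y, ⟨E⟩⟩ := exists_BD hG 11 (hN ▸ b11.2.2.1) (hN ▸ b11.2.2.2) (by norm_num)
    obtain ⟨l, -, h⟩ := key E fun h => absurd h h5
    simp [h5] at h
  have h6 : ∀ a b : ℕ, x ^ a = x ^ b ↔ a % 23 = b % 23 := fun a b => by
    rw [pow_eq_pow_iff_modEq, D.ox]; rfl
  obtain ⟨g, g1, g2⟩ := D.exists_frob hc (by omega) (k := 5) (n := 22)
    (by simpa using (h6 5 0).not.2 (by norm_num)) (by simpa using (h6 5 1).not.2 (by norm_num))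
    (((h6 (5 ^ 22) 1).2 (by norm_num)).trans (pow_one x))
  have h7 : ∀ j, 5 ^ j % 23 ≠ 1 % 23 → g ^ j ≠ 1 := fun j h h' => h ((h6 _ _).1 (by
    rw [← g2, h']; simp))
  have t1 := h7 11 (by norm_num)
  have t2 : g ^ 11 * g ^ 11 = 1 := by rw [← pow_add, g1]
  have t3 : orderOf (g ^ 11) = 2 := orderOf_eq_prime (by rw [sq, t2]) t1
  have y1 : orderOf (g ^ 2) = 11 :=
    orderOf_eq_prime (by rw [← pow_mul, g1]) (h7 2 (by norm_num))
  have t4 := y1 ▸ orderOf_dvd_cent (Commute.pow_pow_self g 2 11)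
  obtain ⟨E⟩ := exists_BD' hG y1 (hN ▸ b11.2.2.2) (by norm_num)
  obtain ⟨l, hl, h⟩ := key E fun _ => E.dvd_c Nat.prime_two (by norm_num) t3 t4
  have h8 := hN ▸ (centralizer ({g ^ 11} : Set G)).index_dvd_card
  obtain ⟨w, -, h⟩ := E.vt_ok hG hN ((Nat.le_of_dvd (by norm_num) hs).trans (by norm_num)) hq t2 t1
    rfl rfl rfl (E.base_iv hN (isRat_of_sq t2) rfl ∅ (by simp)) hl (Multiset.zero_le _)
    (D.fb_ok hc (by omega) Nat.prime_two (by norm_num) t3 (mem_norm (g2 11)) (isRat_of_sq t2))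
    (imp_ok (List.all_eq_true.1 (Bool.and_eq_true_iff.1 h).2 _ (mem_dall (h8.trans hs)))
      ⟨h8, not_dvd_index' E.nsq t4, D.dvd_idx (by omega) t2 t1,
        card_cent hN rfl ▸ four_dvd_cent (hN ▸ h4) t2 t1⟩)
  exact Bool.false_ne_true h

theorem ord23 (h1 : 23 ∣ Nat.card G) (h2 : Nat.card G ∣ 244823040) (h3 : 64009 ≤ Nat.card G) :
    Nat.card G = 10200960 ∨ Nat.card G = 244823040 := by
  by_contra! h4
  obtain ⟨x, ⟨D⟩⟩ := exists_BD hG 23 h1 (fun h => absurd (h.trans h2) (by norm_num)) (by norm_num)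
  have h5 : ¬ 11 ^ 2 ∣ Nat.card G := fun h => absurd (h.trans h2) (by norm_num)
  by_cases h6 : (D.k, D.e, D.c) ∈ [(1680, 11, 1), (1680, 22, 1), (40320, 22, 1)]
  · have h7 := D.card_G
    simp only [List.mem_cons, Prod.mk.injEq, List.not_mem_nil, or_false] at h6
    rcases h6 with ⟨a, b, c⟩ | ⟨a, b, c⟩ | ⟨a, b, c⟩ <;> rw [a, b, c] at h7 <;>
      exact no_c1 hG h7 (by norm_num) (by norm_num) (by decide +kernel) (by norm_num) D a b c
        (by decide +kernel) (by decide +kernel)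
  obtain ⟨l, -, h⟩ := sA_ok hG rfl h2 D (imp_ok (List.all_eq_true.1 chk1 _ (mem_dall h2))
    ⟨h1, h3, h4⟩) h6 (fun χ a1 a2 => by
      have a3 := le_two_mul_dg h1 D.nsq (by omega) a2
      simp only [X1, imp, Bool.and_eq_true, Nat.ble_eq, Bool.or_eq_true, Bool.not_eq_true',
        decide_eq_false_iff_not, decide_eq_true_eq, ← imp_iff_not_or]
      refine ⟨⟨⟨by omega, fun h => ?_⟩, fun h => ?_⟩, fun h => D.ne_pred hG h.1 h.2 a1 a2⟩
      · obtain ⟨t, t1, t2, t3, t4⟩ := D.exists_comm_invol (r := 11) (by norm_num) h.1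
          (fun h' => absurd (h'.trans (Nat.mul_dvd_mul_left _ h.2.1)) (by norm_num)) h.2.2
          fun k h3 h4 => BD.two_pow_ne (c := 23 * 576) (by decide) (by norm_num) k h3
            (h4.trans (Nat.mul_dvd_mul_left _ h.2.1))
        exact D.lt_dg hG (by norm_num) (by norm_num) (by norm_num) h5 t2 t1 t3 t4 a1 a2
      · have := D.le_dg_three (r := 11) (by norm_num) h.1
          (fun h' => absurd (h'.trans (Nat.mul_dvd_mul_left _ h.2.1)) (by norm_num)) h.2.2.1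
          (fun k h3 h4 => by
            replace h4 := h4.trans (Nat.mul_dvd_mul_left _ h.2.1)
            have : k < 3 := by
              by_contra! h
              exact absurd ((pow_dvd_pow 3 h).trans h4) (by norm_num)
            interval_cases k <;> norm_num) h5 (by norm_num) a1 a2 h.2.2.2
        omega) D.rel_one
  exact Bool.false_ne_true h

theorem ord11 (h1 : 11 ∣ Nat.card G) (h2 : Nat.card G ∣ 443520) (h3 : 6000 ≤ Nat.card G) :
    Nat.card G ∣ 95040 ∨ Nat.card G = 443520 := by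
  by_contra! h4
  have h5 := h2.trans (by norm_num : 443520 ∣ 244823040)
  obtain ⟨x, ⟨D⟩⟩ := exists_BD hG 11 h1 (fun h => absurd (h.trans h2) (by norm_num)) (by norm_num)
  obtain ⟨l, -, h⟩ := sA_ok hG rfl h5 D (imp_ok (List.all_eq_true.1 chk2 _ (mem_dall h5))
    ⟨h2, h1, h3, h4⟩) trivial (fun χ a1 a2 => by
      simp only [X2, imp, Bool.and_eq_true, Bool.or_eq_true, Bool.not_eq_true',
        decide_eq_false_iff_not, decide_eq_true_eq, ← imp_iff_not_or]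
      refine ⟨fun h => ?_, fun h => D.ne_pred hG h.1 h.2 a1 a2⟩
      obtain ⟨t, t1, t2, t3, t4⟩ := D.exists_comm_invol (r := 5) (by norm_num) h.1
        (fun h' => absurd (h'.trans (Nat.mul_dvd_mul_left _ h.2.1)) (by norm_num)) h.2.2
        fun k h3 h4 => BD.two_pow_ne (c := 11 * 28) (by decide) (by norm_num) k h3
          (h4.trans (Nat.mul_dvd_mul_left _ h.2.1))
      exact D.lt_dg hG (by norm_num) (by norm_num) (by norm_num)
        (fun h => absurd (h.trans h2) (by norm_num)) t2 t1 t3 t4 a1 a2) D.rel_one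
  have h6 := of_decide_eq_true h
  have h7 := D.card_G
  simp only [List.mem_cons, Prod.mk.injEq, List.not_mem_nil, or_false] at h6
  obtain ⟨z, ⟨K⟩⟩ := exists_BD hG 7 (by
    rcases h6 with ⟨a, b, c⟩ | ⟨a, b, c⟩ | ⟨a, b, c⟩ <;> rw [h7, a, b, c] <;> norm_num)
    (fun h => absurd (h.trans h2) (by norm_num)) (by norm_num)
  have h8 : ∀ {s e}, Nat.card G = s → D.k = 672 → D.e = e → D.c = 1 → 11 ^ 4 ≤ s →
      sA s 7 (¬ 11 ∣ ·.2.2) (fun _ d => Nat.ble 6 d && okd 11 e (672 * e) d) 1 1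
        (fun _ _ => false) = true → False := fun hs a b c d h => by
    obtain ⟨l, -, h⟩ := sA_ok hG hs (hs ▸ h5) K h (K.not_dvd_c' D (by omega) (by norm_num))
      (fun χ _ h => by
        have := lt_two_mul_dg hG (p := 11) (by norm_num) h1 D.nsq (hs ▸ d) h
        rw [← a, ← b, D.okd_ok c, Bool.and_true, Nat.ble_eq]; omega) K.rel_one
    exact Bool.false_ne_true h
  rcases h6 with ⟨a, b, c⟩ | ⟨a, b, c⟩ | ⟨a, b, c⟩ <;> rw [a, b, c] at h7
  · exact h8 h7 a b c (by norm_num) (by decide +kernel)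
  · exact h8 h7 a b c (by norm_num) (by decide +kernel)
  · have h9 : 11 ∣ K.c := by
      by_contra h
      exact D.not_dvd_c' K h (by norm_num) (c ▸ dvd_rfl)
    obtain ⟨l, hl, h⟩ := sA_ok hG h7 (by norm_num) K (P := (11 ∣ ·.2.2)) (X := fun _ _ => true)
      (F := fun _ l => decide (uniq 15 l)) (by decide +kernel) h9 (fun _ _ _ => rfl) K.rel_one
    have h10 := of_decide_eq_true h
    exact absurd (K.rat_le_x hl h10.1 (by norm_num) h10.2 (by norm_num) (by norm_num) h9)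
      (by norm_num)

end Cfsg.Agent.Math.Ord24
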